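import Mathlib
import Cfsg.Agent.Helper5.BlkNorm
import Cfsg.Agent.Helper24.CharCodeg
import Cfsg.Agent.Helper24.CharBurnside

/-!
helper5: kernels of blocks, the principal block of a group with a normal `p`-complement,
characters of prime power degree in the principal block of a simple group.
-/

set_option autoImplicit false

namespace Cfsg.Agent.Helper5

open Cfsg Cfsg.Agent.Helper24 Cfsg.Agent.Helper22

universe u

variable {G : Type u} [Group G] [Fintype G]

omit [Fintype G] in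
theorem sameBlock_trans {M : Ideal AlgInt} [hM : M.IsPrime] {a b c : G → ℂ}
    (h1 : SameBlock M a b) (h2 : SameBlock M b c) : SameBlock M a c := fun g => by
  have h := memLocalIdeal_add hM (h1 g) (h2 g)
  rwa [sub_add_sub_cancel] at h

/-- Clifford for the trivial character of a normal subgroup. -/
theorem const_on_of_inner_one_ne_zero (N : Subgroup G) [hN : N.Normal] [Fintype N]
    (ψ : IrrCharacter G)
    (h : classInner (fun n : N => (ψ : G → ℂ) n) (fun _ : N => (1 : ℂ)) ≠ 0) (g : G)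
    (hg : g ∈ N) : (ψ : G → ℂ) g = (ψ : G → ℂ) 1 := by
  have hcl := clifford_restrict N hN (ψ : G → ℂ) ψ.2 (fun _ : N => (1 : ℂ)) Helper24.isIrrCharacter_one h
  have hset : {ψ' : N → ℂ | ∃ g : G, ψ' = fun n : N =>
      (fun _ : N => (1 : ℂ)) ⟨g * n * g⁻¹, hN.conj_mem n n.2 g⟩} = {fun _ : N => (1 : ℂ)} := by
    ext φ
    simp only [Set.mem_ofPred_eq, Set.mem_singleton_iff]
    exact ⟨fun ⟨_, h⟩ => h, fun h => ⟨1, h⟩⟩
  rw [hset, finsum_mem_singleton] at hcl
  have h1 := congrFun hcl ⟨g, hg⟩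
  have h2 := congrFun hcl 1
  simp only [Pi.smul_apply, smul_eq_mul, mul_one] at h1 h2
  exact h1.trans h2.symm

theorem inner_one_of_const (N : Subgroup G) [Fintype N] (χ : IrrCharacter G)
    (h : ∀ g ∈ N, (χ : G → ℂ) g = (χ : G → ℂ) 1) :
    classInner (fun n : N => (χ : G → ℂ) n) (fun _ : N => (1 : ℂ)) ≠ 0 := by
  have hN0 : (Nat.card N : ℂ) ≠ 0 := Nat.cast_ne_zero.mpr Nat.card_pos.ne'
  rw [classInner_def']
  have e : ∑ n : N, (χ : G → ℂ) n * starRingEnd ℂ (1 : ℂ)
      = (Nat.card N : ℂ) * (χ : G → ℂ) 1 := by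
    rw [Finset.sum_congr rfl fun n _ => by rw [h n n.2, map_one, mul_one], Finset.sum_const,
      Finset.card_univ, nsmul_eq_mul, Nat.card_eq_fintype_card]
  rw [e, ← mul_assoc, inv_mul_cancel₀ hN0, one_mul]
  exact Cfsg.Agent.Helper5.irr_one_ne_zero χ

/-- a normal `p'`-subgroup in the kernel of one member of a block is in the kernel of all. -/
theorem ker_of_sameBlock {p : ℕ} {M : Ideal AlgInt} (hM : IsPModular p M) [hMp : M.IsPrime]
    (N : Subgroup G) [hN : N.Normal] (hpN : ¬ p ∣ Nat.card N) (χ ψ : IrrCharacter G)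
    (h : SameBlock M (χ : G → ℂ) (ψ : G → ℂ))
    (hχ : ∀ g ∈ N, (χ : G → ℂ) g = (χ : G → ℂ) 1) :
    ∀ g ∈ N, (ψ : G → ℂ) g = (ψ : G → ℂ) 1 := by
  classical
  have : Fintype N := Fintype.ofFinite _
  intro g hg
  exact const_on_of_inner_one_ne_zero N ψ
    (res_const_of_sameBlock hM N hpN χ ψ h ⟨fun _ => 1, Helper24.isIrrCharacter_one⟩
      (inner_one_of_const N χ hχ)) g hg

omit [Fintype G] in
theorem exists_ker_subgroup [Finite G] (ψ : IrrCharacter G) :
    ∃ K : Subgroup G, K.Normal ∧ ∀ g, g ∈ K ↔ (ψ : G → ℂ) g = (ψ : G → ℂ) 1 := by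
  obtain ⟨n, ρ, hρ, hψ⟩ := ψ.2
  have := hρ
  refine ⟨MonoidHom.ker ρ, MonoidHom.normal_ker ρ, fun g => ?_⟩
  rw [← hψ]
  exact (codeg_char_eq ρ).2.2 g

/-- the kernel of a block is `O_{p'}` of the kernel of any of its members. -/
theorem block_kernel {p : ℕ} {M : Ideal AlgInt} (hM : IsPModular p M) [hMp : M.IsPrime]
    (χ₀ : IrrCharacter G) (χ : IrrCharacter G) (hχ : χ ∈ blockOf M (χ₀ : G → ℂ)) :
    ∃ K : Subgroup G, K.Normal ∧ (K : Set G) = blockKer (blockOf M (χ₀ : G → ℂ)) ∧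
      ¬ p ∣ Nat.card K ∧ (∀ g ∈ K, (χ : G → ℂ) g = (χ : G → ℂ) 1) ∧
      ∀ N : Subgroup G, N.Normal → ¬ p ∣ Nat.card N →
        (∀ g ∈ N, (χ : G → ℂ) g = (χ : G → ℂ) 1) → N ≤ K := by
  classical
  have hp := hM.1
  have : Fact p.Prime := ⟨hp⟩
  choose KK hKn hKmem using (exists_ker_subgroup (G := G))
  obtain ⟨K, hKdef⟩ : ∃ K : Subgroup G,
      K = ⨅ ψ : {ψ : IrrCharacter G // ψ ∈ blockOf M (χ₀ : G → ℂ)}, KK ψ.1 := ⟨_, rfl⟩
  have hKm : ∀ g, g ∈ K ↔ ∀ ψ ∈ blockOf M (χ₀ : G → ℂ), (ψ : G → ℂ) g = (ψ : G → ℂ) 1 := by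
    intro g
    rw [hKdef, Subgroup.mem_iInf]
    constructor
    · intro h ψ hψ
      exact (hKmem ψ g).mp (h ⟨ψ, hψ⟩)
    · intro h ψ
      exact (hKmem ψ.1 g).mpr (h ψ.1 ψ.2)
  have hKnorm : K.Normal := by
    rw [hKdef]
    exact Subgroup.normal_iInf_normal fun ψ => hKn ψ.1
  refine ⟨K, hKnorm, ?_, ?_, ?_, ?_⟩
  · ext g
    exact hKm g
  · intro hpK
    obtain ⟨y, hy⟩ := exists_prime_orderOf_dvd_card' p hpK
    have hyG : p ∣ orderOf (y : G) := by rw [Subgroup.orderOf_coe, hy]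
    have hwo := weak_block_orth_sum hM χ₀ 1 (y : G)
      (by rw [orderOf_one]; exact hp.not_dvd_one) hyG
    choose d hd using (irr_one_eq_natCast_pos (G := G))
    have e : ∀ ψ ∈ Finset.univ.filter
        (fun ψ : IrrCharacter G => SameBlock M (χ₀ : G → ℂ) (ψ : G → ℂ)),
        (ψ : G → ℂ) 1 * starRingEnd ℂ ((ψ : G → ℂ) (y : G)) = ((d ψ ^ 2 : ℕ) : ℂ) := by
      intro ψ hψ
      have hψB : ψ ∈ blockOf M (χ₀ : G → ℂ) := (Finset.mem_filter.mp hψ).2
      rw [(hKm y).mp y.2 ψ hψB, (hd ψ).2, Complex.conj_natCast]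
      push_cast
      ring
    rw [Finset.sum_congr rfl e, ← Nat.cast_sum] at hwo
    have h0 := Nat.cast_eq_zero.mp hwo
    have h1 := (Finset.sum_eq_zero_iff.mp h0) χ
      (Finset.mem_filter.mpr ⟨Finset.mem_univ _, hχ⟩)
    exact absurd h1 (pow_pos (hd χ).1 2).ne'
  · intro g hg
    exact (hKm g).mp hg χ hχ
  · intro N hNn hpN hNχ g hg
    rw [hKm]
    intro ψ hψ
    have hsb : SameBlock M (χ : G → ℂ) (ψ : G → ℂ) := sameBlock_trans (sameBlock_symm hχ) hψ
    exact ker_of_sameBlock hM N hpN χ ψ hsb hNχ g hg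

/-- the principal block of a group with a normal `p`-complement. -/
theorem principal_block_of_normal_compl {p : ℕ} {M : Ideal AlgInt} (hM : IsPModular p M)
    [hMp : M.IsPrime] (hnc : ∃ k : ℕ, (pPrimeCore p G).index = p ^ k) :
    principalBlock M G
      = {χ : IrrCharacter G | ∀ n ∈ pPrimeCore p G, (χ : G → ℂ) n = (χ : G → ℂ) 1} := by
  classical
  have hp := hM.1
  have : Fact p.Prime := ⟨hp⟩
  have hchar := Cfsg.Agent.Helper9.pPrimeCore_characteristic p G
  have hNn : (pPrimeCore p G).Normal := inferInstance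
  have hpN : ¬ p ∣ Nat.card (pPrimeCore p G) := fun hd =>
    hp.one_lt.ne' (Nat.Coprime.eq_one_of_dvd (Cfsg.Agent.Helper9.pPrimeCore_coprime p G).symm hd)
  obtain ⟨N, hNdef⟩ : ∃ N : Subgroup G, N = pPrimeCore p G := ⟨_, rfl⟩
  rw [← hNdef] at hnc hpN hNn ⊢
  obtain ⟨k, hk⟩ := hnc
  obtain ⟨triv, htriv⟩ : ∃ t : IrrCharacter G, (t : G → ℂ) = fun _ => 1 :=
    ⟨⟨_, Helper24.isIrrCharacter_one⟩, rfl⟩
  have hsing : ∀ g : G, g ∉ N → p ∣ orderOf g := by
    intro g hg
    have h1 : orderOf (QuotientGroup.mk' N g) ∣ p ^ k := by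
      rw [← hk, Subgroup.index_eq_card]
      exact orderOf_dvd_natCard _
    obtain ⟨j, -, hj⟩ := (Nat.dvd_prime_pow hp).mp h1
    have hj0 : j ≠ 0 := by
      intro h0
      rw [h0, pow_zero, orderOf_eq_one_iff] at hj
      exact hg ((QuotientGroup.eq_one_iff g).mp hj)
    have h2 : p ∣ orderOf (QuotientGroup.mk' N g) := by
      rw [hj]
      exact dvd_pow_self p hj0
    exact h2.trans (orderOf_map_dvd (QuotientGroup.mk' N) g)
  ext χ
  show SameBlock M (fun _ : G => (1 : ℂ)) (χ : G → ℂ) ↔ ∀ n ∈ N, (χ : G → ℂ) n = (χ : G → ℂ) 1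
  rw [← htriv]
  constructor
  · intro h
    exact ker_of_sameBlock hM N hpN triv χ h (fun g _ => by rw [htriv])
  · intro hχ
    by_contra hnot
    obtain ⟨S, hS⟩ : ∃ S : Finset (IrrCharacter G), S = Finset.univ.filter
        (fun ψ : IrrCharacter G => SameBlock M (χ : G → ℂ) (ψ : G → ℂ)) := ⟨_, rfl⟩
    have hSmem : ∀ ψ : IrrCharacter G, ψ ∈ S ↔ SameBlock M (χ : G → ℂ) (ψ : G → ℂ) :=
      fun ψ => by
        rw [hS, Finset.mem_filter]
        exact ⟨fun h => h.2, fun h => ⟨Finset.mem_univ _, h⟩⟩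
    have htrivS : triv ∉ S := fun hc => hnot (sameBlock_symm ((hSmem triv).mp hc))
    have hχS : χ ∈ S := (hSmem χ).mpr (sameBlock_refl _)
    choose d hd using (irr_one_eq_natCast_pos (G := G))
    have hT0 : ∀ g : G, g ∉ N →
        ∑ ψ ∈ S, (ψ : G → ℂ) 1 * starRingEnd ℂ ((ψ : G → ℂ) g) = 0 := by
      intro g hg
      rw [hS]
      exact weak_block_orth_sum hM χ 1 g (by rw [orderOf_one]; exact hp.not_dvd_one)
        (hsing g hg)
    have hT1 : ∀ g : G, g ∈ N →
        ∑ ψ ∈ S, (ψ : G → ℂ) 1 * starRingEnd ℂ ((ψ : G → ℂ) g)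
          = ((∑ ψ ∈ S, d ψ ^ 2 : ℕ) : ℂ) := by
      intro g hg
      rw [Nat.cast_sum]
      refine Finset.sum_congr rfl fun ψ hψ => ?_
      rw [ker_of_sameBlock hM N hpN χ ψ ((hSmem ψ).mp hψ) hχ g hg, (hd ψ).2,
        Complex.conj_natCast]
      push_cast
      ring
    have hsum1 : ∑ g : G, ∑ ψ ∈ S, (ψ : G → ℂ) 1 * starRingEnd ℂ ((ψ : G → ℂ) g)
        = ((Finset.univ.filter (fun g : G => g ∈ N)).card : ℂ)
          * ((∑ ψ ∈ S, d ψ ^ 2 : ℕ) : ℂ) := by
      rw [← Finset.sum_filter_add_sum_filter_not Finset.univ (fun g : G => g ∈ N)]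
      rw [Finset.sum_congr rfl fun g hg => hT1 g (Finset.mem_filter.mp hg).2,
        Finset.sum_congr (s₂ := Finset.univ.filter (fun g : G => g ∉ N)) rfl
          fun g hg => hT0 g (Finset.mem_filter.mp hg).2,
        Finset.sum_const, Finset.sum_const_zero, add_zero, nsmul_eq_mul]
    have hsum2 : ∑ g : G, ∑ ψ ∈ S, (ψ : G → ℂ) 1 * starRingEnd ℂ ((ψ : G → ℂ) g) = 0 := by
      rw [Finset.sum_comm]
      refine Finset.sum_eq_zero fun ψ hψ => ?_
      have hne : (ψ : G → ℂ) ≠ fun _ => 1 := by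
        intro he
        apply htrivS
        have : ψ = triv := Subtype.ext (he.trans htriv.symm)
        rwa [← this]
      rw [← Finset.mul_sum, ← map_sum, sum_irr_eq_zero ψ hne, map_zero, mul_zero]
    rw [hsum2] at hsum1
    have h1 : ((Finset.univ.filter (fun g : G => g ∈ N)).card * (∑ ψ ∈ S, d ψ ^ 2) : ℕ) = 0 := by
      have h2 : (((Finset.univ.filter (fun g : G => g ∈ N)).card * (∑ ψ ∈ S, d ψ ^ 2) : ℕ) : ℂ)
          = 0 := by
        rw [Nat.cast_mul]
        exact hsum1.symm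
      exact Nat.cast_eq_zero.mp h2
    rcases Nat.mul_eq_zero.mp h1 with h3 | h3
    · have h4 : (1 : G) ∈ Finset.univ.filter (fun g : G => g ∈ N) :=
        Finset.mem_filter.mpr ⟨Finset.mem_univ _, N.one_mem⟩
      rw [Finset.card_eq_zero] at h3
      rw [h3] at h4
      exact absurd h4 (Finset.notMem_empty _)
    · have h4 := (Finset.sum_eq_zero_iff.mp h3) χ hχS
      exact absurd h4 (pow_pos (hd χ).1 2).ne'

/-- in a non-abelian simple group, a character of `p`-power degree in the principal block is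
trivial. -/
theorem principal_prime_power_degree {p : ℕ} {M : Ideal AlgInt} (hM : IsPModular p M)
    [hMp : M.IsPrime] [IsSimpleGroup G] (hna : ∃ a b : G, a * b ≠ b * a) (χ : IrrCharacter G)
    (hχ : χ ∈ principalBlock M G) (k : ℕ) (hdeg : (χ : G → ℂ) 1 = (p : ℂ) ^ k) :
    (χ : G → ℂ) = fun _ => 1 := by
  classical
  have hp := hM.1
  have : Fact p.Prime := ⟨hp⟩
  obtain ⟨triv, htriv⟩ : ∃ t : IrrCharacter G, (t : G → ℂ) = fun _ => 1 :=
    ⟨⟨_, Helper24.isIrrCharacter_one⟩, rfl⟩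
  have hsb : SameBlock M (triv : G → ℂ) (χ : G → ℂ) := by
    rw [htriv]
    exact hχ
  by_cases hpG : p ∣ Nat.card G
  · by_contra hχ1
    obtain ⟨P⟩ := (inferInstance : Nonempty (Sylow p G))
    have hPcard : Nat.card (P : Subgroup G) = p ^ (Nat.card G).factorization p :=
      P.card_eq_multiplicity
    have hPnt : Nontrivial (P : Subgroup G) := by
      rw [← Finite.one_lt_card_iff_nontrivial, hPcard]
      exact Nat.one_lt_pow (hp.factorization_pos_of_dvd Nat.card_pos.ne' hpG).ne' hp.one_lt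
    have hcn := IsPGroup.center_nontrivial P.isPGroup'
    obtain ⟨z, hz1⟩ := exists_ne (1 : Subgroup.center (P : Subgroup G))
    obtain ⟨g, hgdef⟩ : ∃ g : G, g = ((z : (P : Subgroup G)) : G) := ⟨_, rfl⟩
    have hg1 : g ≠ 1 := by
      intro h
      apply hz1
      apply Subtype.ext
      apply Subtype.ext
      rw [← hgdef, h]
      rfl
    have hPC : (P : Subgroup G) ≤ Subgroup.centralizer ({g} : Set G) := by
      intro x hx
      rw [Subgroup.mem_centralizer_singleton_iff, hgdef]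
      have h1 := Subgroup.mem_center_iff.mp z.2 ⟨x, hx⟩
      exact congrArg Subtype.val h1
    have hidx : ¬ p ∣ (Subgroup.centralizer ({g} : Set G)).index := fun h =>
      P.not_dvd_index (h.trans (Subgroup.index_dvd_of_le hPC))
    have h10 := Cfsg.Agent.Helper5.irr_one_ne_zero χ
    have hidx0 : ((Subgroup.centralizer ({g} : Set G)).index : ℂ) ≠ 0 :=
      index_centralizer_ne_zero g
    have h1 := hsb g
    have e1 : centralChar (triv : G → ℂ) g - centralChar (χ : G → ℂ) g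
        = ((Subgroup.centralizer ({g} : Set G)).index : ℂ)
          * (1 - (χ : G → ℂ) g / (χ : G → ℂ) 1) := by
      unfold centralChar
      rw [htriv]
      field_simp
    rw [e1] at h1
    have h2 := memLocalIdeal_mul_left (natCast_inv_memLocalRing hM hidx) h1
    rw [← mul_assoc, inv_mul_cancel₀ hidx0, one_mul] at h2
    have hg0 : (χ : G → ℂ) g ≠ 0 := by
      intro h0
      rw [h0, zero_div, sub_zero] at h2
      exact not_memLocalIdeal_one h2
    have hZ : Subgroup.center G = ⊥ := by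
      rcases (inferInstance : (Subgroup.center G).Normal).eq_bot_or_eq_top with h | h
      · exact h
      · exfalso
        obtain ⟨a, b, hab⟩ := hna
        have ha : b ∈ Subgroup.center G := by rw [h]; exact Subgroup.mem_top b
        exact hab (Subgroup.mem_center_iff.mp ha a)
    have hsumne : ∑ x : G, (χ : G → ℂ) x = 0 := sum_irr_eq_zero χ hχ1
    obtain ⟨n, ρ, hρ, hρχ⟩ := χ.2
    have hirr : ρ.IsIrreducible := hρ
    have hn : (χ : G → ℂ) 1 = (Module.finrank ℂ (Fin n → ℂ) : ℂ) := by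
      rw [← hρχ, Representation.char_one]
    have hnk : Module.finrank ℂ (Fin n → ℂ) = p ^ k := by
      have h3 : ((Module.finrank ℂ (Fin n → ℂ) : ℕ) : ℂ) = ((p ^ k : ℕ) : ℂ) := by
        rw [← hn, hdeg, Nat.cast_pow]
      exact Nat.cast_injective h3
    have hcop : Nat.Coprime (Module.finrank ℂ (Fin n → ℂ))
        (Subgroup.centralizer ({g} : Set G)).index := by
      rw [hnk]
      exact Nat.Coprime.pow_left k ((Nat.Prime.coprime_iff_not_dvd hp).mpr hidx)
    rcases char_eq_zero_or_norm_eq ρ g hcop with h0 | h1'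
    · rw [hρχ] at h0
      exact hg0 h0
    · have hker : MonoidHom.ker ρ ≠ ⊤ := by
        intro htop
        have hall : ∀ x : G, (χ : G → ℂ) x = (Module.finrank ℂ (Fin n → ℂ) : ℂ) := by
          intro x
          have hx : x ∈ MonoidHom.ker ρ := by rw [htop]; exact Subgroup.mem_top x
          rw [MonoidHom.mem_ker] at hx
          rw [← hρχ]
          show LinearMap.trace ℂ _ (ρ x) = _
          rw [hx, LinearMap.trace_one]
        simp only [hall, Finset.sum_const, Finset.card_univ, nsmul_eq_mul] at hsumne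
        have h1'' : (Fintype.card G : ℂ) ≠ 0 := Nat.cast_ne_zero.mpr Fintype.card_pos.ne'
        have h2' : (Module.finrank ℂ (Fin n → ℂ) : ℂ) ≠ 0 := by
          rw [← hn]
          exact h10
        exact mul_ne_zero h1'' h2' hsumne
      have hinj : MonoidHom.ker ρ = ⊥ :=
        ((MonoidHom.normal_ker ρ).eq_bot_or_eq_top).resolve_right hker
      obtain ⟨ω, hω⟩ := (norm_char_eq_finrank_iff ρ g).mp h1'
      have hgc : g ∈ Subgroup.center G := by
        rw [Subgroup.mem_center_iff]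
        intro x
        have h3 : ρ (x * g) = ρ (g * x) := by
          rw [map_mul, map_mul, hω]
          ext v
          simp
        have h4 : (x * g) * (g * x)⁻¹ ∈ MonoidHom.ker ρ := by
          rw [MonoidHom.mem_ker, map_mul, h3, ← map_mul, mul_inv_cancel, map_one]
        rw [hinj, Subgroup.mem_bot] at h4
        exact mul_inv_eq_one.mp h4
      rw [hZ, Subgroup.mem_bot] at hgc
      exact hg1 hgc
  · have h0 : ¬ p ∣ Nat.card G / charDegree (triv : G → ℂ) := by
      have h1 : charDegree (triv : G → ℂ) = 1 := charDegree_of_eq (by rw [htriv]; simp)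
      rw [h1, Nat.div_one]
      exact hpG
    have hB := (defect_zero_iff hM triv).mp h0
    have hmem : χ ∈ blockOf M (triv : G → ℂ) := hsb
    rw [hB, Set.mem_singleton_iff] at hmem
    rw [hmem, htriv]

end Cfsg.Agent.Helper5
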