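import Mathlib
import Cfsg.Agent.Helper5.BlkKer
import Cfsg.Agent.S0932
import Cfsg.Agent.Helper24.CharGagola
import Cfsg.Agent.Helper22.Ito

/-!
helper5: induced blocks (central-character form) and blocks of groups with a normal
`p`-complement.
-/

set_option autoImplicit false

namespace Cfsg.Agent.Helper5

open Cfsg Cfsg.Agent.Helper24 Cfsg.Agent.Helper22

universe u

variable {G : Type u} [Group G] [Fintype G]

/-- the induced central character as a finite sum. -/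
theorem inducedCentralChar_eq (H : Subgroup G) [Fintype H] (ξ : H → ℂ) (g : G)
    [DecidablePred fun h : H => IsConj g (h : G)] :
    inducedCentralChar H ξ g
      = (ξ 1)⁻¹ * ∑ h : H, (if IsConj g (h : G) then (1 : ℂ) else 0) * ξ h := by
  unfold inducedCentralChar
  rw [finsum_mem_def, finsum_eq_sum_of_fintype, Finset.mul_sum]
  refine Finset.sum_congr rfl fun h _ => ?_
  by_cases hc : IsConj g (h : G)
  · rw [Set.indicator_of_mem (show h ∈ {h : H | IsConj g (h : G)} from hc), if_pos hc, one_mul,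
      div_eq_inv_mul]
  · rw [Set.indicator_of_notMem (show h ∉ {h : H | IsConj g (h : G)} from hc), if_neg hc,
      zero_mul, mul_zero]

theorem inducedCentralChar_congr {M : Ideal AlgInt} [hMp : M.IsPrime] (H : Subgroup G)
    (ξ ξ' : IrrCharacter H) (h : SameBlock M (ξ : H → ℂ) (ξ' : H → ℂ)) (g : G) :
    MemLocalIdeal M (inducedCentralChar H (ξ : H → ℂ) g
      - inducedCentralChar H (ξ' : H → ℂ) g) := by
  classical
  have : Fintype H := Fintype.ofFinite _
  rw [inducedCentralChar_eq, inducedCentralChar_eq]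
  refine classFun_congr (G := H) (F := fun h : H => if IsConj g (h : G) then (1 : ℂ) else 0)
    ?_ ?_ h
  · intro h k
    show (if IsConj g ((k * h * k⁻¹ : H) : G) then (1 : ℂ) else 0)
      = if IsConj g (h : G) then (1 : ℂ) else 0
    have hc : IsConj (h : G) ((k * h * k⁻¹ : H) : G) := isConj_iff.mpr ⟨(k : G), by simp⟩
    have hiff : IsConj g ((k * h * k⁻¹ : H) : G) ↔ IsConj g (h : G) :=
      ⟨fun hx => hx.trans hc.symm, fun hx => hx.trans hc⟩
    simp only [hiff]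
  · intro h
    by_cases hc : IsConj g (h : G)
    · simp only [if_pos hc]
      exact (locRing M).one_mem
    · simp only [if_neg hc]
      exact (locRing M).zero_mem

/-- if `ξ^G` is irreducible, the block of `ξ` induces the block of `ξ^G`. -/
theorem induced_block_of_irr {M : Ideal AlgInt} [hMp : M.IsPrime] (H : Subgroup G)
    (ξ : IrrCharacter H) (hind : IsIrrCharacter G (indFun H (ξ : H → ℂ))) :
    IsInducedBlock M H (blockOf M (ξ : H → ℂ)) (blockOf M (indFun H (ξ : H → ℂ))) := by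
  refine ⟨⟨ξ, rfl⟩, ⟨⟨indFun H (ξ : H → ℂ), hind⟩, rfl⟩, ?_⟩
  intro ξ' hξ' χ hχ g
  have h1 : inducedCentralChar H (ξ : H → ℂ) g = centralChar (indFun H (ξ : H → ℂ)) g :=
    Cfsg.Agent.S0932.result H (ξ : H → ℂ) (isCharacter_of_isIrrCharacter ξ.2) g
  have h2 := inducedCentralChar_congr H ξ ξ' hξ' g
  have h3 : MemLocalIdeal M (centralChar (indFun H (ξ : H → ℂ)) g
      - centralChar (χ : G → ℂ) g) := hχ g
  have e : inducedCentralChar H (ξ' : H → ℂ) g - centralChar (χ : G → ℂ) g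
      = -(inducedCentralChar H (ξ : H → ℂ) g - inducedCentralChar H (ξ' : H → ℂ) g)
        + (centralChar (indFun H (ξ : H → ℂ)) g - centralChar (χ : G → ℂ) g) := by
    rw [h1]
    ring
  rw [e]
  exact memLocalIdeal_add hMp (memLocalIdeal_neg h2) h3

/-- if `b` induces `B` and `ξ ∈ b`, some member of `B` lies over `ξ`. -/
theorem induced_block_constituent {M : Ideal AlgInt} [hMp : M.IsPrime] (H : Subgroup G)
    [Fintype H] (b : Set (IrrCharacter H)) (B : Set (IrrCharacter G))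
    (hind : IsInducedBlock M H b B) (ξ : IrrCharacter H) (hξ : ξ ∈ b) :
    ∃ χ ∈ B, classInner (fun h : H => (χ : G → ℂ) h) (ξ : H → ℂ) ≠ 0 := by
  classical
  obtain ⟨-, ⟨χ₀, rfl⟩, hcong⟩ := hind
  by_contra hcon
  push Not at hcon
  obtain ⟨c, hc, hcv⟩ := osima (M := M) χ₀
  obtain ⟨ι, hι⟩ := exists_class_reps G
  have hχ₀ : χ₀ ∈ blockOf M (χ₀ : G → ℂ) := sameBlock_refl _
  have ha : MemLocalIdeal M
      (∑ r ∈ ι, specFun c r * inducedCentralChar H (ξ : H → ℂ) r - 1) := by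
    have h1 : c χ₀ = 1 := (hcv χ₀).1 (sameBlock_refl _)
    rw [← h1, spec_value c ι hι χ₀, ← Finset.sum_sub_distrib]
    refine memLocalIdeal_sum _ _ fun r _ => ?_
    rw [← mul_sub]
    exact memLocalIdeal_mul_left (hc r) (hcong ξ hξ χ₀ hχ₀ r)
  have hb : ∑ r ∈ ι, specFun c r * inducedCentralChar H (ξ : H → ℂ) r = 0 := by
    obtain ⟨Ψ, hΨ⟩ : ∃ Ψ : G → ℂ, Ψ = indFun H (ξ : H → ℂ) := ⟨_, rfl⟩
    have hΨcl : IsClassFunction G Ψ := by
      rw [hΨ]
      exact indFun_isClassFunction H _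
    have hdec := classFunction_eq_sum_irr Ψ hΨcl
    have hm : ∀ χ : IrrCharacter G, classInner Ψ (χ : G → ℂ)
        = starRingEnd ℂ (classInner (fun h : H => (χ : G → ℂ) h) (ξ : H → ℂ)) := by
      intro χ
      rw [hΨ, classInner_indFun H _ _ (irr_isClassFunction χ), classInner_conj_symm]
    have hm0 : ∀ χ : IrrCharacter G, c χ * classInner Ψ (χ : G → ℂ) = 0 := by
      intro χ
      by_cases hχ : SameBlock M (χ₀ : G → ℂ) (χ : G → ℂ)
      · rw [hm, hcon χ hχ, map_zero, mul_zero]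
      · rw [(hcv χ).2 hχ, zero_mul]
    have hr : ∀ r : G, Ψ r = ∑ χ : IrrCharacter G, classInner Ψ (χ : G → ℂ) * (χ : G → ℂ) r := by
      intro r
      have h1 := congrFun hdec r
      simp only [Finset.sum_apply, Pi.smul_apply, smul_eq_mul] at h1
      exact h1
    have e1 : ∀ r : G, inducedCentralChar H (ξ : H → ℂ) r
        = (Ψ 1)⁻¹ * ∑ χ : IrrCharacter G, classInner Ψ (χ : G → ℂ)
            * ((χ : G → ℂ) 1 * centralChar (χ : G → ℂ) r) := by
      intro r
      rw [Cfsg.Agent.S0932.result H (ξ : H → ℂ) (isCharacter_of_isIrrCharacter ξ.2) r, ← hΨ]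
      have e2 : ∀ χ : IrrCharacter G, classInner Ψ (χ : G → ℂ)
            * ((χ : G → ℂ) 1 * centralChar (χ : G → ℂ) r)
          = ((Subgroup.centralizer ({r} : Set G)).index : ℂ)
            * (classInner Ψ (χ : G → ℂ) * (χ : G → ℂ) r) := by
        intro χ
        have h1 := Cfsg.Agent.Helper5.irr_one_ne_zero χ
        unfold centralChar
        field_simp
      rw [Finset.sum_congr rfl fun χ _ => e2 χ, ← Finset.mul_sum, ← hr r]
      unfold centralChar
      rw [div_eq_inv_mul]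
    have e3 : ∀ r : G, specFun c r * inducedCentralChar H (ξ : H → ℂ) r
        = ∑ χ : IrrCharacter G, (Ψ 1)⁻¹ * (classInner Ψ (χ : G → ℂ) * (χ : G → ℂ) 1
            * (specFun c r * centralChar (χ : G → ℂ) r)) := by
      intro r
      rw [e1 r, Finset.mul_sum, Finset.mul_sum]
      exact Finset.sum_congr rfl fun χ _ => by ring
    rw [Finset.sum_congr rfl fun r _ => e3 r, Finset.sum_comm]
    refine Finset.sum_eq_zero fun χ _ => ?_
    rw [← Finset.mul_sum, ← Finset.mul_sum, ← spec_value c ι hι χ, mul_right_comm,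
      mul_comm (classInner Ψ (χ : G → ℂ)), hm0 χ, zero_mul, mul_zero]
  rw [hb, zero_sub] at ha
  have h2 := memLocalIdeal_neg ha
  rw [neg_neg] at h2
  exact not_memLocalIdeal_one h2

omit [Fintype G] in
theorem singular_of_notMem [Finite G] {p : ℕ} (hp : p.Prime) (N : Subgroup G) [N.Normal]
    (hidx : ∃ k : ℕ, N.index = p ^ k) (g : G) (hg : g ∉ N) : p ∣ orderOf g := by
  obtain ⟨k, hk⟩ := hidx
  have h1 : orderOf (QuotientGroup.mk' N g) ∣ p ^ k := by
    rw [← hk, Subgroup.index_eq_card]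
    exact orderOf_dvd_natCard _
  obtain ⟨j, -, hj⟩ := (Nat.dvd_prime_pow hp).mp h1
  have hj0 : j ≠ 0 := by
    intro h0
    rw [h0, pow_zero, orderOf_eq_one_iff] at hj
    exact hg ((QuotientGroup.eq_one_iff g).mp hj)
  have h2 : p ∣ orderOf (QuotientGroup.mk' N g) := by
    rw [hj]
    exact dvd_pow_self p hj0
  exact h2.trans (orderOf_map_dvd (QuotientGroup.mk' N) g)

theorem sum_eq_sum_subgroup (N : Subgroup G) [Fintype N] (f : G → ℂ)
    (hf : ∀ g, g ∉ N → f g = 0) : ∑ g : G, f g = ∑ n : N, f n := by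
  classical
  have h1 : ∑ g : G, f g = ∑ g ∈ Finset.univ.filter (fun g => g ∈ N), f g := by
    symm
    apply Finset.sum_subset (Finset.filter_subset _ _)
    intro x _ hx
    exact hf x (fun h => hx (Finset.mem_filter.mpr ⟨Finset.mem_univ _, h⟩))
  rw [h1, Finset.sum_subtype (F := ‹Fintype N›) (Finset.univ.filter (fun g => g ∈ N))
    (p := fun g => g ∈ N) (by simp)]

/-- with a normal `p`-complement `N`, characters over the same character of `N` are in the
same block. -/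
theorem sameBlock_of_common_constituent {p : ℕ} {M : Ideal AlgInt} (hM : IsPModular p M)
    [hMp : M.IsPrime] (N : Subgroup G) [hN : N.Normal] [Fintype N] (hpN : ¬ p ∣ Nat.card N)
    (hidx : ∃ k : ℕ, N.index = p ^ k) (χ ψ : IrrCharacter G) (θ : IrrCharacter N)
    (hχ : classInner (fun n : N => (χ : G → ℂ) n) (θ : N → ℂ) ≠ 0)
    (hψ : classInner (fun n : N => (ψ : G → ℂ) n) (θ : N → ℂ) ≠ 0) :
    SameBlock M (χ : G → ℂ) (ψ : G → ℂ) := by
  classical
  have hp := hM.1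
  have hG0 : (Nat.card G : ℂ)⁻¹ ≠ 0 := inv_ne_zero (Nat.cast_ne_zero.mpr Nat.card_pos.ne')
  by_contra hnot
  obtain ⟨S, hS⟩ : ∃ S : Finset (IrrCharacter G), S = Finset.univ.filter
      (fun ψ' : IrrCharacter G => SameBlock M (χ : G → ℂ) (ψ' : G → ℂ)) := ⟨_, rfl⟩
  have hSmem : ∀ ψ' : IrrCharacter G, ψ' ∈ S ↔ SameBlock M (χ : G → ℂ) (ψ' : G → ℂ) :=
    fun ψ' => by
      rw [hS, Finset.mem_filter]
      exact ⟨fun h => h.2, fun h => ⟨Finset.mem_univ _, h⟩⟩
  have hψS : ψ ∉ S := fun hc => hnot ((hSmem ψ).mp hc)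
  have hχS : χ ∈ S := (hSmem χ).mpr (sameBlock_refl _)
  obtain ⟨Sg, hSg⟩ : ∃ Sg : N → ℂ, Sg = ∑ᶠ φ ∈ {φ : N → ℂ | ∃ g : G, φ = fun n : N =>
      (θ : N → ℂ) ⟨g * n * g⁻¹, hN.conj_mem n n.2 g⟩}, φ := ⟨_, rfl⟩
  have hres : ∀ χ' : IrrCharacter G,
      classInner (fun n : N => (χ' : G → ℂ) n) (θ : N → ℂ) ≠ 0 →
      ∀ n : N, (χ' : G → ℂ) n
        = classInner (fun n : N => (χ' : G → ℂ) n) (θ : N → ℂ) * Sg n := by
    intro χ' he n
    have hcl := clifford_restrict N hN (χ' : G → ℂ) χ'.2 (θ : N → ℂ) θ.2 he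
    rw [← hSg] at hcl
    have h1 := congrFun hcl n
    simpa only [Pi.smul_apply, smul_eq_mul] using h1
  choose kk hkk using fun χ' : IrrCharacter G =>
    isCharacter_inner_irr (isCharacter_restrict N (isCharacter_of_isIrrCharacter χ'.2)) θ
  choose d hd using (irr_one_eq_natCast_pos (G := G))
  have hk0 : ∀ χ' : IrrCharacter G,
      classInner (fun n : N => (χ' : G → ℂ) n) (θ : N → ℂ) ≠ 0 → 0 < kk χ' := by
    intro χ' he
    rcases Nat.eq_zero_or_pos (kk χ') with h0 | h0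
    · rw [hkk χ', h0, Nat.cast_zero] at he
      exact absurd rfl he
    · exact h0
  have hresk : ∀ ψ' : IrrCharacter G,
      classInner (fun n : N => (ψ' : G → ℂ) n) (θ : N → ℂ) ≠ 0 →
      ∀ n : N, (ψ' : G → ℂ) n = (kk ψ' : ℂ) * Sg n := by
    intro ψ' he n
    rw [hres ψ' he n, hkk ψ']
  have hSover : ∀ ψ' ∈ S, classInner (fun n : N => (ψ' : G → ℂ) n) (θ : N → ℂ) ≠ 0 :=
    fun ψ' hψ' => res_const_of_sameBlock hM N hpN χ ψ' ((hSmem ψ').mp hψ') θ hχ
  have hT0 : ∀ g : G, g ∉ N →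
      ∑ ψ' ∈ S, (ψ' : G → ℂ) 1 * starRingEnd ℂ ((ψ' : G → ℂ) g) = 0 := by
    intro g hg
    rw [hS]
    exact weak_block_orth_sum hM χ 1 g (by rw [orderOf_one]; exact hp.not_dvd_one)
      (singular_of_notMem hp N hidx g hg)
  have hTN : ∀ n : N, ∑ ψ' ∈ S, (ψ' : G → ℂ) 1 * starRingEnd ℂ ((ψ' : G → ℂ) n)
      = ((∑ ψ' ∈ S, d ψ' * kk ψ' : ℕ) : ℂ) * starRingEnd ℂ (Sg n) := by
    intro n
    rw [Nat.cast_sum, Finset.sum_mul]
    refine Finset.sum_congr rfl fun ψ' hψ' => ?_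
    rw [hresk ψ' (hSover ψ' hψ') n, (hd ψ').2, map_mul, Complex.conj_natCast]
    push_cast
    ring
  have hzero : ∑ g : G, (ψ : G → ℂ) g
      * ∑ ψ' ∈ S, (ψ' : G → ℂ) 1 * starRingEnd ℂ ((ψ' : G → ℂ) g) = 0 := by
    have e0 : ∀ g : G, (ψ : G → ℂ) g
          * ∑ ψ' ∈ S, (ψ' : G → ℂ) 1 * starRingEnd ℂ ((ψ' : G → ℂ) g)
        = ∑ ψ' ∈ S, (ψ' : G → ℂ) 1
          * ((ψ : G → ℂ) g * starRingEnd ℂ ((ψ' : G → ℂ) g)) := by
      intro g
      rw [Finset.mul_sum]
      exact Finset.sum_congr rfl fun ψ' _ => by ring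
    rw [Finset.sum_congr rfl fun g _ => e0 g, Finset.sum_comm]
    refine Finset.sum_eq_zero fun ψ' hψ' => ?_
    have hne : ψ ≠ ψ' := fun he => hψS (he ▸ hψ')
    have h0 := irr_inner_ne hne
    unfold classInner at h0
    rw [← Finset.mul_sum, (mul_eq_zero.mp h0).resolve_left hG0, mul_zero]
  rw [sum_eq_sum_subgroup N _ (fun g hg => by rw [hT0 g hg, mul_zero])] at hzero
  have e1 : ∀ n : N, (ψ : G → ℂ) n
        * ∑ ψ' ∈ S, (ψ' : G → ℂ) 1 * starRingEnd ℂ ((ψ' : G → ℂ) n)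
      = ((kk ψ * ∑ ψ' ∈ S, d ψ' * kk ψ' : ℕ) : ℂ) * ((Complex.normSq (Sg n) : ℝ) : ℂ) := by
    intro n
    rw [hTN n, hresk ψ hψ n, Complex.normSq_eq_conj_mul_self]
    push_cast
    ring
  rw [Finset.sum_congr rfl fun n _ => e1 n, ← Finset.mul_sum, ← Complex.ofReal_sum] at hzero
  have hC : (kk ψ * ∑ ψ' ∈ S, d ψ' * kk ψ' : ℕ) ≠ 0 := by
    have h1 : 0 < kk ψ := hk0 ψ hψ
    have h2 : 0 < ∑ ψ' ∈ S, d ψ' * kk ψ' :=
      Finset.sum_pos' (fun _ _ => Nat.zero_le _)
        ⟨χ, hχS, Nat.mul_pos (hd χ).1 (hk0 χ hχ)⟩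
    exact (Nat.mul_pos h1 h2).ne'
  have hR : (0 : ℝ) < ∑ n : N, Complex.normSq (Sg n) := by
    have h1 : Sg 1 ≠ 0 := by
      intro h0
      have h2 := hresk χ hχ 1
      rw [h0, mul_zero] at h2
      exact Cfsg.Agent.Helper5.irr_one_ne_zero χ h2
    exact Finset.sum_pos' (fun n _ => Complex.normSq_nonneg _)
      ⟨1, Finset.mem_univ _, Complex.normSq_pos.mpr h1⟩
  rcases mul_eq_zero.mp hzero with h | h
  · exact hC (Nat.cast_eq_zero.mp h)
  · exact hR.ne' (Complex.ofReal_eq_zero.mp h)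

/-- blocks of a group with a normal `p`-complement `N` correspond to orbits on `Irr(N)`. -/
theorem sameBlock_iff_common_constituent {p : ℕ} {M : Ideal AlgInt} (hM : IsPModular p M)
    [hMp : M.IsPrime] (N : Subgroup G) [hN : N.Normal] [Fintype N] (hpN : ¬ p ∣ Nat.card N)
    (hidx : ∃ k : ℕ, N.index = p ^ k) (χ ψ : IrrCharacter G) :
    SameBlock M (χ : G → ℂ) (ψ : G → ℂ) ↔
      ∃ θ : IrrCharacter N, classInner (fun n : N => (χ : G → ℂ) n) (θ : N → ℂ) ≠ 0 ∧
        classInner (fun n : N => (ψ : G → ℂ) n) (θ : N → ℂ) ≠ 0 := by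
  constructor
  · intro h
    have hres : IsCharacter N (fun n : N => (χ : G → ℂ) n) :=
      isCharacter_restrict N (isCharacter_of_isIrrCharacter χ.2)
    obtain ⟨θ, hθ⟩ := exists_irr_constituent hres (Cfsg.Agent.Helper5.irr_one_ne_zero χ)
    exact ⟨θ, hθ, res_const_of_sameBlock hM N hpN χ ψ h θ hθ⟩
  · rintro ⟨θ, h1, h2⟩
    exact sameBlock_of_common_constituent hM N hpN hidx χ ψ θ h1 h2

end Cfsg.Agent.Helper5
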