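import Mathlib
import Cfsg.Agent.Helper5.BlkInd
import Cfsg.Agent.Helper5.Grp

/-!
helper5: the min–max theorem for defect classes, via "defect ideals" of spectral vectors.
-/

set_option autoImplicit false

namespace Cfsg.Agent.Helper5

open Cfsg Cfsg.Agent.Helper24 Cfsg.Agent.Helper22

universe u

section Grp

variable {G : Type u} [Group G]

/-- every `p`-subgroup of the centralizer of `g` lies in a conjugate of `D`. -/
def DefLe (p : ℕ) (D : Subgroup G) (g : G) : Prop :=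
  ∀ P : Subgroup G, IsPGroup p P → P ≤ Subgroup.centralizer ({g} : Set G) →
    ∃ x : G, P ≤ D.map (MulAut.conj x).toMonoidHom

theorem defLe_conj {p : ℕ} {D : Subgroup G} {g : G} (h : DefLe p D g) (y : G) :
    DefLe p D (y * g * y⁻¹) := by
  intro P hP hPc
  have hPc' : P.map (MulAut.conj y⁻¹).toMonoidHom ≤ Subgroup.centralizer ({g} : Set G) := by
    rintro _ ⟨a, ha, rfl⟩
    have h1 := Subgroup.mem_centralizer_singleton_iff.mp (hPc ha)
    rw [Subgroup.mem_centralizer_singleton_iff]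
    simp only [MulEquiv.toMonoidHom_eq_coe, MonoidHom.coe_coe, MulAut.conj_apply, inv_inv]
    have h2 : y⁻¹ * a * y * g = y⁻¹ * (a * (y * g * y⁻¹)) * y := by group
    have h3 : g * (y⁻¹ * a * y) = y⁻¹ * (y * g * y⁻¹ * a) * y := by group
    rw [h2, h3, h1]
  obtain ⟨x, hx⟩ := h (P.map (MulAut.conj y⁻¹).toMonoidHom) (hP.map _) hPc'
  refine ⟨y * x, ?_⟩
  intro a ha
  have h1 : y⁻¹ * a * y ∈ P.map (MulAut.conj y⁻¹).toMonoidHom :=
    ⟨a, ha, by simp [MulAut.conj_apply]⟩
  obtain ⟨d, hd, hde⟩ := hx h1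
  refine ⟨d, hd, ?_⟩
  simp only [MulEquiv.toMonoidHom_eq_coe, MonoidHom.coe_coe, MulAut.conj_apply] at hde ⊢
  have h2 : y * x * d * (y * x)⁻¹ = y * (x * d * x⁻¹) * y⁻¹ := by group
  rw [h2, hde]
  group

theorem defLe_sylow [Finite G] {p : ℕ} [Fact p.Prime] (g : G)
    (Q : Sylow p (Subgroup.centralizer ({g} : Set G))) :
    DefLe p ((Q : Subgroup (Subgroup.centralizer ({g} : Set G))).map
      (Subgroup.centralizer ({g} : Set G)).subtype) g := by
  intro P hP hPc
  obtain ⟨z, -, hz⟩ := exists_conj_mem_of_sylow_map _ Q P hP hPc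
  refine ⟨z⁻¹, ?_⟩
  intro a ha
  refine ⟨z * a * z⁻¹, hz a ha, ?_⟩
  simp only [MulEquiv.toMonoidHom_eq_coe, MonoidHom.coe_coe, MulAut.conj_apply]
  group

/-- conjugation action of a subgroup on a stable finite set. -/
def conjActOn (Q : Subgroup G) (X : Finset G)
    (hstab : ∀ u ∈ Q, ∀ x ∈ X, u * x * u⁻¹ ∈ X) : MulAction Q {x : G // x ∈ X} where
  smul u x := ⟨(u : G) * x.1 * (u : G)⁻¹, hstab u u.2 x.1 x.2⟩
  one_smul x := Subtype.ext (by
    show ((1 : Q) : G) * x.1 * ((1 : Q) : G)⁻¹ = x.1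
    simp)
  mul_smul a b x := Subtype.ext (by
    show ((a * b : Q) : G) * x.1 * ((a * b : Q) : G)⁻¹
      = (a : G) * ((b : G) * x.1 * (b : G)⁻¹) * (a : G)⁻¹
    simp [mul_assoc])

theorem card_dvd_of_no_fixed {p : ℕ} [Fact p.Prime] (Q : Subgroup G) (hQ : IsPGroup p Q)
    (X : Finset G) (hstab : ∀ u ∈ Q, ∀ x ∈ X, u * x * u⁻¹ ∈ X)
    (hfix : ∀ x ∈ X, ¬ (∀ u ∈ Q, u * x * u⁻¹ = x)) : p ∣ X.card := by
  let inst : MulAction Q {x : G // x ∈ X} := conjActOn Q X hstab
  have key := hQ.card_modEq_card_fixedPoints {x : G // x ∈ X}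
  have hempty : IsEmpty (MulAction.fixedPoints Q {x : G // x ∈ X}) := by
    constructor
    rintro ⟨x, hx⟩
    apply hfix x.1 x.2
    intro u hu
    have h1 := hx ⟨u, hu⟩
    exact congrArg Subtype.val h1
  have h0 : Nat.card (MulAction.fixedPoints Q {x : G // x ∈ X}) = 0 := Nat.card_of_isEmpty
  have h2 : Nat.card {x : G // x ∈ X} = X.card := by
    rw [Nat.card_eq_fintype_card, Fintype.card_coe]
  rw [h0, h2] at key
  exact (Nat.modEq_zero_iff_dvd).mp key

end Grp

section Blocks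

variable {G : Type u} [Group G] [Fintype G]

omit [Fintype G] in
theorem sum_memLocalIdeal_of_no_fixed {p : ℕ} {M : Ideal AlgInt} (hM : IsPModular p M)
    [hMp : M.IsPrime] (Q : Subgroup G) (hQ : IsPGroup p Q) (X : Finset G)
    (hstab : ∀ u ∈ Q, ∀ x ∈ X, u * x * u⁻¹ ∈ X)
    (hfix : ∀ x ∈ X, ¬ (∀ u ∈ Q, u * x * u⁻¹ = x)) (f : G → ℂ)
    (hf : ∀ u ∈ Q, ∀ x ∈ X, f (u * x * u⁻¹) = f x) (hS : ∀ x ∈ X, MemLocalRing M (f x)) :
    MemLocalIdeal M (∑ x ∈ X, f x) := by
  classical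
  have : Fact p.Prime := ⟨hM.1⟩
  rw [← Finset.sum_fiberwise_of_maps_to (g := f) (t := X.image f)
    (fun x hx => Finset.mem_image_of_mem f hx)]
  refine memLocalIdeal_sum _ _ fun v hv => ?_
  rw [Finset.sum_congr rfl (fun x hx => (Finset.mem_filter.mp hx).2), Finset.sum_const,
    nsmul_eq_mul]
  have hdvd : p ∣ (X.filter (fun x => f x = v)).card := by
    refine card_dvd_of_no_fixed Q hQ _ ?_ ?_
    · intro u hu x hx
      rw [Finset.mem_filter] at hx ⊢
      exact ⟨hstab u hu x hx.1, by rw [hf u hu x hx.1, hx.2]⟩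
    · intro x hx
      exact hfix x (Finset.mem_filter.mp hx).1
  obtain ⟨m, hm⟩ := hdvd
  obtain ⟨x0, hx0, rfl⟩ := Finset.mem_image.mp hv
  rw [hm, Nat.cast_mul, mul_assoc, mul_comm]
  exact memLocalIdeal_mul_left ((locRing M).mul_mem (natCast_memLocalRing m) (hS x0 hx0))
    (prime_memLocalIdeal hM)

theorem spec_apply_mem {M : Ideal AlgInt} [hMp : M.IsPrime] {c : IrrCharacter G → ℂ}
    (hc : c ∈ specRing M G) (ψ : IrrCharacter G) : MemLocalRing M (c ψ) := by
  obtain ⟨ι, hι⟩ := exists_class_reps G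
  rw [spec_value c ι hι ψ]
  exact (locRing M).sum_mem fun r _ =>
    (locRing M).mul_mem (hc r) (centralChar_memLocalRing ψ r)

/-- the "defect ideal" of spectral vectors attached to `D`. -/
def InSD (p : ℕ) (M : Ideal AlgInt) [M.IsPrime] (D : Subgroup G) (c : IrrCharacter G → ℂ) :
    Prop :=
  c ∈ specRing M G ∧ ∀ g, ¬ DefLe p D g → MemLocalIdeal M (specFun c g)

theorem inSD_zero {p : ℕ} {M : Ideal AlgInt} [hMp : M.IsPrime] (D : Subgroup G) :
    InSD p M D (0 : IrrCharacter G → ℂ) :=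
  ⟨(specRing M G).zero_mem, fun g _ => by
    rw [specFun_zero]
    exact memLocalIdeal_zero hMp.ne_top⟩

theorem inSD_add {p : ℕ} {M : Ideal AlgInt} [hMp : M.IsPrime] {D : Subgroup G}
    {c c' : IrrCharacter G → ℂ} (h : InSD p M D c) (h' : InSD p M D c') :
    InSD p M D (c + c') :=
  ⟨(specRing M G).add_mem h.1 h'.1, fun g hg => by
    rw [specFun_add]
    exact memLocalIdeal_add hMp (h.2 g hg) (h'.2 g hg)⟩

theorem inSD_mul_right {p : ℕ} {M : Ideal AlgInt} (hM : IsPModular p M) [hMp : M.IsPrime]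
    {D : Subgroup G} {c c' : IrrCharacter G → ℂ} (h : InSD p M D c)
    (hc' : c' ∈ specRing M G) : InSD p M D (c * c') := by
  classical
  refine ⟨(specRing M G).mul_mem h.1 hc', fun g hg => ?_⟩
  rw [specFun_mul]
  unfold DefLe at hg
  push Not at hg
  obtain ⟨P, hP, hPc, hPD⟩ := hg
  rw [← Finset.sum_filter_add_sum_filter_not Finset.univ (fun x : G => DefLe p D x)]
  refine memLocalIdeal_add hMp ?_ ?_
  · refine sum_memLocalIdeal_of_no_fixed hM P hP _ ?_ ?_
      (fun x => specFun c x * specFun c' (x⁻¹ * g)) ?_ ?_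
    · intro u _ x hx
      rw [Finset.mem_filter] at hx ⊢
      exact ⟨Finset.mem_univ _, defLe_conj hx.2 u⟩
    · intro x hx hfixed
      rw [Finset.mem_filter] at hx
      have hPx : P ≤ Subgroup.centralizer ({x} : Set G) := by
        intro u hu
        rw [Subgroup.mem_centralizer_singleton_iff]
        have h1 := hfixed u hu
        calc u * x = (u * x * u⁻¹) * u := by group
          _ = x * u := by rw [h1]
      obtain ⟨y, hy⟩ := hx.2 P hP hPx
      exact hPD y hy
    · intro u hu x _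
      show specFun c (u * x * u⁻¹) * specFun c' ((u * x * u⁻¹)⁻¹ * g)
        = specFun c x * specFun c' (x⁻¹ * g)
      have hug : u * g = g * u := Subgroup.mem_centralizer_singleton_iff.mp (hPc hu)
      have h2 : u⁻¹ * g = g * u⁻¹ := (Commute.inv_left (show Commute u g from hug)).eq
      have e : (u * x * u⁻¹)⁻¹ * g = u * (x⁻¹ * g) * u⁻¹ := by
        calc (u * x * u⁻¹)⁻¹ * g = u * x⁻¹ * (u⁻¹ * g) := by group
          _ = u * x⁻¹ * (g * u⁻¹) := by rw [h2]
          _ = u * (x⁻¹ * g) * u⁻¹ := by group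
      rw [specFun_isClassFunction c x u, e, specFun_isClassFunction c' _ u]
    · intro x _
      exact (locRing M).mul_mem (h.1 x) (hc' _)
  · refine memLocalIdeal_sum _ _ fun x hx => ?_
    rw [Finset.mem_filter] at hx
    rw [mul_comm]
    exact memLocalIdeal_mul_left (hc' _) (h.2 x hx.2)

theorem inSD_central {p : ℕ} {M : Ideal AlgInt} [hMp : M.IsPrime] {D : Subgroup G} {h : G}
    (hD : DefLe p D h) :
    InSD p M D (fun χ : IrrCharacter G => centralChar (χ : G → ℂ) h) := by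
  refine ⟨central_mem_specRing h, fun g hg => ?_⟩
  have hnc : ¬ IsConj h g := by
    intro hc
    obtain ⟨y, hy⟩ := isConj_iff.mp hc
    apply hg
    rw [← hy]
    exact defLe_conj hD y
  rw [(specFun_central h g).2 hnc]
  exact memLocalIdeal_zero hMp.ne_top

/-- if the defect ideal of `D` contains a vector that is a unit on the block, it contains the
block idempotent. -/
theorem osima_inSD {p : ℕ} {M : Ideal AlgInt} (hM : IsPModular p M) [hMp : M.IsPrime]
    (D : Subgroup G) (χ₀ : IrrCharacter G) (c' : IrrCharacter G → ℂ) (hc' : InSD p M D c')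
    (hunit : ∀ χ : IrrCharacter G, SameBlock M (χ₀ : G → ℂ) (χ : G → ℂ) →
      ¬ MemLocalIdeal M (c' χ))
    (c : IrrCharacter G → ℂ) (hc : c ∈ specRing M G)
    (hcv : ∀ ψ : IrrCharacter G, (SameBlock M (χ₀ : G → ℂ) (ψ : G → ℂ) → c ψ = 1) ∧
      (¬ SameBlock M (χ₀ : G → ℂ) (ψ : G → ℂ) → c ψ = 0)) :
    InSD p M D c := by
  classical
  have h2 : InSD p M D (c' * c) := inSD_mul_right hM hc' hc
  have hinv : ∀ χ : IrrCharacter G, SameBlock M (χ₀ : G → ℂ) (χ : G → ℂ) →
      (fun _ : IrrCharacter G => (c' χ)⁻¹) ∈ specRing M G := fun χ hχ =>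
    const_mem_specRing (inv_mem_locRing (spec_apply_mem hc'.1 χ) (hunit χ hχ))
  obtain ⟨w, hw⟩ : ∃ w : IrrCharacter G → IrrCharacter G → ℂ,
      w = fun χ => 1 - (c' * c) * fun _ => (c' χ)⁻¹ := ⟨_, rfl⟩
  have hwv : ∀ χ ψ : IrrCharacter G, w χ ψ = 1 - c' ψ * c ψ * (c' χ)⁻¹ := by
    intro χ ψ
    rw [hw]
    rfl
  have hwe : ∀ χ : IrrCharacter G, w χ = 1 - (c' * c) * fun _ => (c' χ)⁻¹ := by
    intro χ
    rw [hw]
  have key : ∀ s : Finset (IrrCharacter G),
      (∀ χ ∈ s, SameBlock M (χ₀ : G → ℂ) (χ : G → ℂ)) →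
      InSD p M D (1 - ∏ χ ∈ s, w χ) := by
    intro s
    induction s using Finset.induction_on with
    | empty =>
      intro _
      rw [Finset.prod_empty, sub_self]
      exact inSD_zero D
    | insert a s ha ih =>
      intro hs
      rw [Finset.prod_insert ha]
      have hprod : ∏ χ ∈ s, w χ ∈ specRing M G :=
        Subring.prod_mem _ fun χ hχ => by
          rw [hwe χ]
          exact (specRing M G).sub_mem (specRing M G).one_mem
            ((specRing M G).mul_mem h2.1 (hinv χ (hs χ (Finset.mem_insert_of_mem hχ))))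
      have e : 1 - w a * ∏ χ ∈ s, w χ
          = (1 - ∏ χ ∈ s, w χ)
            + (c' * c) * ((fun _ => (c' a)⁻¹) * ∏ χ ∈ s, w χ) := by
        rw [hwe a]
        ring
      rw [e]
      exact inSD_add (ih fun χ hχ => hs χ (Finset.mem_insert_of_mem hχ))
        (inSD_mul_right hM h2 ((specRing M G).mul_mem
          (hinv a (hs a (Finset.mem_insert_self a s))) hprod))
  have hfin := key (Finset.univ.filter
    (fun χ : IrrCharacter G => SameBlock M (χ₀ : G → ℂ) (χ : G → ℂ)))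
    (fun χ hχ => (Finset.mem_filter.mp hχ).2)
  have heq : 1 - ∏ χ ∈ Finset.univ.filter
      (fun χ : IrrCharacter G => SameBlock M (χ₀ : G → ℂ) (χ : G → ℂ)), w χ = c := by
    funext ψ
    rw [Pi.sub_apply, Pi.one_apply, Finset.prod_apply]
    by_cases hψ : SameBlock M (χ₀ : G → ℂ) (ψ : G → ℂ)
    · have h0 : w ψ ψ = 0 := by
        rw [hwv]
        have hne : c' ψ ≠ 0 := fun h0 => hunit ψ hψ (h0 ▸ memLocalIdeal_zero hMp.ne_top)
        rw [(hcv ψ).1 hψ, mul_one, mul_inv_cancel₀ hne, sub_self]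
      rw [(hcv ψ).1 hψ, Finset.prod_eq_zero
        (f := fun χ : IrrCharacter G => w χ ψ)
        (Finset.mem_filter.mpr ⟨Finset.mem_univ _, hψ⟩) h0, sub_zero]
    · have h1 : ∀ χ ∈ Finset.univ.filter
          (fun χ : IrrCharacter G => SameBlock M (χ₀ : G → ℂ) (χ : G → ℂ)),
          w χ ψ = 1 := by
        intro χ _
        rw [hwv, (hcv ψ).2 hψ, mul_zero, zero_mul, sub_zero]
      rw [(hcv ψ).2 hψ, Finset.prod_eq_one h1, sub_self]
  rw [← heq]
  exact hfin

/-- **min–max, core form**: if a central character of the block is a unit at `h` and every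
`p`-subgroup of `C(h)` lies in a conjugate of `D`, then the same holds for every class on
which the block idempotent has a unit coefficient. -/
theorem blockCoeff_defLe {p : ℕ} {M : Ideal AlgInt} (hM : IsPModular p M) [hMp : M.IsPrime]
    (χ₀ : IrrCharacter G) (h : G) (D : Subgroup G) (hD : DefLe p D h)
    (hunit : ∃ χ : IrrCharacter G, SameBlock M (χ₀ : G → ℂ) (χ : G → ℂ) ∧
      ¬ MemLocalIdeal M (centralChar (χ : G → ℂ) h)) (g : G)
    (hg : ¬ MemLocalIdeal M (blockCoeff (blockOf M (χ₀ : G → ℂ)) g)) : DefLe p D g := by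
  obtain ⟨c, hc, hcv⟩ := osima (M := M) χ₀
  obtain ⟨χ, hχ, hχu⟩ := hunit
  have hu : ∀ χ' : IrrCharacter G, SameBlock M (χ₀ : G → ℂ) (χ' : G → ℂ) →
      ¬ MemLocalIdeal M (centralChar (χ' : G → ℂ) h) := by
    intro χ' hχ' hmem
    apply hχu
    have h1 : SameBlock M (χ : G → ℂ) (χ' : G → ℂ) := sameBlock_trans (sameBlock_symm hχ) hχ'
    have h2 := memLocalIdeal_add hMp (h1 h) hmem
    rwa [sub_add_cancel] at h2
  have hin := osima_inSD hM D χ₀ (fun χ : IrrCharacter G => centralChar (χ : G → ℂ) h)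
    (inSD_central hD) hu c hc hcv
  by_contra hnot
  apply hg
  have e := blockCoeff_eq_specFun (blockOf M (χ₀ : G → ℂ)) c (fun ψ hψ => (hcv ψ).1 hψ)
    (fun ψ hψ => (hcv ψ).2 hψ) g
  rw [e]
  exact hin.2 g hnot

/-- **min–max theorem** for defect classes. -/
theorem min_max {p : ℕ} [Fact p.Prime] {M : Ideal AlgInt} (hM : IsPModular p M)
    [hMp : M.IsPrime] (χ₀ : IrrCharacter G) (g : G)
    (hg : IsDefectClass M (blockOf M (χ₀ : G → ℂ)) g)
    (D : Sylow p (Subgroup.centralizer ({g} : Set G))) (h : G) :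
    (¬ MemLocalIdeal M (blockCoeff (blockOf M (χ₀ : G → ℂ)) h) →
      ∃ (x : G) (Q : Sylow p (Subgroup.centralizer ({h} : Set G))),
        (Q : Subgroup (Subgroup.centralizer ({h} : Set G))).map
            (Subgroup.centralizer ({h} : Set G)).subtype
          ≤ ((D : Subgroup (Subgroup.centralizer ({g} : Set G))).map
            (Subgroup.centralizer ({g} : Set G)).subtype).map (MulAut.conj x).toMonoidHom) ∧
    ((∃ χ ∈ blockOf M (χ₀ : G → ℂ), ¬ MemLocalIdeal M (centralChar (χ : G → ℂ) h)) →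
      ∃ (x : G) (Q : Sylow p (Subgroup.centralizer ({h} : Set G))),
        ((D : Subgroup (Subgroup.centralizer ({g} : Set G))).map
            (Subgroup.centralizer ({g} : Set G)).subtype).map (MulAut.conj x).toMonoidHom
          ≤ (Q : Subgroup (Subgroup.centralizer ({h} : Set G))).map
            (Subgroup.centralizer ({h} : Set G)).subtype) := by
  have hχ₀ : χ₀ ∈ blockOf M (χ₀ : G → ℂ) := sameBlock_refl _
  constructor
  · intro hh
    have h1 := blockCoeff_defLe hM χ₀ g _ (defLe_sylow g D) ⟨χ₀, hχ₀, hg.2.2 χ₀ hχ₀⟩ h hh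
    obtain ⟨Q⟩ := (inferInstance : Nonempty (Sylow p (Subgroup.centralizer ({h} : Set G))))
    obtain ⟨x, hx⟩ := h1 _ (Q.2.map _) (Subgroup.map_subtype_le _)
    exact ⟨x, Q, hx⟩
  · rintro ⟨χ, hχ, hχu⟩
    obtain ⟨Q⟩ := (inferInstance : Nonempty (Sylow p (Subgroup.centralizer ({h} : Set G))))
    have h1 := blockCoeff_defLe hM χ₀ h _ (defLe_sylow h Q) ⟨χ, hχ, hχu⟩ g hg.2.1
    obtain ⟨y, hy⟩ := h1 _ (D.2.map _) (Subgroup.map_subtype_le _)
    refine ⟨y⁻¹, Q, ?_⟩
    rintro _ ⟨d, hd, rfl⟩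
    obtain ⟨q, hq, hqe⟩ := hy hd
    simp only [MulEquiv.toMonoidHom_eq_coe, MonoidHom.coe_coe, MulAut.conj_apply, inv_inv]
      at hqe ⊢
    rw [← hqe]
    have e : y⁻¹ * (y * q * y⁻¹) * y = q := by group
    rw [e]
    exact hq

end Blocks

end Cfsg.Agent.Helper5
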