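import Mathlib
import Cfsg.Agent.Helper5.BlkMinMax

/-!
helper5: consequences of the min–max theorem: defect groups and Brauer map, induced blocks.
-/

set_option autoImplicit false

namespace Cfsg.Agent.Helper5

open Cfsg Cfsg.Agent.Helper24 Cfsg.Agent.Helper22

universe u

section Blocks

variable {G : Type u} [Group G] [Fintype G]

theorem blockCoeff_conj (B : Set (IrrCharacter G)) (g z : G) :
    blockCoeff B (z * g * z⁻¹) = blockCoeff B g := by
  classical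
  obtain ⟨c, hcdef⟩ : ∃ c : IrrCharacter G → ℂ, c = fun ψ => if ψ ∈ B then 1 else 0 :=
    ⟨_, rfl⟩
  have hc1 : ∀ ψ ∈ B, c ψ = 1 := fun ψ hψ => by rw [hcdef]; exact if_pos hψ
  have hc0 : ∀ ψ, ψ ∉ B → c ψ = 0 := fun ψ hψ => by rw [hcdef]; exact if_neg hψ
  rw [blockCoeff_eq_specFun B c hc1 hc0, blockCoeff_eq_specFun B c hc1 hc0]
  exact specFun_isClassFunction c g z

theorem isDefectClass_conj {M : Ideal AlgInt} {B : Set (IrrCharacter G)} {g : G}
    (h : IsDefectClass M B g) (z : G) : IsDefectClass M B (z * g * z⁻¹) := by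
  refine ⟨?_, ?_, ?_⟩
  · rw [blockCoeff_conj]
    exact h.1
  · rw [blockCoeff_conj]
    exact h.2.1
  · intro χ hχ
    rw [centralChar_isClassFunction χ g z]
    exact h.2.2 χ hχ

omit [Fintype G] in
/-- a `p`-subgroup centralizing a defect class lies in a defect group. -/
theorem exists_defect_group_ge [Finite G] {p : ℕ} [Fact p.Prime] {M : Ideal AlgInt}
    {B : Set (IrrCharacter G)}
    {g : G} (hg : IsDefectClass M B g) (P : Subgroup G) (hP : IsPGroup p P)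
    (hPc : P ≤ Subgroup.centralizer ({g} : Set G)) :
    ∃ E : Subgroup G, IsDefectGroup p M B E ∧ P ≤ E := by
  obtain ⟨Q, hQ⟩ := (hP.comap_subtype (K := Subgroup.centralizer ({g} : Set G))).exists_le_sylow
  refine ⟨_, ⟨g, hg, Q, rfl⟩, ?_⟩
  intro a ha
  refine ⟨⟨a, hPc ha⟩, hQ ?_, rfl⟩
  exact ha

/-- S0959, for `B = blockOf M χ₀`. -/
theorem brauer_map_iff {p : ℕ} [Fact p.Prime] {M : Ideal AlgInt} (hM : IsPModular p M)
    [hMp : M.IsPrime] (χ₀ : IrrCharacter G) (D : Subgroup G)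
    (hD : IsDefectGroup p M (blockOf M (χ₀ : G → ℂ)) D) (P : Subgroup G) (hP : IsPGroup p P) :
    (∃ g : G, MemLocalRing M (blockCoeff (blockOf M (χ₀ : G → ℂ)) g) ∧
      ¬ MemLocalIdeal M (blockCoeff (blockOf M (χ₀ : G → ℂ)) g) ∧
      ∃ c : G, IsConj g c ∧ c ∈ Subgroup.centralizer (P : Set G)) ↔
    ∃ x : G, P.map (MulAut.conj x).toMonoidHom ≤ D := by
  have hχ₀ : χ₀ ∈ blockOf M (χ₀ : G → ℂ) := sameBlock_refl _
  obtain ⟨g₀, hg₀, Q₀, rfl⟩ := hD
  constructor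
  · rintro ⟨g, -, hg, c, hgc, hc⟩
    have h1 := blockCoeff_defLe hM χ₀ g₀ _ (defLe_sylow g₀ Q₀) ⟨χ₀, hχ₀, hg₀.2.2 χ₀ hχ₀⟩ g hg
    obtain ⟨y, hy⟩ := isConj_iff.mp hgc
    have h2 := defLe_conj h1 y
    rw [hy] at h2
    have hPc : P ≤ Subgroup.centralizer ({c} : Set G) := by
      intro u hu
      rw [Subgroup.mem_centralizer_singleton_iff]
      exact (Subgroup.mem_centralizer_iff.mp hc u hu)
    obtain ⟨x, hx⟩ := h2 P hP hPc
    refine ⟨x⁻¹, ?_⟩
    rintro _ ⟨a, ha, rfl⟩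
    obtain ⟨d, hd, hde⟩ := hx ha
    simp only [MulEquiv.toMonoidHom_eq_coe, MonoidHom.coe_coe, MulAut.conj_apply, inv_inv]
      at hde ⊢
    rw [← hde]
    have e : x⁻¹ * (x * d * x⁻¹) * x = d := by group
    rw [e]
    exact hd
  · rintro ⟨x, hx⟩
    refine ⟨g₀, hg₀.1, hg₀.2.1, x⁻¹ * g₀ * x, isConj_iff.mpr ⟨x⁻¹, by simp⟩, ?_⟩
    rw [Subgroup.mem_centralizer_iff]
    intro u hu
    have h1 : x * u * x⁻¹ ∈ P.map (MulAut.conj x).toMonoidHom := ⟨u, hu, by simp⟩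
    obtain ⟨q, -, hq⟩ := hx h1
    have h2 : x * u * x⁻¹ ∈ Subgroup.centralizer ({g₀} : Set G) := by
      have h3 : (Subgroup.centralizer ({g₀} : Set G)).subtype q = x * u * x⁻¹ := hq
      rw [← h3]
      exact q.2
    have h4 := Subgroup.mem_centralizer_singleton_iff.mp h2
    calc u * (x⁻¹ * g₀ * x) = x⁻¹ * (x * u * x⁻¹ * g₀) * x := by group
      _ = x⁻¹ * (g₀ * (x * u * x⁻¹)) * x := by rw [h4]
      _ = x⁻¹ * g₀ * x * u := by group

/-- S0917, for `b = blockOf M ξ₀`, `B = blockOf M χ₀`. -/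
theorem induced_defect_le {p : ℕ} [Fact p.Prime] {M : Ideal AlgInt} (hM : IsPModular p M)
    [hMp : M.IsPrime] (H : Subgroup G) [Fintype H] (ξ₀ : IrrCharacter H) (χ₀ : IrrCharacter G)
    (hind : IsInducedBlock M H (blockOf M (ξ₀ : H → ℂ)) (blockOf M (χ₀ : G → ℂ)))
    (D : Subgroup H) (hD : IsDefectGroup p M (blockOf M (ξ₀ : H → ℂ)) D) :
    ∃ E : Subgroup G, IsDefectGroup p M (blockOf M (χ₀ : G → ℂ)) E ∧ D.map H.subtype ≤ E := by
  classical
  have hχ₀ : χ₀ ∈ blockOf M (χ₀ : G → ℂ) := sameBlock_refl _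
  have hξ₀ : ξ₀ ∈ blockOf M (ξ₀ : H → ℂ) := sameBlock_refl _
  obtain ⟨-, -, hcong⟩ := hind
  obtain ⟨c, hc, hcv⟩ := osima (M := M) χ₀
  obtain ⟨ι, hι⟩ := exists_class_reps G
  obtain ⟨ιH, hιH⟩ := exists_class_reps H
  -- the induced central character as a sum of central characters of `H`
  have hF : ∀ r : G, IsClassFunction H (fun h : H => if IsConj r (h : G) then (1 : ℂ) else 0) := by
    intro r h k
    show (if IsConj r ((k * h * k⁻¹ : H) : G) then (1 : ℂ) else 0)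
      = if IsConj r (h : G) then (1 : ℂ) else 0
    have hc : IsConj (h : G) ((k * h * k⁻¹ : H) : G) := isConj_iff.mpr ⟨(k : G), by simp⟩
    have hiff : IsConj r ((k * h * k⁻¹ : H) : G) ↔ IsConj r (h : G) :=
      ⟨fun hx => hx.trans hc.symm, fun hx => hx.trans hc⟩
    simp only [hiff]
  have hval : ∀ r : G, inducedCentralChar H (ξ₀ : H → ℂ) r
      = ∑ y ∈ ιH, (if IsConj r (y : G) then (1 : ℂ) else 0) * centralChar (ξ₀ : H → ℂ) y := by
    intro r
    rw [inducedCentralChar_eq]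
    exact classFun_value (G := H) (hF r) ιH hιH ξ₀
  have hindS : ∀ r : G, MemLocalRing M (inducedCentralChar H (ξ₀ : H → ℂ) r) := by
    intro r
    rw [hval r]
    refine (locRing M).sum_mem fun y _ => (locRing M).mul_mem ?_ (centralChar_memLocalRing ξ₀ y)
    by_cases hcj : IsConj r (y : G)
    · simp only [if_pos hcj]
      exact (locRing M).one_mem
    · simp only [if_neg hcj]
      exact (locRing M).zero_mem
  have ha : MemLocalIdeal M
      (∑ r ∈ ι, specFun c r * inducedCentralChar H (ξ₀ : H → ℂ) r - 1) := by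
    have h1 : c χ₀ = 1 := (hcv χ₀).1 (sameBlock_refl _)
    rw [← h1, spec_value c ι hι χ₀, ← Finset.sum_sub_distrib]
    refine memLocalIdeal_sum _ _ fun r _ => ?_
    rw [← mul_sub]
    exact memLocalIdeal_mul_left (hc r) (hcong ξ₀ hξ₀ χ₀ hχ₀ r)
  have hex : ∃ r ∈ ι, ¬ MemLocalIdeal M (specFun c r * inducedCentralChar H (ξ₀ : H → ℂ) r) := by
    by_contra hcon
    push Not at hcon
    have h1 := memLocalIdeal_sub (memLocalIdeal_sum _ _ hcon) ha
    rw [sub_sub_cancel] at h1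
    exact not_memLocalIdeal_one h1
  obtain ⟨r, -, hr⟩ := hex
  have hr1 : ¬ MemLocalIdeal M (specFun c r) := by
    intro hmem
    apply hr
    rw [mul_comm]
    exact memLocalIdeal_mul_left (hindS r) hmem
  have hr2 : ¬ MemLocalIdeal M (inducedCentralChar H (ξ₀ : H → ℂ) r) := by
    intro hmem
    exact hr (memLocalIdeal_mul_left (hc r) hmem)
  have hexy : ∃ y ∈ ιH, IsConj r (y : G) ∧ ¬ MemLocalIdeal M (centralChar (ξ₀ : H → ℂ) y) := by
    by_contra hcon
    push Not at hcon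
    apply hr2
    rw [hval r]
    refine memLocalIdeal_sum _ _ fun y hy => ?_
    by_cases hcj : IsConj r (y : G)
    · simp only [if_pos hcj, one_mul]
      exact hcon y hy hcj
    · simp only [if_neg hcj, zero_mul]
      exact memLocalIdeal_zero hMp.ne_top
  obtain ⟨y, -, hry, hy⟩ := hexy
  -- min–max in `H`
  obtain ⟨h₀, hh₀, Q, rfl⟩ := hD
  obtain ⟨Qy⟩ := (inferInstance : Nonempty (Sylow p (Subgroup.centralizer ({y} : Set H))))
  have h1 := blockCoeff_defLe hM ξ₀ y _ (defLe_sylow y Qy) ⟨ξ₀, hξ₀, hy⟩ h₀ hh₀.2.1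
  obtain ⟨x, hx⟩ := h1 _ (Q.2.map _) (Subgroup.map_subtype_le _)
  -- the element `y' = x y x⁻¹`
  have hcent : ∀ d ∈ (Q : Subgroup (Subgroup.centralizer ({h₀} : Set H))).map
      (Subgroup.centralizer ({h₀} : Set H)).subtype, d * (x * y * x⁻¹) = (x * y * x⁻¹) * d := by
    intro d hd
    obtain ⟨q, hq, hqe⟩ := hx hd
    obtain ⟨q', -, rfl⟩ := hq
    have h2 : (q' : H) * y = y * (q' : H) := Subgroup.mem_centralizer_singleton_iff.mp q'.2
    simp only [MulEquiv.toMonoidHom_eq_coe, MonoidHom.coe_coe, MulAut.conj_apply,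
      Subgroup.coe_subtype] at hqe
    rw [← hqe]
    calc x * (q' : H) * x⁻¹ * (x * y * x⁻¹) = x * ((q' : H) * y) * x⁻¹ := by group
      _ = x * (y * (q' : H)) * x⁻¹ := by rw [h2]
      _ = x * y * x⁻¹ * (x * (q' : H) * x⁻¹) := by group
  obtain ⟨y', hy'⟩ : ∃ y' : G, y' = ((x * y * x⁻¹ : H) : G) := ⟨_, rfl⟩
  have hconj : IsConj r y' := by
    rw [hy']
    exact hry.trans (isConj_iff.mpr ⟨(x : G), by simp⟩)
  have hβ : ¬ MemLocalIdeal M (blockCoeff (blockOf M (χ₀ : G → ℂ)) y') := by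
    have e := blockCoeff_eq_specFun (blockOf M (χ₀ : G → ℂ)) c (fun ψ hψ => (hcv ψ).1 hψ)
      (fun ψ hψ => (hcv ψ).2 hψ) y'
    rw [e]
    obtain ⟨z, hz⟩ := isConj_iff.mp hconj
    rw [← hz, specFun_isClassFunction c r z]
    exact hr1
  -- min–max in `G`
  obtain ⟨g₀, hg₀⟩ := exists_defect_class (M := M) χ₀
  obtain ⟨Q₀⟩ := (inferInstance : Nonempty (Sylow p (Subgroup.centralizer ({g₀} : Set G))))
  have h3 := blockCoeff_defLe hM χ₀ g₀ _ (defLe_sylow g₀ Q₀) ⟨χ₀, hχ₀, hg₀.2.2 χ₀ hχ₀⟩ y' hβ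
  have hPc : ((Q : Subgroup (Subgroup.centralizer ({h₀} : Set H))).map
      (Subgroup.centralizer ({h₀} : Set H)).subtype).map H.subtype
      ≤ Subgroup.centralizer ({y'} : Set G) := by
    rintro _ ⟨d, hd, rfl⟩
    rw [Subgroup.mem_centralizer_singleton_iff, hy']
    have h4 := hcent d hd
    have h5 := congrArg (Subtype.val : H → G) h4
    exact h5
  obtain ⟨z, hz⟩ := h3 _ ((Q.2.map _).map _) hPc
  refine exists_defect_group_ge (isDefectClass_conj hg₀ z) _ ((Q.2.map _).map _) ?_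
  intro a ha
  obtain ⟨d, hd, hde⟩ := hz ha
  obtain ⟨d', -, rfl⟩ := hd
  have h6 : (d' : G) * g₀ = g₀ * (d' : G) := Subgroup.mem_centralizer_singleton_iff.mp d'.2
  simp only [MulEquiv.toMonoidHom_eq_coe, MonoidHom.coe_coe, MulAut.conj_apply,
    Subgroup.coe_subtype] at hde
  rw [Subgroup.mem_centralizer_singleton_iff, ← hde]
  calc z * (d' : G) * z⁻¹ * (z * g₀ * z⁻¹) = z * ((d' : G) * g₀) * z⁻¹ := by group
    _ = z * (g₀ * (d' : G)) * z⁻¹ := by rw [h6]
    _ = z * g₀ * z⁻¹ * (z * (d' : G) * z⁻¹) := by group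

end Blocks

end Cfsg.Agent.Helper5
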