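import Mathlib
import Cfsg.Agent.Helper5.BlkDef
import Cfsg.Agent.Helper5.BlkOrth2
import Cfsg.Agent.Helper22.MatInt

/-!
helper5: the order of a defect group is `p ^ defect`.
-/

set_option autoImplicit false

namespace Cfsg.Agent.Helper5

open Cfsg Cfsg.Agent.Helper24 Cfsg.Agent.Helper22

universe u

section Avg

variable {G : Type u} [Group G] [Fintype G]

/-- the average of a character over a coset `D g` of a subgroup centralized by `g` is an
algebraic integer (it is the trace of `g` on the fixed space of `D`). -/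
theorem avg_char_isIntegral {n : ℕ}
    (ρ : Representation ℂ G (Fin n → ℂ)) (D : Subgroup G) [Fintype D] (g : G)
    (hg : ∀ u ∈ D, u * g = g * u) :
    IsIntegral ℤ ((Nat.card D : ℂ)⁻¹ * ∑ u : D, ρ.character ((u : G) * g)) := by
  classical
  obtain ⟨E, hE⟩ : ∃ E : Module.End ℂ (Fin n → ℂ), E = ∑ u : D, ρ (u : G) := ⟨_, rfl⟩
  obtain ⟨R, hR⟩ : ∃ R : Module.End ℂ (Fin n → ℂ), R = ρ g := ⟨_, rfl⟩
  have hd0 : (Nat.card D : ℂ) ≠ 0 := Nat.cast_ne_zero.mpr Nat.card_pos.ne'
  have hER : E * R = R * E := by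
    rw [hE, hR, Finset.sum_mul, Finset.mul_sum]
    refine Finset.sum_congr rfl fun u _ => ?_
    rw [← map_mul, ← map_mul, hg u u.2]
  have hEE : E * E = (Nat.card D : ℂ) • E := by
    rw [hE, Finset.sum_mul]
    have h1 : ∀ u : D, ρ (u : G) * ∑ v : D, ρ (v : G) = ∑ v : D, ρ (v : G) := by
      intro u
      rw [Finset.mul_sum]
      have h2 := Equiv.sum_comp (Equiv.mulLeft u) (fun v : D => ρ (v : G))
      rw [← h2]
      refine Finset.sum_congr rfl fun v _ => ?_
      rw [← map_mul]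
      rfl
    rw [Finset.sum_congr rfl fun u _ => h1 u, Finset.sum_const, Finset.card_univ,
      Nat.card_eq_fintype_card, Nat.cast_smul_eq_nsmul]
  have hRN : R ^ (Nat.card G + 1) = R := by
    rw [pow_succ, hR, rep_pow_card ρ g, one_mul]
  obtain ⟨T, hT⟩ : ∃ T : Module.End ℂ (Fin n → ℂ), T = (Nat.card D : ℂ)⁻¹ • (E * R) :=
    ⟨_, rfl⟩
  have hTk : ∀ k : ℕ, T ^ (k + 1) = (Nat.card D : ℂ)⁻¹ • (E * R ^ (k + 1)) := by
    intro k
    induction k with
    | zero => rw [zero_add, pow_one, pow_one, hT]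
    | succ k ih =>
      have hc : Commute E R := hER
      have hc2 : E * R ^ (k + 1) = R ^ (k + 1) * E := (hc.pow_right (k + 1)).eq
      have e : E * R ^ (k + 1) * (E * R) = (Nat.card D : ℂ) • (E * R ^ (k + 1 + 1)) := by
        calc E * R ^ (k + 1) * (E * R) = E * (R ^ (k + 1) * E) * R := by
              simp only [mul_assoc]
          _ = E * (E * R ^ (k + 1)) * R := by rw [hc2]
          _ = (E * E) * (R ^ (k + 1) * R) := by simp only [mul_assoc]
          _ = (Nat.card D : ℂ) • (E * R ^ (k + 1 + 1)) := by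
              rw [hEE, ← pow_succ, smul_mul_assoc]
      rw [pow_succ, ih, hT, smul_mul_smul_comm, e, smul_smul, mul_assoc,
        inv_mul_cancel₀ hd0, mul_one]
  have hTN : T ^ (Nat.card G + 1) = T := by
    rw [hTk, hRN, hT]
  have htr : LinearMap.trace ℂ _ T
      = (Nat.card D : ℂ)⁻¹ * ∑ u : D, ρ.character ((u : G) * g) := by
    rw [hT, map_smul, smul_eq_mul, hE, Finset.sum_mul, map_sum]
    congr 1
    refine Finset.sum_congr rfl fun u _ => ?_
    rw [hR, ← map_mul]
    rfl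
  rw [← htr]
  have hmat := Cfsg.Agent.Helper22.isIntegral_trace_of_aeval_eq_zero
    (LinearMap.toMatrixAlgEquiv' T) (Polynomial.X ^ (Nat.card G + 1) - Polynomial.X)
    (Polynomial.monic_X_pow_sub (by
      rw [Polynomial.degree_X]
      exact_mod_cast Nat.succ_lt_succ (Nat.card_pos : 0 < Nat.card G))) (by
      rw [map_sub, map_pow, Polynomial.aeval_X, ← map_pow, hTN, sub_self])
  rw [LinearMap.trace_eq_matrix_trace ℂ (Pi.basisFun ℂ (Fin n)), LinearMap.toMatrix_eq_toMatrix']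
  exact hmat

end Avg

section Blocks

variable {G : Type u} [Group G] [Fintype G]

theorem irr_avg_isIntegral (χ : IrrCharacter G) (D : Subgroup G) [Fintype D] (g : G)
    (hg : ∀ u ∈ D, u * g = g * u) :
    IsIntegral ℤ ((Nat.card D : ℂ)⁻¹ * ∑ u : D, (χ : G → ℂ) ((u : G) * g)) := by
  obtain ⟨n, ρ, -, hρ⟩ := χ.2
  rw [← hρ]
  exact avg_char_isIntegral ρ D g hg

/-- classes with a unit idempotent coefficient are `p`-regular. -/
theorem pRegular_of_blockCoeff {p : ℕ} {M : Ideal AlgInt} (hM : IsPModular p M)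
    [hMp : M.IsPrime] (χ₀ : IrrCharacter G) (g : G)
    (hg : ¬ MemLocalIdeal M (blockCoeff (blockOf M (χ₀ : G → ℂ)) g)) : ¬ p ∣ orderOf g := by
  intro hdvd
  apply hg
  have h1 : ¬ p ∣ orderOf (1 : G) := by
    rw [orderOf_one, Nat.dvd_one]
    exact hM.1.one_lt.ne'
  have h := weak_block_orth hM χ₀ 1 g h1 hdvd
  unfold blockCoeff
  rw [h, mul_zero]
  exact memLocalIdeal_zero hMp.ne_top

/-- the `p`-part of the class size divides the degree when the central character is a unit. -/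
theorem degree_val_ge {p : ℕ} [Fact p.Prime] {M : Ideal AlgInt} (hM : IsPModular p M)
    [hMp : M.IsPrime] (χ : IrrCharacter G) (g : G)
    (h : ¬ MemLocalIdeal M (centralChar (χ : G → ℂ) g)) :
    ((Subgroup.centralizer ({g} : Set G)).index).factorization p
      ≤ (charDegree (χ : G → ℂ)).factorization p := by
  have hp := hM.1
  obtain ⟨n, hn, hnG⟩ := irr_degree_dvd_card χ
  have hdeg : charDegree (χ : G → ℂ) = n := charDegree_of_eq hn
  have h10 := Cfsg.Agent.Helper5.irr_one_ne_zero χ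
  have hn0 : n ≠ 0 := by
    intro h0
    rw [h0, Nat.cast_zero] at hn
    exact h10 hn
  rw [hdeg]
  by_contra hlt
  push Not at hlt
  apply h
  obtain ⟨idx, hidx⟩ : ∃ idx : ℕ, idx = (Subgroup.centralizer ({g} : Set G)).index := ⟨_, rfl⟩
  have hidx0 : idx ≠ 0 := by
    rw [hidx]
    exact Subgroup.index_ne_zero_of_finite
  rw [← hidx] at hlt
  obtain ⟨j, hj⟩ : p ^ (n.factorization p + 1) ∣ idx :=
    (hp.pow_dvd_iff_le_factorization hidx0).mpr hlt
  obtain ⟨f, hf⟩ : ∃ f : ℕ, f = n / p ^ n.factorization p := ⟨_, rfl⟩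
  have hnf : p ^ n.factorization p * f = n := by
    rw [hf]
    exact Nat.ordProj_mul_ordCompl_eq_self n p
  have hfp : ¬ p ∣ f := by
    rw [hf]
    exact Nat.not_dvd_ordCompl hp hn0
  have hf0 : (f : ℂ) ≠ 0 := by
    intro h0
    apply hfp
    rw [Nat.cast_eq_zero.mp h0]
    exact dvd_zero p
  have hp0 : (p : ℂ) ≠ 0 := Nat.cast_ne_zero.mpr hp.ne_zero
  have hnc : (n : ℂ) = (p : ℂ) ^ (n.factorization p) * (f : ℂ) := by
    exact_mod_cast hnf.symm
  have hic : ((Subgroup.centralizer ({g} : Set G)).index : ℂ)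
      = (p : ℂ) ^ (n.factorization p + 1) * (j : ℂ) := by
    rw [← hidx]
    exact_mod_cast hj
  have e : centralChar (χ : G → ℂ) g
      = ((j : ℂ) * (χ : G → ℂ) g * (f : ℂ)⁻¹) * (p : ℂ) := by
    unfold centralChar
    rw [hic, hn, hnc, pow_succ]
    field_simp
  rw [e]
  exact memLocalIdeal_mul_left ((locRing M).mul_mem ((locRing M).mul_mem (natCast_memLocalRing j)
    (integral_mem_locRing (irr_isIntegral χ g))) (natCast_inv_memLocalRing hM hfp))
    (prime_memLocalIdeal hM)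

/-- some character of the block has small `p`-part of the degree. -/
theorem exists_degree_val_le {p : ℕ} [Fact p.Prime] {M : Ideal AlgInt} (hM : IsPModular p M)
    [hMp : M.IsPrime] (χ₀ : IrrCharacter G) (g : G)
    (hg : ¬ MemLocalIdeal M (blockCoeff (blockOf M (χ₀ : G → ℂ)) g)) (D : Subgroup G)
    (hD : IsPGroup p D) (hDg : ∀ u ∈ D, u * g = g * u) :
    ∃ χ ∈ blockOf M (χ₀ : G → ℂ),
      (charDegree (χ : G → ℂ)).factorization p + (Nat.card D).factorization p
        ≤ (Nat.card G).factorization p := by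
  classical
  have hp := hM.1
  have : Fintype D := Fintype.ofFinite D
  by_contra hcon
  push Not at hcon
  apply hg
  have hreg := pRegular_of_blockCoeff hM χ₀ g hg
  have hG0 : (Nat.card G : ℂ) ≠ 0 := Nat.cast_ne_zero.mpr Nat.card_pos.ne'
  have hd0 : (Nat.card D : ℂ) ≠ 0 := Nat.cast_ne_zero.mpr Nat.card_pos.ne'
  obtain ⟨S, hS⟩ : ∃ S : Finset (IrrCharacter G), S = Finset.univ.filter
      (fun χ : IrrCharacter G => SameBlock M (χ₀ : G → ℂ) (χ : G → ℂ)) := ⟨_, rfl⟩
  have hSmem : ∀ χ : IrrCharacter G, χ ∈ S ↔ SameBlock M (χ₀ : G → ℂ) (χ : G → ℂ) :=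
    fun χ => by
      rw [hS, Finset.mem_filter]
      exact ⟨fun h => h.2, fun h => ⟨Finset.mem_univ _, h⟩⟩
  have hβ : blockCoeff (blockOf M (χ₀ : G → ℂ)) g
      = (Nat.card G : ℂ)⁻¹ * ∑ χ ∈ S, (χ : G → ℂ) 1 * starRingEnd ℂ ((χ : G → ℂ) g) := by
    unfold blockCoeff
    congr 1
    rw [finsum_mem_def, finsum_eq_sum_of_fintype, hS, Finset.sum_filter]
    refine Finset.sum_congr rfl fun χ _ => ?_
    by_cases hχ : SameBlock M (χ₀ : G → ℂ) (χ : G → ℂ)
    · rw [if_pos hχ, Set.indicator_of_mem (show χ ∈ blockOf M (χ₀ : G → ℂ) from hχ)]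
    · rw [if_neg hχ, Set.indicator_of_notMem (show χ ∉ blockOf M (χ₀ : G → ℂ) from hχ)]
  have h1 : ¬ p ∣ orderOf (1 : G) := by
    rw [orderOf_one, Nat.dvd_one]
    exact hp.one_lt.ne'
  have hsing : ∀ u : D, u ≠ 1 → p ∣ orderOf ((u : G) * g) := by
    intro u hu
    obtain ⟨k, hk⟩ := (IsPGroup.iff_orderOf.mp hD) u
    have hk' : orderOf (u : G) = p ^ k := by rw [Subgroup.orderOf_coe, hk]
    have hk0 : k ≠ 0 := by
      intro h0
      rw [h0, pow_zero, orderOf_eq_one_iff] at hk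
      exact hu hk
    have hco : (orderOf (u : G)).Coprime (orderOf g) := by
      rw [hk']
      exact Nat.Coprime.pow_left k ((Nat.Prime.coprime_iff_not_dvd hp).mpr hreg)
    have hcomm : Commute (u : G) g := hDg u u.2
    rw [hcomm.orderOf_mul_eq_mul_orderOf_of_coprime hco, hk']
    exact Dvd.dvd.mul_right (dvd_pow_self p hk0) _
  have hsum : ∑ χ ∈ S, (χ : G → ℂ) 1 * starRingEnd ℂ ((χ : G → ℂ) g)
      = ∑ χ ∈ S, (χ : G → ℂ) 1 * (Nat.card D : ℂ) * starRingEnd ℂ
          ((Nat.card D : ℂ)⁻¹ * ∑ u : D, (χ : G → ℂ) ((u : G) * g)) := by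
    have e1 : ∑ u : D, ∑ χ ∈ S, (χ : G → ℂ) 1 * starRingEnd ℂ ((χ : G → ℂ) ((u : G) * g))
        = ∑ χ ∈ S, (χ : G → ℂ) 1 * starRingEnd ℂ ((χ : G → ℂ) g) := by
      rw [Finset.sum_eq_single (1 : D)]
      · simp
      · intro u _ hu
        rw [hS]
        exact weak_block_orth_sum hM χ₀ 1 ((u : G) * g) h1 (hsing u hu)
      · intro h
        exact absurd (Finset.mem_univ _) h
    rw [← e1, Finset.sum_comm]
    refine Finset.sum_congr rfl fun χ _ => ?_
    rw [map_mul, map_inv₀, Complex.conj_natCast, map_sum, ← Finset.mul_sum]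
    field_simp
  rw [hβ, hsum, Finset.mul_sum]
  refine memLocalIdeal_sum _ _ fun χ hχ => ?_
  have hχB : χ ∈ blockOf M (χ₀ : G → ℂ) := (hSmem χ).mp hχ
  have hlt := hcon χ hχB
  obtain ⟨n, hn, hnG⟩ := irr_degree_dvd_card χ
  have hdeg : charDegree (χ : G → ℂ) = n := charDegree_of_eq hn
  have h10 := Cfsg.Agent.Helper5.irr_one_ne_zero χ
  have hn0 : n ≠ 0 := by
    intro h0
    rw [h0, Nat.cast_zero] at hn
    exact h10 hn
  rw [hdeg] at hlt
  have hcardG0 : Nat.card G ≠ 0 := Nat.card_pos.ne'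
  have hnD0 : n * Nat.card D ≠ 0 := Nat.mul_ne_zero hn0 Nat.card_pos.ne'
  have hfac : (Nat.card G).factorization p + 1 ≤ (n * Nat.card D).factorization p := by
    rw [Nat.factorization_mul hn0 Nat.card_pos.ne', Finsupp.add_apply]
    exact hlt
  obtain ⟨j, hj⟩ : p ^ ((Nat.card G).factorization p + 1) ∣ n * Nat.card D :=
    (hp.pow_dvd_iff_le_factorization hnD0).mpr hfac
  obtain ⟨m, hm⟩ : ∃ m : ℕ, m = Nat.card G / p ^ (Nat.card G).factorization p := ⟨_, rfl⟩
  have hGm : p ^ (Nat.card G).factorization p * m = Nat.card G := by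
    rw [hm]
    exact Nat.ordProj_mul_ordCompl_eq_self _ p
  have hmp : ¬ p ∣ m := by
    rw [hm]
    exact Nat.not_dvd_ordCompl hp hcardG0
  have hm0 : (m : ℂ) ≠ 0 := by
    intro h0
    apply hmp
    rw [Nat.cast_eq_zero.mp h0]
    exact dvd_zero p
  have hp0 : (p : ℂ) ≠ 0 := Nat.cast_ne_zero.mpr hp.ne_zero
  have hjc : (n : ℂ) * (Nat.card D : ℂ)
      = (p : ℂ) ^ ((Nat.card G).factorization p + 1) * (j : ℂ) := by
    exact_mod_cast hj
  have hGc : (Nat.card G : ℂ) = (p : ℂ) ^ (Nat.card G).factorization p * (m : ℂ) := by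
    exact_mod_cast hGm.symm
  have e : (Nat.card G : ℂ)⁻¹ * ((χ : G → ℂ) 1 * (Nat.card D : ℂ) * starRingEnd ℂ
        ((Nat.card D : ℂ)⁻¹ * ∑ u : D, (χ : G → ℂ) ((u : G) * g)))
      = ((j : ℂ) * (m : ℂ)⁻¹ * starRingEnd ℂ
        ((Nat.card D : ℂ)⁻¹ * ∑ u : D, (χ : G → ℂ) ((u : G) * g))) * (p : ℂ) := by
    rw [hn, hjc, hGc, pow_succ]
    field_simp
  rw [e]
  have hint : IsIntegral ℤ (starRingEnd ℂ
      ((Nat.card D : ℂ)⁻¹ * ∑ u : D, (χ : G → ℂ) ((u : G) * g))) :=
    map_isIntegral_int (starRingEnd ℂ) (irr_avg_isIntegral χ D g hDg)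
  exact memLocalIdeal_mul_left ((locRing M).mul_mem ((locRing M).mul_mem (natCast_memLocalRing j)
    (natCast_inv_memLocalRing hM hmp)) (integral_mem_locRing hint)) (prime_memLocalIdeal hM)

/-- **the order of a defect group** is `p ^ defect`. -/
theorem card_defect_group {p : ℕ} [Fact p.Prime] {M : Ideal AlgInt} (hM : IsPModular p M)
    [hMp : M.IsPrime] (χ₀ : IrrCharacter G) (D : Subgroup G)
    (hD : IsDefectGroup p M (blockOf M (χ₀ : G → ℂ)) D) :
    Nat.card D = p ^ blockDefect p (blockOf M (χ₀ : G → ℂ)) := by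
  have hp := hM.1
  obtain ⟨g, hg, Q, rfl⟩ := hD
  have hcardD : Nat.card ((Q : Subgroup (Subgroup.centralizer ({g} : Set G))).map
      (Subgroup.centralizer ({g} : Set G)).subtype)
      = p ^ (Nat.card (Subgroup.centralizer ({g} : Set G))).factorization p := by
    rw [Subgroup.card_map_of_injective (Subgroup.subtype_injective _)]
    exact Sylow.card_eq_multiplicity Q
  rw [hcardD]
  congr 1
  have hmul : Nat.card (Subgroup.centralizer ({g} : Set G))
      * (Subgroup.centralizer ({g} : Set G)).index = Nat.card G :=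
    Subgroup.card_mul_index _
  have hidx0 : (Subgroup.centralizer ({g} : Set G)).index ≠ 0 := Subgroup.index_ne_zero_of_finite
  have hC0 : Nat.card (Subgroup.centralizer ({g} : Set G)) ≠ 0 := Nat.card_pos.ne'
  have hfac : (Nat.card G).factorization p
      = (Nat.card (Subgroup.centralizer ({g} : Set G))).factorization p
        + ((Subgroup.centralizer ({g} : Set G)).index).factorization p := by
    rw [← hmul, Nat.factorization_mul hC0 hidx0, Finsupp.add_apply]
  have hi : ∀ χ ∈ blockOf M (χ₀ : G → ℂ),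
      ((Subgroup.centralizer ({g} : Set G)).index).factorization p
        ≤ (charDegree (χ : G → ℂ)).factorization p :=
    fun χ hχ => degree_val_ge hM χ g (hg.2.2 χ hχ)
  obtain ⟨χ₁, hχ₁, hle⟩ := exists_degree_val_le hM χ₀ g hg.2.1
    ((Q : Subgroup (Subgroup.centralizer ({g} : Set G))).map
      (Subgroup.centralizer ({g} : Set G)).subtype) (Q.2.map _) (by
    rintro _ ⟨u, -, rfl⟩
    have h2 : (u : G) ∈ Subgroup.centralizer ({g} : Set G) := u.2
    exact Subgroup.mem_centralizer_singleton_iff.mp h2)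
  rw [hcardD, Nat.factorization_pow_self hp, hfac] at hle
  have heq : (charDegree (χ₁ : G → ℂ)).factorization p
      = ((Subgroup.centralizer ({g} : Set G)).index).factorization p :=
    le_antisymm (by omega) (hi χ₁ hχ₁)
  have hinf : sInf ((fun χ : IrrCharacter G => (charDegree (χ : G → ℂ)).factorization p)
      '' blockOf M (χ₀ : G → ℂ))
      = ((Subgroup.centralizer ({g} : Set G)).index).factorization p := by
    refine le_antisymm ?_ ?_
    · rw [← heq]
      exact Nat.sInf_le ⟨χ₁, hχ₁, rfl⟩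
    · refine le_csInf ⟨_, ⟨χ₁, hχ₁, rfl⟩⟩ ?_
      rintro _ ⟨χ, hχ, rfl⟩
      exact hi χ hχ
  unfold blockDefect
  rw [hinf, hfac]
  omega

end Blocks

end Cfsg.Agent.Helper5
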