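import Mathlib
import Cfsg.Agent.Helper5.BlkDefect

/-!
helper5: values of height-zero characters near a defect class (S0927), defect zero and
induction (S0931).
-/

set_option autoImplicit false

namespace Cfsg.Agent.Helper5

open Cfsg Cfsg.Agent.Helper24 Cfsg.Agent.Helper22

universe u

section Blocks

variable {G : Type u} [Group G] [Fintype G]

/-- `χ(x y) ≡ χ(y)` modulo the local ideal for a `p`-element `x` commuting with `y`. -/
theorem char_mul_ppow_congr {p : ℕ} {M : Ideal AlgInt} (hM : IsPModular p M) [hMp : M.IsPrime]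
    {χ : G → ℂ} (hχ : IsCharacter G χ) (x y : G) (hxy : x * y = y * x) (k : ℕ)
    (hx : x ^ (p ^ k) = 1) : MemLocalIdeal M (χ (x * y) - χ y) := by
  classical
  obtain ⟨A, hA⟩ : ∃ A : Subgroup G, A = Subgroup.centralizer
      (Subgroup.centralizer ({x, y} : Set G) : Set G) ⊓ Subgroup.centralizer ({x, y} : Set G) :=
    ⟨_, rfl⟩
  have hAmem : ∀ g : G, g ∈ A ↔ g ∈ Subgroup.centralizer
      (Subgroup.centralizer ({x, y} : Set G) : Set G) ∧ g ∈ Subgroup.centralizer ({x, y} : Set G) := by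
    intro g
    rw [hA]
    exact Subgroup.mem_inf
  have hcomm : ∀ a b : A, a * b = b * a := by
    intro a b
    have ha : (a : G) ∈ Subgroup.centralizer (Subgroup.centralizer ({x, y} : Set G) : Set G) :=
      ((hAmem a).mp a.2).1
    have hb : (b : G) ∈ Subgroup.centralizer ({x, y} : Set G) := ((hAmem b).mp b.2).2
    apply Subtype.ext
    exact (Subgroup.mem_centralizer_iff.mp ha (b : G) hb).symm
  have hxC : x ∈ Subgroup.centralizer ({x, y} : Set G) := by
    rw [Subgroup.mem_centralizer_iff]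
    intro h hh
    rcases hh with rfl | rfl
    · rfl
    · exact hxy.symm
  have hyC : y ∈ Subgroup.centralizer ({x, y} : Set G) := by
    rw [Subgroup.mem_centralizer_iff]
    intro h hh
    rcases hh with rfl | rfl
    · exact hxy
    · rfl
  have hxA : x ∈ A := by
    rw [hAmem]
    refine ⟨?_, hxC⟩
    rw [Subgroup.mem_centralizer_iff]
    intro h hh
    exact (Subgroup.mem_centralizer_iff.mp hh x (by simp)).symm
  have hyA : y ∈ A := by
    rw [hAmem]
    refine ⟨?_, hyC⟩
    rw [Subgroup.mem_centralizer_iff]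
    intro h hh
    exact (Subgroup.mem_centralizer_iff.mp hh y (by simp)).symm
  have : Fintype A := Fintype.ofFinite A
  have hres : IsCharacter A (fun a : A => χ a) := isCharacter_restrict A hχ
  have hdec := classFunction_eq_sum_irr (fun a : A => χ a) (isCharacter_isClassFunction hres)
  have hval : ∀ a : A, χ a = ∑ μ : IrrCharacter A,
      classInner (fun a : A => χ a) (μ : A → ℂ) * (μ : A → ℂ) a := by
    intro a
    have h1 := congrFun hdec a
    simp only [Finset.sum_apply, Pi.smul_apply, smul_eq_mul] at h1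
    exact h1
  have e1 := hval ⟨x * y, A.mul_mem hxA hyA⟩
  have e2 := hval ⟨y, hyA⟩
  have e3 : χ (x * y) - χ y = ∑ μ : IrrCharacter A,
      (classInner (fun a : A => χ a) (μ : A → ℂ) * (μ : A → ℂ) ⟨x * y, A.mul_mem hxA hyA⟩
        - classInner (fun a : A => χ a) (μ : A → ℂ) * (μ : A → ℂ) ⟨y, hyA⟩) := by
    rw [Finset.sum_sub_distrib, ← e1, ← e2]
  rw [e3]
  refine memLocalIdeal_sum _ _ fun μ _ => ?_
  obtain ⟨m, hm⟩ := isCharacter_inner_irr hres μ
  have hlin : (μ : A → ℂ) 1 = 1 := irr_one_of_comm hcomm μ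
  have hmul := irr_linear_mul μ hlin ⟨x, hxA⟩ ⟨y, hyA⟩
  have hpow : ∀ n : ℕ, (μ : A → ℂ) ((⟨x, hxA⟩ : A) ^ n) = (μ : A → ℂ) ⟨x, hxA⟩ ^ n := by
    intro n
    induction n with
    | zero => rw [pow_zero, pow_zero, hlin]
    | succ n ih => rw [pow_succ, pow_succ, irr_linear_mul μ hlin, ih]
  have hroot : (μ : A → ℂ) ⟨x, hxA⟩ ^ (p ^ k) = 1 := by
    rw [← hpow]
    have h1 : (⟨x, hxA⟩ : A) ^ (p ^ k) = 1 := Subtype.ext (by
      rw [Subgroup.coe_pow]
      exact hx)
    rw [h1, hlin]
  have h3 := ppow_root_sub_one_mem hM hroot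
  have e : classInner (fun a : A => χ a) (μ : A → ℂ) * (μ : A → ℂ) ⟨x * y, A.mul_mem hxA hyA⟩
        - classInner (fun a : A => χ a) (μ : A → ℂ) * (μ : A → ℂ) ⟨y, hyA⟩
      = ((m : ℂ) * (μ : A → ℂ) ⟨y, hyA⟩) * ((μ : A → ℂ) ⟨x, hxA⟩ - 1) := by
    rw [hm]
    have h4 : (⟨x * y, A.mul_mem hxA hyA⟩ : A) = ⟨x, hxA⟩ * ⟨y, hyA⟩ := rfl
    rw [h4, hmul]
    ring
  rw [e]
  exact memLocalIdeal_mul_left ((locRing M).mul_mem (natCast_memLocalRing m)
    (integral_mem_locRing (irr_isIntegral μ _))) h3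

theorem natCast_div_memLocalRing {p : ℕ} {M : Ideal AlgInt} (hM : IsPModular p M) {a b : ℕ}
    (ha : a ≠ 0) (hb : b ≠ 0) (h : a.factorization p ≤ b.factorization p) :
    MemLocalRing M ((b : ℂ) / (a : ℂ)) := by
  have hp := hM.1
  have : M.IsPrime := hM.2.1.isPrime
  obtain ⟨fa, hfa⟩ : ∃ f : ℕ, f = a / p ^ a.factorization p := ⟨_, rfl⟩
  have haf : p ^ a.factorization p * fa = a := by
    rw [hfa]
    exact Nat.ordProj_mul_ordCompl_eq_self a p
  have hfap : ¬ p ∣ fa := by
    rw [hfa]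
    exact Nat.not_dvd_ordCompl hp ha
  obtain ⟨j, hj⟩ : p ^ a.factorization p ∣ b := (hp.pow_dvd_iff_le_factorization hb).mpr h
  have hfa0 : (fa : ℂ) ≠ 0 := by
    intro h0
    apply hfap
    rw [Nat.cast_eq_zero.mp h0]
    exact dvd_zero p
  have hp0 : (p : ℂ) ≠ 0 := Nat.cast_ne_zero.mpr hp.ne_zero
  have h1 : (a : ℂ) = (p : ℂ) ^ (a.factorization p) * (fa : ℂ) := by exact_mod_cast haf.symm
  have h2 : (b : ℂ) = (p : ℂ) ^ (a.factorization p) * (j : ℂ) := by exact_mod_cast hj
  have e : (b : ℂ) / (a : ℂ) = (j : ℂ) * (fa : ℂ)⁻¹ := by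
    rw [h2]
    conv_lhs => rw [h1]
    field_simp
  rw [e]
  exact (locRing M).mul_mem (natCast_memLocalRing j) (natCast_inv_memLocalRing hM hfap)

omit [Fintype G] in
theorem fac_card_eq [Finite G] (p : ℕ) (g : G) :
    (Nat.card G).factorization p
      = (Nat.card (Subgroup.centralizer ({g} : Set G))).factorization p
        + ((Subgroup.centralizer ({g} : Set G)).index).factorization p := by
  have hmul : Nat.card (Subgroup.centralizer ({g} : Set G))
      * (Subgroup.centralizer ({g} : Set G)).index = Nat.card G :=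
    Subgroup.card_mul_index _
  have hidx0 : (Subgroup.centralizer ({g} : Set G)).index ≠ 0 := Subgroup.index_ne_zero_of_finite
  have hC0 : Nat.card (Subgroup.centralizer ({g} : Set G)) ≠ 0 := Nat.card_pos.ne'
  rw [← hmul, Nat.factorization_mul hC0 hidx0, Finsupp.add_apply]

/-- the least `p`-part of a degree in a block is the `p`-part of the size of a defect class. -/
theorem sInf_degree_eq {p : ℕ} [Fact p.Prime] {M : Ideal AlgInt} (hM : IsPModular p M)
    [hMp : M.IsPrime] (χ₀ : IrrCharacter G) (g : G)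
    (hg : IsDefectClass M (blockOf M (χ₀ : G → ℂ)) g) :
    sInf ((fun χ : IrrCharacter G => (charDegree (χ : G → ℂ)).factorization p)
      '' blockOf M (χ₀ : G → ℂ))
      = ((Subgroup.centralizer ({g} : Set G)).index).factorization p := by
  have hp := hM.1
  obtain ⟨Q⟩ := (inferInstance : Nonempty (Sylow p (Subgroup.centralizer ({g} : Set G))))
  have hcardD : Nat.card ((Q : Subgroup (Subgroup.centralizer ({g} : Set G))).map
      (Subgroup.centralizer ({g} : Set G)).subtype)
      = p ^ (Nat.card (Subgroup.centralizer ({g} : Set G))).factorization p := by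
    rw [Subgroup.card_map_of_injective (Subgroup.subtype_injective _)]
    exact Sylow.card_eq_multiplicity Q
  have hfac := fac_card_eq p g
  have hi : ∀ χ ∈ blockOf M (χ₀ : G → ℂ),
      ((Subgroup.centralizer ({g} : Set G)).index).factorization p
        ≤ (charDegree (χ : G → ℂ)).factorization p :=
    fun χ hχ => degree_val_ge hM χ g (hg.2.2 χ hχ)
  obtain ⟨χ₁, hχ₁, hle⟩ := exists_degree_val_le hM χ₀ g hg.2.1
    ((Q : Subgroup (Subgroup.centralizer ({g} : Set G))).map
      (Subgroup.centralizer ({g} : Set G)).subtype) (Q.2.map _) (by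
    rintro _ ⟨u, -, rfl⟩
    have h2 : (u : G) ∈ Subgroup.centralizer ({g} : Set G) := u.2
    exact Subgroup.mem_centralizer_singleton_iff.mp h2)
  rw [hcardD, Nat.factorization_pow_self hp, hfac] at hle
  have heq : (charDegree (χ₁ : G → ℂ)).factorization p
      = ((Subgroup.centralizer ({g} : Set G)).index).factorization p :=
    le_antisymm (by omega) (hi χ₁ hχ₁)
  refine le_antisymm ?_ ?_
  · rw [← heq]
    exact Nat.sInf_le ⟨χ₁, hχ₁, rfl⟩
  · refine le_csInf ⟨_, ⟨χ₁, hχ₁, rfl⟩⟩ ?_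
    rintro _ ⟨χ, hχ, rfl⟩
    exact hi χ hχ

/-- a height-zero character is a unit at a defect class. -/
theorem char_unit_of_height_zero {p : ℕ} [Fact p.Prime] {M : Ideal AlgInt} (hM : IsPModular p M)
    [hMp : M.IsPrime] (χ₀ : IrrCharacter G) (y : G)
    (hy : IsDefectClass M (blockOf M (χ₀ : G → ℂ)) y) (χ : IrrCharacter G)
    (hχ : χ ∈ blockOf M (χ₀ : G → ℂ))
    (hht : blockHeight p (blockOf M (χ₀ : G → ℂ)) (χ : G → ℂ) = 0) :
    ¬ MemLocalIdeal M ((χ : G → ℂ) y) := by
  have hs := sInf_degree_eq hM χ₀ y hy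
  unfold blockHeight at hht
  rw [hs] at hht
  have hle := Nat.sub_eq_zero_iff_le.mp hht
  obtain ⟨n, hn, hnG⟩ := irr_degree_dvd_card χ
  have hdeg : charDegree (χ : G → ℂ) = n := charDegree_of_eq hn
  have h10 := Cfsg.Agent.Helper5.irr_one_ne_zero χ
  have hn0 : n ≠ 0 := by
    intro h0
    rw [h0, Nat.cast_zero] at hn
    exact h10 hn
  rw [hdeg] at hle
  intro hmem
  apply hy.2.2 χ hχ
  have e : centralChar (χ : G → ℂ) y
      = (((Subgroup.centralizer ({y} : Set G)).index : ℂ) / (n : ℂ)) * (χ : G → ℂ) y := by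
    unfold centralChar
    rw [hn]
    ring
  rw [e]
  exact memLocalIdeal_mul_left
    (natCast_div_memLocalRing hM hn0 Subgroup.index_ne_zero_of_finite hle) hmem

/-- S0927 (a), general form. -/
theorem char_mul_unit {p : ℕ} [Fact p.Prime] {M : Ideal AlgInt} (hM : IsPModular p M)
    [hMp : M.IsPrime] (χ₀ : IrrCharacter G) (y : G)
    (hy : IsDefectClass M (blockOf M (χ₀ : G → ℂ)) y) (χ : IrrCharacter G)
    (hχ : χ ∈ blockOf M (χ₀ : G → ℂ))
    (hht : blockHeight p (blockOf M (χ₀ : G → ℂ)) (χ : G → ℂ) = 0)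
    (x : G) (hxy : x * y = y * x) (k : ℕ) (hx : x ^ (p ^ k) = 1) :
    ¬ MemLocalIdeal M ((χ : G → ℂ) (x * y)) := by
  intro hmem
  apply char_unit_of_height_zero hM χ₀ y hy χ hχ hht
  have h1 := char_mul_ppow_congr hM (isCharacter_of_isIrrCharacter χ.2) x y hxy k hx
  have h2 := memLocalIdeal_sub hmem h1
  rwa [sub_sub_cancel] at h2

/-- S0927 (b), general form. -/
theorem centralChar_mul_unit {p : ℕ} [Fact p.Prime] {M : Ideal AlgInt} (hM : IsPModular p M)
    [hMp : M.IsPrime] (χ₀ : IrrCharacter G) (y : G)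
    (hy : IsDefectClass M (blockOf M (χ₀ : G → ℂ)) y)
    (x : G) (hxy : x * y = y * x) (k : ℕ) (hx : x ^ (p ^ k) = 1)
    (hval : (Nat.card (Subgroup.centralizer ({y} : Set G))).factorization p
      ≤ (Nat.card (Subgroup.centralizer ({x * y} : Set G))).factorization p) :
    ∀ χ ∈ blockOf M (χ₀ : G → ℂ), ¬ MemLocalIdeal M (centralChar (χ : G → ℂ) (x * y)) := by
  have hχ₀ : χ₀ ∈ blockOf M (χ₀ : G → ℂ) := sameBlock_refl _
  have hs := sInf_degree_eq hM χ₀ y hy
  have hne : ((fun χ : IrrCharacter G => (charDegree (χ : G → ℂ)).factorization p)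
      '' blockOf M (χ₀ : G → ℂ)).Nonempty := ⟨_, ⟨χ₀, hχ₀, rfl⟩⟩
  obtain ⟨χ₁, hχ₁, hχ₁v⟩ := Nat.sInf_mem hne
  have hht : blockHeight p (blockOf M (χ₀ : G → ℂ)) (χ₁ : G → ℂ) = 0 := by
    unfold blockHeight
    rw [← hχ₁v]
    exact Nat.sub_self _
  have h1 := char_mul_unit hM χ₀ y hy χ₁ hχ₁ hht x hxy k hx
  obtain ⟨n, hn, hnG⟩ := irr_degree_dvd_card χ₁
  have hdeg : charDegree (χ₁ : G → ℂ) = n := charDegree_of_eq hn
  have h10 := Cfsg.Agent.Helper5.irr_one_ne_zero χ₁
  have hn0 : n ≠ 0 := by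
    intro h0
    rw [h0, Nat.cast_zero] at hn
    exact h10 hn
  have hv : n.factorization p = ((Subgroup.centralizer ({y} : Set G)).index).factorization p := by
    rw [← hdeg, ← hs]
    exact hχ₁v
  have hf1 := fac_card_eq p y
  have hf2 := fac_card_eq p (x * y)
  have hle : ((Subgroup.centralizer ({x * y} : Set G)).index).factorization p
      ≤ n.factorization p := by
    omega
  have hunit : ¬ MemLocalIdeal M (centralChar (χ₁ : G → ℂ) (x * y)) := by
    intro hmem
    apply h1
    have hidx0 := index_centralizer_ne_zero (x * y)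
    have e : (χ₁ : G → ℂ) (x * y)
        = ((n : ℂ) / ((Subgroup.centralizer ({x * y} : Set G)).index : ℂ))
          * centralChar (χ₁ : G → ℂ) (x * y) := by
      unfold centralChar
      rw [hn]
      have hn0' : (n : ℂ) ≠ 0 := Nat.cast_ne_zero.mpr hn0
      field_simp
    rw [e]
    exact memLocalIdeal_mul_left
      (natCast_div_memLocalRing hM Subgroup.index_ne_zero_of_finite hn0 hle) hmem
  intro χ hχ hmem
  apply hunit
  have hsb : SameBlock M (χ₁ : G → ℂ) (χ : G → ℂ) := sameBlock_trans (sameBlock_symm hχ₁) hχ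
  have h2 := memLocalIdeal_add hMp (hsb (x * y)) hmem
  rwa [sub_add_cancel] at h2

omit [Fintype G] in
theorem val_le_of_sylow_le [Finite G] {p : ℕ} [Fact p.Prime] (C : Subgroup G) (P : Sylow p C)
    (K : Subgroup G) (hle : (P : Subgroup C).map C.subtype ≤ K) :
    (Nat.card C).factorization p ≤ (Nat.card K).factorization p := by
  have hp : p.Prime := Fact.out
  have hcard : Nat.card ((P : Subgroup C).map C.subtype) = p ^ (Nat.card C).factorization p := by
    rw [Subgroup.card_map_of_injective (Subgroup.subtype_injective _)]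
    exact Sylow.card_eq_multiplicity P
  have hdvd := Subgroup.card_dvd_of_le hle
  rw [hcard] at hdvd
  exact (hp.pow_dvd_iff_le_factorization Nat.card_pos.ne').mp hdvd

/-- S0927. -/
theorem defect_class_units {p : ℕ} [Fact p.Prime] {M : Ideal AlgInt} (hM : IsPModular p M)
    [hMp : M.IsPrime] (χ₀ : IrrCharacter G) (y : G)
    (hy : IsDefectClass M (blockOf M (χ₀ : G → ℂ)) y)
    (P : Sylow p (Subgroup.centralizer ({y} : Set G)))
    (x : Subgroup.centralizer ({y} : Set G))
    (hx : x ∈ (P : Subgroup (Subgroup.centralizer ({y} : Set G)))) :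
    (∀ χ ∈ blockOf M (χ₀ : G → ℂ), blockHeight p (blockOf M (χ₀ : G → ℂ)) (χ : G → ℂ) = 0 →
      ¬ MemLocalIdeal M ((χ : G → ℂ) ((x : G) * y))) ∧
    ((∀ w ∈ (P : Subgroup (Subgroup.centralizer ({y} : Set G))), x * w = w * x) →
      ∀ χ ∈ blockOf M (χ₀ : G → ℂ),
        ¬ MemLocalIdeal M (centralChar (χ : G → ℂ) ((x : G) * y))) := by
  have hxy : (x : G) * y = y * (x : G) := Subgroup.mem_centralizer_singleton_iff.mp x.2
  obtain ⟨k, hk⟩ := P.2 ⟨x, hx⟩
  have hxk : (x : G) ^ (p ^ k) = 1 := by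
    have h1 := congrArg (fun z : (P : Subgroup (Subgroup.centralizer ({y} : Set G))) =>
      ((z : Subgroup.centralizer ({y} : Set G)) : G)) hk
    simpa using h1
  refine ⟨fun χ hχ hht => char_mul_unit hM χ₀ y hy χ hχ hht x hxy k hxk, fun hc => ?_⟩
  refine centralChar_mul_unit hM χ₀ y hy x hxy k hxk (val_le_of_sylow_le _ P _ ?_)
  rintro _ ⟨w, hw, rfl⟩
  rw [Subgroup.mem_centralizer_singleton_iff]
  have h1 : (w : G) * y = y * (w : G) := Subgroup.mem_centralizer_singleton_iff.mp w.2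
  have h2 : (x : G) * (w : G) = (w : G) * (x : G) := congrArg Subtype.val (hc w hw)
  show (w : G) * ((x : G) * y) = (x : G) * y * (w : G)
  calc (w : G) * ((x : G) * y) = ((w : G) * (x : G)) * y := by rw [mul_assoc]
    _ = ((x : G) * (w : G)) * y := by rw [h2]
    _ = (x : G) * ((w : G) * y) := by rw [mul_assoc]
    _ = (x : G) * (y * (w : G)) := by rw [h1]
    _ = (x : G) * y * (w : G) := by rw [mul_assoc]

end Blocks

end Cfsg.Agent.Helper5
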