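import Mathlib
import Cfsg.Agent.Helper5.BlkHt
import Cfsg.Agent.Helper5.BlkKer
import Cfsg.Agent.Helper22.IrrKer

/-!
helper5: normal `p`-subgroups lie in every defect group (S0912).
-/

set_option autoImplicit false

namespace Cfsg.Agent.Helper5

open Cfsg Cfsg.Agent.Helper24 Cfsg.Agent.Helper22

universe u

section Blocks

variable {G : Type u} [Group G] [Fintype G]

theorem natCast_div_memLocalIdeal {p : ℕ} {M : Ideal AlgInt} (hM : IsPModular p M) {a b : ℕ}
    (ha : a ≠ 0) (hb : b ≠ 0) (h : a.factorization p < b.factorization p) :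
    MemLocalIdeal M ((b : ℂ) / (a : ℂ)) := by
  have hp := hM.1
  have : M.IsPrime := hM.2.1.isPrime
  obtain ⟨fa, hfa⟩ : ∃ f : ℕ, f = a / p ^ a.factorization p := ⟨_, rfl⟩
  have haf : p ^ a.factorization p * fa = a := by
    rw [hfa]
    exact Nat.ordProj_mul_ordCompl_eq_self a p
  have hfap : ¬ p ∣ fa := by
    rw [hfa]
    exact Nat.not_dvd_ordCompl hp ha
  obtain ⟨j, hj⟩ : p ^ (a.factorization p + 1) ∣ b :=
    (hp.pow_dvd_iff_le_factorization hb).mpr h
  have hfa0 : (fa : ℂ) ≠ 0 := by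
    intro h0
    apply hfap
    rw [Nat.cast_eq_zero.mp h0]
    exact dvd_zero p
  have hp0 : (p : ℂ) ≠ 0 := Nat.cast_ne_zero.mpr hp.ne_zero
  have h1 : (a : ℂ) = (p : ℂ) ^ (a.factorization p) * (fa : ℂ) := by exact_mod_cast haf.symm
  have h2 : (b : ℂ) = (p : ℂ) ^ (a.factorization p + 1) * (j : ℂ) := by exact_mod_cast hj
  have e : (b : ℂ) / (a : ℂ) = ((j : ℂ) * (fa : ℂ)⁻¹) * (p : ℂ) := by
    rw [h2]
    conv_lhs => rw [h1]
    rw [pow_succ]
    field_simp
  rw [e]
  exact memLocalIdeal_mul_left ((locRing M).mul_mem (natCast_memLocalRing j)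
    (natCast_inv_memLocalRing hM hfap)) (prime_memLocalIdeal hM)

/-- every block contains a character with a given normal `p`-subgroup in its kernel. -/
theorem exists_ker_in_block {p : ℕ} {M : Ideal AlgInt} (hM : IsPModular p M) [hMp : M.IsPrime]
    (χ₀ : IrrCharacter G) (P : Subgroup G) [hPn : P.Normal] (hP : IsPGroup p P) :
    ∃ χ ∈ blockOf M (χ₀ : G → ℂ), ∀ u ∈ P, (χ : G → ℂ) u = (χ : G → ℂ) 1 := by
  classical
  have hp := hM.1
  have : Fact p.Prime := ⟨hp⟩
  have : Fintype P := Fintype.ofFinite P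
  by_contra hcon
  push Not at hcon
  have hχ₀ : χ₀ ∈ blockOf M (χ₀ : G → ℂ) := sameBlock_refl _
  obtain ⟨S, hS⟩ : ∃ S : Finset (IrrCharacter G), S = Finset.univ.filter
      (fun χ : IrrCharacter G => SameBlock M (χ₀ : G → ℂ) (χ : G → ℂ)) := ⟨_, rfl⟩
  have hSmem : ∀ χ : IrrCharacter G, χ ∈ S ↔ SameBlock M (χ₀ : G → ℂ) (χ : G → ℂ) :=
    fun χ => by
      rw [hS, Finset.mem_filter]
      exact ⟨fun h => h.2, fun h => ⟨Finset.mem_univ _, h⟩⟩
  have hzero : ∀ χ ∈ S, ∑ u : P, (χ : G → ℂ) u = 0 := by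
    intro χ hχ
    have hχB : χ ∈ blockOf M (χ₀ : G → ℂ) := (hSmem χ).mp hχ
    by_contra hne
    obtain ⟨u, hu, hu1⟩ := hcon χ hχB
    apply hu1
    refine const_on_of_inner_one_ne_zero P χ ?_ u hu
    rw [classInner_def']
    have hP0 : (Nat.card P : ℂ)⁻¹ ≠ 0 := inv_ne_zero (Nat.cast_ne_zero.mpr Nat.card_pos.ne')
    refine mul_ne_zero hP0 ?_
    rw [Finset.sum_congr rfl fun n _ => by rw [map_one, mul_one]]
    exact hne
  have h1 : ¬ p ∣ orderOf (1 : G) := by
    rw [orderOf_one, Nat.dvd_one]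
    exact hp.one_lt.ne'
  have hsing : ∀ u : P, u ≠ 1 → p ∣ orderOf (u : G) := by
    intro u hu
    obtain ⟨k, hk⟩ := (IsPGroup.iff_orderOf.mp hP) u
    have hk' : orderOf (u : G) = p ^ k := by rw [Subgroup.orderOf_coe, hk]
    have hk0 : k ≠ 0 := by
      intro h0
      rw [h0, pow_zero, orderOf_eq_one_iff] at hk
      exact hu hk
    rw [hk']
    exact dvd_pow_self p hk0
  have e1 : ∑ u : P, ∑ χ ∈ S, (χ : G → ℂ) 1 * starRingEnd ℂ ((χ : G → ℂ) (u : G))
      = ∑ χ ∈ S, (χ : G → ℂ) 1 * starRingEnd ℂ ((χ : G → ℂ) 1) := by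
    rw [Finset.sum_eq_single (1 : P)]
    · simp
    · intro u _ hu
      rw [hS]
      exact weak_block_orth_sum hM χ₀ 1 (u : G) h1 (hsing u hu)
    · intro h
      exact absurd (Finset.mem_univ _) h
  have e2 : ∑ u : P, ∑ χ ∈ S, (χ : G → ℂ) 1 * starRingEnd ℂ ((χ : G → ℂ) (u : G)) = 0 := by
    rw [Finset.sum_comm]
    refine Finset.sum_eq_zero fun χ hχ => ?_
    rw [← Finset.mul_sum, ← map_sum, hzero χ hχ, map_zero, mul_zero]
  rw [e2] at e1
  have hpos : ∀ χ : IrrCharacter G, ∃ n : ℕ, 0 < n ∧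
      (χ : G → ℂ) 1 * starRingEnd ℂ ((χ : G → ℂ) 1) = ((n * n : ℕ) : ℂ) := by
    intro χ
    obtain ⟨n, hn0, hn⟩ := irr_one_eq_natCast_pos χ
    refine ⟨n, hn0, ?_⟩
    rw [hn, Complex.conj_natCast]
    push_cast
    ring
  choose n hn0 hn using hpos
  rw [Finset.sum_congr rfl fun χ _ => hn χ, ← Nat.cast_sum] at e1
  have e3 : ∑ χ ∈ S, n χ * n χ = 0 := by exact_mod_cast e1.symm
  have e4 := Finset.sum_eq_zero_iff.mp e3 χ₀ ((hSmem χ₀).mpr hχ₀)
  have := hn0 χ₀
  rcases Nat.mul_eq_zero.mp e4 with h | h <;> omega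

/-- the central character of a character with `P` in its kernel lies in the local ideal at
elements not centralizing the normal `p`-subgroup `P`. -/
theorem centralChar_memLocalIdeal_of_ker {p : ℕ} [Fact p.Prime] {M : Ideal AlgInt}
    (hM : IsPModular p M) [hMp : M.IsPrime] (P : Subgroup G) [hPn : P.Normal]
    (hP : IsPGroup p P) (χ : IrrCharacter G) (hχ : ∀ u ∈ P, (χ : G → ℂ) u = (χ : G → ℂ) 1)
    (g : G) (hg : ¬ P ≤ Subgroup.centralizer ({g} : Set G)) :
    MemLocalIdeal M (centralChar (χ : G → ℂ) g) := by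
  classical
  have hp := hM.1
  obtain ⟨ψ, hψ⟩ := exists_irr_of_ker (QuotientGroup.mk' P) (QuotientGroup.mk'_surjective P) χ
    (fun u hu => hχ u ((QuotientGroup.eq_one_iff u).mp hu))
  have : Fintype (G ⧸ P) := Fintype.ofFinite _
  obtain ⟨T, hT⟩ : ∃ T : Subgroup G, T = (Subgroup.centralizer
      ({QuotientGroup.mk' P g} : Set (G ⧸ P))).comap (QuotientGroup.mk' P) := ⟨_, rfl⟩
  have hTidx : T.index = (Subgroup.centralizer ({QuotientGroup.mk' P g} : Set (G ⧸ P))).index := by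
    rw [hT]
    exact Subgroup.index_comap_of_surjective _ (QuotientGroup.mk'_surjective P)
  have hTmem : ∀ x : G, x ∈ T ↔ QuotientGroup.mk' P x * QuotientGroup.mk' P g
      = QuotientGroup.mk' P g * QuotientGroup.mk' P x := by
    intro x
    rw [hT, Subgroup.mem_comap, Subgroup.mem_centralizer_singleton_iff]
  have hCT : Subgroup.centralizer ({g} : Set G) ≤ T := by
    intro x hx
    rw [hTmem, ← map_mul, ← map_mul, Subgroup.mem_centralizer_singleton_iff.mp hx]
  have hPT : P ≤ T := by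
    intro u hu
    have h1 : QuotientGroup.mk' P u = 1 := (QuotientGroup.eq_one_iff u).mpr hu
    rw [hTmem, h1, one_mul, mul_one]
  obtain ⟨Q⟩ := (inferInstance : Nonempty (Sylow p (Subgroup.centralizer ({g} : Set G))))
  obtain ⟨Q', hQ'⟩ : ∃ Q' : Subgroup G, Q' = (Q : Subgroup (Subgroup.centralizer
      ({g} : Set G))).map (Subgroup.centralizer ({g} : Set G)).subtype := ⟨_, rfl⟩
  have hQ'p : IsPGroup p Q' := by
    rw [hQ']
    exact Q.2.map _
  have hQ'C : Q' ≤ Subgroup.centralizer ({g} : Set G) := by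
    rw [hQ']
    exact Subgroup.map_subtype_le _
  have hQ'card : Nat.card Q'
      = p ^ (Nat.card (Subgroup.centralizer ({g} : Set G))).factorization p := by
    rw [hQ', Subgroup.card_map_of_injective (Subgroup.subtype_injective _)]
    exact Sylow.card_eq_multiplicity Q
  have hsup : IsPGroup p (Q' ⊔ P : Subgroup G) := IsPGroup.to_sup_of_normal_right hQ'p hP
  have hsupT : Q' ⊔ P ≤ T := sup_le (hQ'C.trans hCT) hPT
  obtain ⟨j, hj⟩ := IsPGroup.iff_card.mp hsup
  have hlt : Nat.card Q' < Nat.card (Q' ⊔ P : Subgroup G) := by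
    by_contra hnot
    push Not at hnot
    have heq := Subgroup.eq_of_le_of_card_ge (le_sup_left : Q' ≤ Q' ⊔ P) hnot
    apply hg
    have h2 : P ≤ Q' := by
      rw [heq]
      exact le_sup_right
    exact h2.trans hQ'C
  rw [hQ'card, hj] at hlt
  have hjlt : (Nat.card (Subgroup.centralizer ({g} : Set G))).factorization p < j :=
    (Nat.pow_lt_pow_iff_right hp.one_lt).mp hlt
  have hjT : j ≤ (Nat.card T).factorization p := by
    have hdvd := Subgroup.card_dvd_of_le hsupT
    rw [hj] at hdvd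
    exact (hp.pow_dvd_iff_le_factorization Nat.card_pos.ne').mp hdvd
  -- valuations
  have hf1 := fac_card_eq p g
  have hT0 : Nat.card T ≠ 0 := Nat.card_pos.ne'
  have hTi0 : T.index ≠ 0 := Subgroup.index_ne_zero_of_finite
  have hf2 : (Nat.card G).factorization p
      = (Nat.card T).factorization p + (T.index).factorization p := by
    rw [← Subgroup.card_mul_index T, Nat.factorization_mul hT0 hTi0, Finsupp.add_apply]
  have hval : ((Subgroup.centralizer ({QuotientGroup.mk' P g} : Set (G ⧸ P))).index).factorization p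
      < ((Subgroup.centralizer ({g} : Set G)).index).factorization p := by
    rw [← hTidx]
    omega
  have hψ1 : (ψ : G ⧸ P → ℂ) 1 ≠ 0 := Cfsg.Agent.Helper5.irr_one_ne_zero ψ
  have hi0 : ((Subgroup.centralizer ({QuotientGroup.mk' P g} : Set (G ⧸ P))).index : ℂ) ≠ 0 :=
    Nat.cast_ne_zero.mpr Subgroup.index_ne_zero_of_finite
  have e : centralChar (χ : G → ℂ) g
      = centralChar (ψ : G ⧸ P → ℂ) (QuotientGroup.mk' P g)
        * (((Subgroup.centralizer ({g} : Set G)).index : ℂ)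
          / ((Subgroup.centralizer ({QuotientGroup.mk' P g} : Set (G ⧸ P))).index : ℂ)) := by
    unfold centralChar
    rw [hψ g, hψ 1, map_one]
    field_simp
  rw [e]
  exact memLocalIdeal_mul_left (centralChar_memLocalRing ψ _)
    (natCast_div_memLocalIdeal hM Subgroup.index_ne_zero_of_finite
      Subgroup.index_ne_zero_of_finite hval)

/-- S0912: a normal `p`-subgroup lies in every defect group. -/
theorem normal_pGroup_le_defect {p : ℕ} [Fact p.Prime] {M : Ideal AlgInt} (hM : IsPModular p M)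
    [hMp : M.IsPrime] (χ₀ : IrrCharacter G) (P : Subgroup G) [hPn : P.Normal]
    (hP : IsPGroup p P) (D : Subgroup G)
    (hD : IsDefectGroup p M (blockOf M (χ₀ : G → ℂ)) D) : P ≤ D := by
  obtain ⟨g, hg, Q, rfl⟩ := hD
  obtain ⟨χ, hχB, hχ⟩ := exists_ker_in_block hM χ₀ P hP
  have hPC : P ≤ Subgroup.centralizer ({g} : Set G) := by
    by_contra hnot
    exact hg.2.2 χ hχB (centralChar_memLocalIdeal_of_ker hM P hP χ hχ g hnot)
  have hn : (P.subgroupOf (Subgroup.centralizer ({g} : Set G))).Normal :=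
    Subgroup.normal_subgroupOf
  have h1 := normal_pGroup_le_sylow (P.subgroupOf (Subgroup.centralizer ({g} : Set G)))
    (hP.comap_subtype) Q
  intro a ha
  exact ⟨⟨a, hPC ha⟩, h1 (by rw [Subgroup.mem_subgroupOf]; exact ha), rfl⟩

end Blocks

end Cfsg.Agent.Helper5
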