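import Mathlib
import Cfsg.Agent.Helper5.BlkOp

/-!
helper5: blocks of `G` and of `G ⧸ P` for a normal `p`-subgroup `P` whose centralizer has
`p`-power index (S0941).
-/

set_option autoImplicit false

namespace Cfsg.Agent.Helper5

open Cfsg Cfsg.Agent.Helper24 Cfsg.Agent.Helper22

universe u

section Grp

variable {G : Type u} [Group G]

theorem centralizer_normal_h5 (P : Subgroup G) [hP : P.Normal] :
    (Subgroup.centralizer (P : Set G)).Normal := by
  constructor
  intro c hc x
  rw [Subgroup.mem_centralizer_iff] at hc ⊢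
  intro u hu
  have h0 : x⁻¹ * u * x ∈ P := by
    have := hP.conj_mem u hu x⁻¹
    simpa using this
  have h1 := hc (x⁻¹ * u * x) h0
  calc u * (x * c * x⁻¹) = x * ((x⁻¹ * u * x) * c) * x⁻¹ := by group
    _ = x * (c * (x⁻¹ * u * x)) * x⁻¹ := by rw [h1]
    _ = x * c * x⁻¹ * u := by group

/-- `p`-regular elements of a quotient lift to `p`-regular elements. -/
theorem exists_regular_lift [Finite G] {p : ℕ} (hp : p.Prime) (P : Subgroup G) [P.Normal]
    (q : G ⧸ P) (hq : ¬ p ∣ orderOf q) :
    ∃ g : G, (QuotientGroup.mk g : G ⧸ P) = q ∧ ¬ p ∣ orderOf g := by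
  obtain ⟨g₀, rfl⟩ := QuotientGroup.mk_surjective q
  obtain ⟨m, hm⟩ : ∃ m : ℕ, m = Nat.card G / p ^ (Nat.card G).factorization p := ⟨_, rfl⟩
  have hGm : p ^ (Nat.card G).factorization p * m = Nat.card G := by
    rw [hm]
    exact Nat.ordProj_mul_ordCompl_eq_self _ p
  have hmp : ¬ p ∣ m := by
    rw [hm]
    exact Nat.not_dvd_ordCompl hp Nat.card_pos.ne'
  have hco : (p ^ (Nat.card G).factorization p).Coprime
      (orderOf (QuotientGroup.mk g₀ : G ⧸ P)) :=
    Nat.Coprime.pow_left _ ((Nat.Prime.coprime_iff_not_dvd hp).mpr hq)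
  obtain ⟨s, hs⟩ := exists_pow_eq_self_of_coprime hco
  refine ⟨(g₀ ^ (p ^ (Nat.card G).factorization p)) ^ s, ?_, ?_⟩
  · rw [QuotientGroup.mk_pow, QuotientGroup.mk_pow]
    exact hs
  · intro hdvd
    apply hmp
    have h1 : ((g₀ ^ (p ^ (Nat.card G).factorization p)) ^ s) ^ m = 1 := by
      have e : p ^ (Nat.card G).factorization p * (s * m) = Nat.card G * s := by
        calc p ^ (Nat.card G).factorization p * (s * m)
            = (p ^ (Nat.card G).factorization p * m) * s := by ring
          _ = Nat.card G * s := by rw [hGm]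
      rw [← pow_mul, ← pow_mul, e, pow_mul, pow_card_eq_one', one_pow]
    exact hdvd.trans (orderOf_dvd_of_pow_eq_one h1)

end Grp

section Blocks

variable {G : Type u} [Group G] [Fintype G]

omit [Fintype G] in
/-- for a `p`-regular element centralizing the normal `p`-subgroup `P`, inflation preserves the
central character. -/
theorem centralChar_infl_regular {p : ℕ} [Fact p.Prime] (P : Subgroup G) [P.Normal]
    (hP : IsPGroup p P) (ψ : IrrCharacter (G ⧸ P)) (g : G) (hreg : ¬ p ∣ orderOf g)
    (hgP : ∀ u ∈ P, u * g = g * u) :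
    centralChar ((ψ : G ⧸ P → ℂ) ∘ QuotientGroup.mk) g
      = centralChar (ψ : G ⧸ P → ℂ) (QuotientGroup.mk g) := by
  have hp : p.Prime := Fact.out
  obtain ⟨T, hT⟩ : ∃ T : Subgroup G, T = (Subgroup.centralizer
      ({(QuotientGroup.mk g : G ⧸ P)} : Set (G ⧸ P))).comap (QuotientGroup.mk' P) := ⟨_, rfl⟩
  have hTidx : T.index
      = (Subgroup.centralizer ({(QuotientGroup.mk g : G ⧸ P)} : Set (G ⧸ P))).index := by
    rw [hT]
    exact Subgroup.index_comap_of_surjective _ (QuotientGroup.mk'_surjective P)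
  have hCT : Subgroup.centralizer ({g} : Set G) ≤ T := by
    intro x hx
    rw [hT, Subgroup.mem_comap, Subgroup.mem_centralizer_singleton_iff]
    show (QuotientGroup.mk x : G ⧸ P) * QuotientGroup.mk g = QuotientGroup.mk g * QuotientGroup.mk x
    rw [← QuotientGroup.mk_mul, ← QuotientGroup.mk_mul,
      Subgroup.mem_centralizer_singleton_iff.mp hx]
  have hTC : T ≤ Subgroup.centralizer ({g} : Set G) := by
    intro x hx
    rw [hT, Subgroup.mem_comap, Subgroup.mem_centralizer_singleton_iff] at hx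
    have hx' : (QuotientGroup.mk (x * g) : G ⧸ P) = QuotientGroup.mk (g * x) := by
      rw [QuotientGroup.mk_mul, QuotientGroup.mk_mul]
      exact hx
    have hu : (x * g)⁻¹ * (g * x) ∈ P := QuotientGroup.eq.mp hx'
    obtain ⟨v, hv⟩ : ∃ v : G, v = (x * g)⁻¹ * (g * x) := ⟨_, rfl⟩
    rw [← hv] at hu
    have hconj : x⁻¹ * g * x⁻¹⁻¹ = g * v := by
      rw [hv]
      group
    have hvg : Commute g v := (hgP v hu).symm
    have hpow : v ^ orderOf g = 1 := by
      have h1 : (g * v) ^ orderOf g = 1 := by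
        rw [← hconj, conj_pow, pow_orderOf_eq_one]
        group
      rw [hvg.mul_pow, pow_orderOf_eq_one, one_mul] at h1
      exact h1
    obtain ⟨k, hk⟩ := (IsPGroup.iff_orderOf.mp hP) ⟨v, hu⟩
    have hk' : orderOf v = p ^ k := by
      rw [← hk]
      exact (Subgroup.orderOf_coe (⟨v, hu⟩ : P))
    have hdvd : orderOf v ∣ orderOf g := orderOf_dvd_of_pow_eq_one hpow
    have hv1 : v = 1 := by
      rw [← orderOf_eq_one_iff, hk']
      rcases Nat.eq_zero_or_pos k with h0 | hpos
      · rw [h0, pow_zero]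
      · exfalso
        apply hreg
        rw [hk'] at hdvd
        exact (dvd_pow_self p hpos.ne').trans hdvd
    rw [Subgroup.mem_centralizer_singleton_iff]
    have h2 : (x * g)⁻¹ * (g * x) = 1 := by rw [← hv, hv1]
    exact inv_mul_eq_one.mp h2
  have hTeq : T = Subgroup.centralizer ({g} : Set G) := le_antisymm hTC hCT
  unfold centralChar
  rw [← hTidx, hTeq, Function.comp_apply, Function.comp_apply, QuotientGroup.mk_one]

/-- characters whose central characters agree modulo the local ideal on `p`-regular elements lie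
in the same block. -/
theorem sameBlock_of_congr_regular {p : ℕ} {M : Ideal AlgInt} (hM : IsPModular p M)
    [hMp : M.IsPrime] (χ ψ : IrrCharacter G)
    (h : ∀ g : G, ¬ p ∣ orderOf g →
      MemLocalIdeal M (centralChar (χ : G → ℂ) g - centralChar (ψ : G → ℂ) g)) :
    SameBlock M (χ : G → ℂ) (ψ : G → ℂ) := by
  classical
  obtain ⟨c, hc, hcv⟩ := osima (M := M) χ
  obtain ⟨ι, hι⟩ := exists_class_reps G
  by_contra hnot
  have h1 : c χ = 1 := (hcv χ).1 (sameBlock_refl _)
  have h0 : c ψ = 0 := (hcv ψ).2 hnot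
  have hdiff : MemLocalIdeal M (c χ - c ψ) := by
    rw [spec_value c ι hι χ, spec_value c ι hι ψ, ← Finset.sum_sub_distrib]
    refine memLocalIdeal_sum _ _ fun r _ => ?_
    rw [← mul_sub]
    by_cases hr : p ∣ orderOf r
    · have hβ : MemLocalIdeal M (specFun c r) := by
        by_contra hn
        have e := blockCoeff_eq_specFun (blockOf M (χ : G → ℂ)) c (fun ψ hψ => (hcv ψ).1 hψ)
          (fun ψ hψ => (hcv ψ).2 hψ) r
        rw [← e] at hn
        exact pRegular_of_blockCoeff hM χ r hn hr
      rw [mul_comm]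
      exact memLocalIdeal_mul_left ((locRing M).sub_mem (centralChar_memLocalRing χ r)
        (centralChar_memLocalRing ψ r)) hβ
    · exact memLocalIdeal_mul_left (hc r) (h r hr)
  rw [h1, h0, sub_zero] at hdiff
  exact not_memLocalIdeal_one hdiff

/-- S0941. -/
theorem quot_blocks {p : ℕ} [Fact p.Prime] {M : Ideal AlgInt} (hM : IsPModular p M)
    [hMp : M.IsPrime] (P : Subgroup G) [hPn : P.Normal] (hP : IsPGroup p P)
    (hC : ∃ k : ℕ, (Subgroup.centralizer (P : Set G)).index = p ^ k) :
    (∀ χ ψ : IrrCharacter (G ⧸ P), SameBlock M (χ : G ⧸ P → ℂ) (ψ : G ⧸ P → ℂ) ↔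
      SameBlock M ((χ : G ⧸ P → ℂ) ∘ QuotientGroup.mk) ((ψ : G ⧸ P → ℂ) ∘ QuotientGroup.mk)) ∧
    ∀ χ₀ : IrrCharacter G, ∃ χ : IrrCharacter (G ⧸ P), ∃ θ ∈ blockOf M (χ₀ : G → ℂ),
      (θ : G → ℂ) = (χ : G ⧸ P → ℂ) ∘ QuotientGroup.mk := by
  classical
  have hp := hM.1
  have : Fintype (G ⧸ P) := Fintype.ofFinite _
  have hCn : (Subgroup.centralizer (P : Set G)).Normal := centralizer_normal_h5 P
  constructor
  · intro χ ψ
    constructor
    · intro h g
      obtain ⟨T, hT⟩ : ∃ T : Subgroup G, T = (Subgroup.centralizer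
          ({(QuotientGroup.mk g : G ⧸ P)} : Set (G ⧸ P))).comap (QuotientGroup.mk' P) := ⟨_, rfl⟩
      have hTidx : T.index
          = (Subgroup.centralizer ({(QuotientGroup.mk g : G ⧸ P)} : Set (G ⧸ P))).index := by
        rw [hT]
        exact Subgroup.index_comap_of_surjective _ (QuotientGroup.mk'_surjective P)
      have hCT : Subgroup.centralizer ({g} : Set G) ≤ T := by
        intro x hx
        rw [hT, Subgroup.mem_comap, Subgroup.mem_centralizer_singleton_iff]
        show (QuotientGroup.mk x : G ⧸ P) * QuotientGroup.mk g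
          = QuotientGroup.mk g * QuotientGroup.mk x
        rw [← QuotientGroup.mk_mul, ← QuotientGroup.mk_mul,
          Subgroup.mem_centralizer_singleton_iff.mp hx]
      have hrel := Subgroup.relIndex_mul_index hCT
      have e : centralChar ((χ : G ⧸ P → ℂ) ∘ QuotientGroup.mk) g
          - centralChar ((ψ : G ⧸ P → ℂ) ∘ QuotientGroup.mk) g
          = (((Subgroup.centralizer ({g} : Set G)).relIndex T : ℕ) : ℂ)
            * (centralChar (χ : G ⧸ P → ℂ) (QuotientGroup.mk g)
              - centralChar (ψ : G ⧸ P → ℂ) (QuotientGroup.mk g)) := by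
        unfold centralChar
        rw [← hrel, hTidx]
        simp only [Function.comp_apply, QuotientGroup.mk_one]
        push_cast
        ring
      rw [e]
      exact memLocalIdeal_mul_left (natCast_memLocalRing _) (h _)
    · intro h
      refine sameBlock_of_congr_regular hM χ ψ fun q hq => ?_
      obtain ⟨g, rfl, hg⟩ := exists_regular_lift hp P q hq
      have hgC : g ∈ Subgroup.centralizer (P : Set G) := by
        by_contra hnot
        exact hg (singular_of_notMem hp _ hC g hnot)
      have hgP : ∀ u ∈ P, u * g = g * u := fun u hu => Subgroup.mem_centralizer_iff.mp hgC u hu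
      rw [← centralChar_infl_regular P hP χ g hg hgP, ← centralChar_infl_regular P hP ψ g hg hgP]
      exact h g
  · intro χ₀
    obtain ⟨θ, hθB, hθ⟩ := exists_ker_in_block hM χ₀ P hP
    obtain ⟨χ, hχ⟩ := exists_irr_of_ker (QuotientGroup.mk' P) (QuotientGroup.mk'_surjective P) θ
      (fun u hu => hθ u ((QuotientGroup.eq_one_iff u).mp hu))
    refine ⟨χ, θ, hθB, ?_⟩
    funext g
    exact hχ g

end Blocks

end Cfsg.Agent.Helper5
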