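import Mathlib
import Cfsg.Agent.Helper5.BlkQuot

/-!
helper5: the Brauer homomorphism in terms of spectral vectors; induced blocks from subgroups
`P C_G(P) ≤ H ≤ N_G(P)` are defined (S0919), and the Brauer form of induction (S0918).
-/

set_option autoImplicit false

namespace Cfsg.Agent.Helper5

open Cfsg Cfsg.Agent.Helper24 Cfsg.Agent.Helper22

universe u

section Grp

variable {G : Type u} [Group G]

theorem conj_mem_centralizer_of_normalizer (P : Subgroup G) {t h : G}
    (ht : t ∈ Subgroup.normalizer (P : Set G)) (hh : h ∈ Subgroup.centralizer (P : Set G)) :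
    t * h * t⁻¹ ∈ Subgroup.centralizer (P : Set G) := by
  rw [Subgroup.mem_centralizer_iff] at hh ⊢
  intro u hu
  have h1 : t⁻¹ * u * t ∈ P := by
    rw [Subgroup.mem_normalizer_iff] at ht
    rw [ht (t⁻¹ * u * t)]
    have e : t * (t⁻¹ * u * t) * t⁻¹ = u := by group
    rw [e]
    exact hu
  have h2 := hh _ h1
  calc u * (t * h * t⁻¹) = t * ((t⁻¹ * u * t) * h) * t⁻¹ := by group
    _ = t * (h * (t⁻¹ * u * t)) * t⁻¹ := by rw [h2]
    _ = t * h * t⁻¹ * u := by group

theorem conj_mem_centralizer_iff_of_normalizer (P : Subgroup G) {t h : G}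
    (ht : t ∈ Subgroup.normalizer (P : Set G)) :
    t * h * t⁻¹ ∈ Subgroup.centralizer (P : Set G) ↔ h ∈ Subgroup.centralizer (P : Set G) := by
  constructor
  · intro hc
    have := conj_mem_centralizer_of_normalizer P (inv_mem ht) hc
    have e : t⁻¹ * (t * h * t⁻¹) * t⁻¹⁻¹ = h := by group
    rwa [e] at this
  · exact conj_mem_centralizer_of_normalizer P ht

end Grp

section Conv

variable {G : Type u} [Group G] [Fintype G]

/-- the central character is multiplicative on convolutions of class functions. -/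
theorem conv_char_sum (F F' : G → ℂ) (hF' : IsClassFunction G F') (ξ : IrrCharacter G) :
    ∑ h : G, (∑ x : G, F x * F' (x⁻¹ * h)) * (ξ : G → ℂ) h
      = (∑ x : G, F x * (ξ : G → ℂ) x)
        * (((ξ : G → ℂ) 1)⁻¹ * ∑ y : G, F' y * (ξ : G → ℂ) y) := by
  classical
  have hG0 : (Nat.card G : ℂ) ≠ 0 := Nat.cast_ne_zero.mpr Nat.card_pos.ne'
  have h10 := Cfsg.Agent.Helper5.irr_one_ne_zero ξ
  have step1 : ∀ x : G, ∑ y : G, F' y * (ξ : G → ℂ) (x * y)
      = (ξ : G → ℂ) x * (((ξ : G → ℂ) 1)⁻¹ * ∑ y : G, F' y * (ξ : G → ℂ) y) := by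
    intro x
    have e1 : ∀ t : G, ∑ y : G, F' y * (ξ : G → ℂ) (x * y)
        = ∑ y : G, F' y * (ξ : G → ℂ) (x * t * y * t⁻¹) := by
      intro t
      rw [← Equiv.sum_comp (MulAut.conj t).toEquiv (fun y => F' y * (ξ : G → ℂ) (x * y))]
      refine Finset.sum_congr rfl fun y _ => ?_
      show F' (t * y * t⁻¹) * (ξ : G → ℂ) (x * (t * y * t⁻¹)) = _
      rw [hF' y t]
      congr 2
      group
    have e2 : (Nat.card G : ℂ) * ∑ y : G, F' y * (ξ : G → ℂ) (x * y)
        = ∑ t : G, ∑ y : G, F' y * (ξ : G → ℂ) (x * t * y * t⁻¹) := by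
      rw [← Finset.sum_congr rfl fun t _ => e1 t, Finset.sum_const, Finset.card_univ,
        nsmul_eq_mul, Nat.card_eq_fintype_card]
    have e3 : ∑ t : G, ∑ y : G, F' y * (ξ : G → ℂ) (x * t * y * t⁻¹)
        = ∑ y : G, F' y * ((Nat.card G : ℂ) * (ξ : G → ℂ) x * (ξ : G → ℂ) y / (ξ : G → ℂ) 1) := by
      rw [Finset.sum_comm]
      refine Finset.sum_congr rfl fun y _ => ?_
      rw [← Finset.mul_sum, sum_conj_mul ξ x y]
    have e4 : (Nat.card G : ℂ) * ∑ y : G, F' y * (ξ : G → ℂ) (x * y)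
        = (Nat.card G : ℂ) * ((ξ : G → ℂ) x
          * (((ξ : G → ℂ) 1)⁻¹ * ∑ y : G, F' y * (ξ : G → ℂ) y)) := by
      rw [e2, e3, Finset.mul_sum, Finset.mul_sum, Finset.mul_sum]
      refine Finset.sum_congr rfl fun y _ => ?_
      field_simp
    exact mul_left_cancel₀ hG0 e4
  have step2 : ∀ x : G, ∑ h : G, F x * F' (x⁻¹ * h) * (ξ : G → ℂ) h
      = F x * ∑ y : G, F' y * (ξ : G → ℂ) (x * y) := by
    intro x
    rw [← Equiv.sum_comp (Equiv.mulLeft x) (fun h => F x * F' (x⁻¹ * h) * (ξ : G → ℂ) h),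
      Finset.mul_sum]
    refine Finset.sum_congr rfl fun y _ => ?_
    show F x * F' (x⁻¹ * (x * y)) * (ξ : G → ℂ) (x * y) = _
    rw [inv_mul_cancel_left, mul_assoc]
  rw [Finset.sum_congr rfl fun h _ => Finset.sum_mul _ _ _, Finset.sum_comm,
    Finset.sum_congr rfl fun x _ => step2 x, Finset.sum_congr rfl fun x _ => by rw [step1 x],
    Finset.sum_mul]
  exact Finset.sum_congr rfl fun x _ => by ring

theorem conv_isClassFunction (F F' : G → ℂ) (hF : IsClassFunction G F)
    (hF' : IsClassFunction G F') :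
    IsClassFunction G (fun h => ∑ x : G, F x * F' (x⁻¹ * h)) := by
  intro h t
  show ∑ x : G, F x * F' (x⁻¹ * (t * h * t⁻¹)) = ∑ x : G, F x * F' (x⁻¹ * h)
  rw [← Equiv.sum_comp (MulAut.conj t).toEquiv (fun x => F x * F' (x⁻¹ * (t * h * t⁻¹)))]
  refine Finset.sum_congr rfl fun x _ => ?_
  show F (t * x * t⁻¹) * F' ((t * x * t⁻¹)⁻¹ * (t * h * t⁻¹)) = _
  have e : (t * x * t⁻¹)⁻¹ * (t * h * t⁻¹) = t * (x⁻¹ * h) * t⁻¹ := by group
  rw [hF x t, e, hF' _ t]

/-- class functions with local-integer values have local-integer central character values. -/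
theorem classFun_char_mem {M : Ideal AlgInt} [hMp : M.IsPrime] (Φ : G → ℂ)
    (hΦ : IsClassFunction G Φ) (hS : ∀ h, MemLocalRing M (Φ h)) (ξ : IrrCharacter G) :
    MemLocalRing M (((ξ : G → ℂ) 1)⁻¹ * ∑ h : G, Φ h * (ξ : G → ℂ) h) := by
  obtain ⟨ι, hι⟩ := exists_class_reps G
  rw [classFun_value hΦ ι hι ξ]
  exact (locRing M).sum_mem fun r _ => (locRing M).mul_mem (hS r) (centralChar_memLocalRing ξ r)

theorem classFun_char_memIdeal {M : Ideal AlgInt} [hMp : M.IsPrime] (Φ : G → ℂ)
    (hΦ : IsClassFunction G Φ) (hS : ∀ h, MemLocalIdeal M (Φ h)) (ξ : IrrCharacter G) :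
    MemLocalIdeal M (((ξ : G → ℂ) 1)⁻¹ * ∑ h : G, Φ h * (ξ : G → ℂ) h) := by
  obtain ⟨ι, hι⟩ := exists_class_reps G
  rw [classFun_value hΦ ι hι ξ]
  refine memLocalIdeal_sum _ _ fun r _ => ?_
  rw [mul_comm]
  exact memLocalIdeal_mul_left (centralChar_memLocalRing ξ r) (hS r)

/-- an "ideal" of spectral vectors containing a vector that is a unit on a block contains the
block indicator. -/
theorem osima_ideal {M : Ideal AlgInt} [hMp : M.IsPrime]
    (J : (IrrCharacter G → ℂ) → Prop) (hJ0 : J 0)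
    (hJadd : ∀ a b, J a → J b → J (a + b))
    (hJmul : ∀ a b, J a → b ∈ specRing M G → J (a * b))
    (χ₀ : IrrCharacter G) (c' : IrrCharacter G → ℂ) (hc' : J c') (hc'S : c' ∈ specRing M G)
    (hunit : ∀ χ : IrrCharacter G, SameBlock M (χ₀ : G → ℂ) (χ : G → ℂ) →
      ¬ MemLocalIdeal M (c' χ))
    (c : IrrCharacter G → ℂ) (hc : c ∈ specRing M G)
    (hcv : ∀ ψ : IrrCharacter G, (SameBlock M (χ₀ : G → ℂ) (ψ : G → ℂ) → c ψ = 1) ∧
      (¬ SameBlock M (χ₀ : G → ℂ) (ψ : G → ℂ) → c ψ = 0)) :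
    J c := by
  classical
  have h2 : J (c' * c) := hJmul _ _ hc' hc
  have h2S : c' * c ∈ specRing M G := (specRing M G).mul_mem hc'S hc
  have hinv : ∀ χ : IrrCharacter G, SameBlock M (χ₀ : G → ℂ) (χ : G → ℂ) →
      (fun _ : IrrCharacter G => (c' χ)⁻¹) ∈ specRing M G := fun χ hχ =>
    const_mem_specRing (inv_mem_locRing (spec_apply_mem hc'S χ) (hunit χ hχ))
  obtain ⟨w, hw⟩ : ∃ w : IrrCharacter G → IrrCharacter G → ℂ,
      w = fun χ => 1 - (c' * c) * fun _ => (c' χ)⁻¹ := ⟨_, rfl⟩
  have hwv : ∀ χ ψ : IrrCharacter G, w χ ψ = 1 - c' ψ * c ψ * (c' χ)⁻¹ := by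
    intro χ ψ
    rw [hw]
    rfl
  have hwe : ∀ χ : IrrCharacter G, w χ = 1 - (c' * c) * fun _ => (c' χ)⁻¹ := by
    intro χ
    rw [hw]
  have key : ∀ s : Finset (IrrCharacter G),
      (∀ χ ∈ s, SameBlock M (χ₀ : G → ℂ) (χ : G → ℂ)) →
      J (1 - ∏ χ ∈ s, w χ) := by
    intro s
    induction s using Finset.induction_on with
    | empty =>
      intro _
      rw [Finset.prod_empty, sub_self]
      exact hJ0
    | insert a s ha ih =>
      intro hs
      rw [Finset.prod_insert ha]
      have hprod : ∏ χ ∈ s, w χ ∈ specRing M G :=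
        Subring.prod_mem _ fun χ hχ => by
          rw [hwe χ]
          exact (specRing M G).sub_mem (specRing M G).one_mem
            ((specRing M G).mul_mem h2S (hinv χ (hs χ (Finset.mem_insert_of_mem hχ))))
      have e : 1 - w a * ∏ χ ∈ s, w χ
          = (1 - ∏ χ ∈ s, w χ)
            + (c' * c) * ((fun _ => (c' a)⁻¹) * ∏ χ ∈ s, w χ) := by
        rw [hwe a]
        ring
      rw [e]
      exact hJadd _ _ (ih fun χ hχ => hs χ (Finset.mem_insert_of_mem hχ))
        (hJmul _ _ h2 ((specRing M G).mul_mem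
          (hinv a (hs a (Finset.mem_insert_self a s))) hprod))
  have hfin := key (Finset.univ.filter
    (fun χ : IrrCharacter G => SameBlock M (χ₀ : G → ℂ) (χ : G → ℂ)))
    (fun χ hχ => (Finset.mem_filter.mp hχ).2)
  have heq : 1 - ∏ χ ∈ Finset.univ.filter
      (fun χ : IrrCharacter G => SameBlock M (χ₀ : G → ℂ) (χ : G → ℂ)), w χ = c := by
    funext ψ
    rw [Pi.sub_apply, Pi.one_apply, Finset.prod_apply]
    by_cases hψ : SameBlock M (χ₀ : G → ℂ) (ψ : G → ℂ)
    · have h0 : w ψ ψ = 0 := by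
        rw [hwv]
        have hne : c' ψ ≠ 0 := fun h0 => hunit ψ hψ (h0 ▸ memLocalIdeal_zero hMp.ne_top)
        rw [(hcv ψ).1 hψ, mul_one, mul_inv_cancel₀ hne, sub_self]
      rw [(hcv ψ).1 hψ, Finset.prod_eq_zero
        (f := fun χ : IrrCharacter G => w χ ψ)
        (Finset.mem_filter.mpr ⟨Finset.mem_univ _, hψ⟩) h0, sub_zero]
    · have h1 : ∀ χ ∈ Finset.univ.filter
          (fun χ : IrrCharacter G => SameBlock M (χ₀ : G → ℂ) (χ : G → ℂ)),
          w χ ψ = 1 := by
        intro χ _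
        rw [hwv, (hcv ψ).2 hψ, mul_zero, zero_mul, sub_zero]
      rw [(hcv ψ).2 hψ, Finset.prod_eq_one h1, sub_self]
  rw [← heq]
  exact hfin

/-- an "ideal" of spectral vectors containing all block indicators contains `1`. -/
theorem one_mem_of_blocks {M : Ideal AlgInt} [hMp : M.IsPrime]
    (J : (IrrCharacter G → ℂ) → Prop) (hJ0 : J 0)
    (hJadd : ∀ a b, J a → J b → J (a + b))
    (hJmul : ∀ a b, J a → b ∈ specRing M G → J (a * b))
    (hall : ∀ χ₀ : IrrCharacter G, ∀ c ∈ specRing M G,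
      (∀ ψ : IrrCharacter G, (SameBlock M (χ₀ : G → ℂ) (ψ : G → ℂ) → c ψ = 1) ∧
        (¬ SameBlock M (χ₀ : G → ℂ) (ψ : G → ℂ) → c ψ = 0)) → J c) :
    J 1 := by
  classical
  choose cf hcf hcfv using fun χ₀ : IrrCharacter G => osima (M := M) χ₀
  have key : ∀ s : Finset (IrrCharacter G), J (1 - ∏ χ ∈ s, (1 - cf χ)) := by
    intro s
    induction s using Finset.induction_on with
    | empty =>
      rw [Finset.prod_empty, sub_self]
      exact hJ0
    | insert a s ha ih =>
      rw [Finset.prod_insert ha]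
      have hprod : ∏ χ ∈ s, (1 - cf χ) ∈ specRing M G :=
        Subring.prod_mem _ fun χ _ => (specRing M G).sub_mem (specRing M G).one_mem (hcf χ)
      have e : 1 - (1 - cf a) * ∏ χ ∈ s, (1 - cf χ)
          = (1 - ∏ χ ∈ s, (1 - cf χ)) + cf a * ∏ χ ∈ s, (1 - cf χ) := by
        ring
      rw [e]
      exact hJadd _ _ ih (hJmul _ _ (hall a (cf a) (hcf a) (hcfv a)) hprod)
  have h := key Finset.univ
  have hz : ∏ χ : IrrCharacter G, (1 - cf χ) = 0 := by
    funext ψ
    rw [Finset.prod_apply]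
    refine Finset.prod_eq_zero (f := fun χ : IrrCharacter G => (1 - cf χ) ψ)
      (Finset.mem_univ ψ) ?_
    show 1 - cf ψ ψ = 0
    rw [(hcfv ψ ψ).1 (sameBlock_refl _), sub_self]
  rw [hz, sub_zero] at h
  exact h

end Conv

section Brauer

variable {G : Type u} [Group G] [Fintype G]

/-- the restriction to `C_G(P)` of the class function of a spectral vector, as a function on
`H`. -/
noncomputable def brF (P H : Subgroup G) (c : IrrCharacter G → ℂ) : H → ℂ :=
  Set.indicator {h : H | (h : G) ∈ Subgroup.centralizer (P : Set G)} (fun h : H => specFun c (h : G))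

/-- the Brauer homomorphism composed with the central character of `ξ`. -/
noncomputable def brLam (P H : Subgroup G) [Fintype H] (ξ : H → ℂ) (c : IrrCharacter G → ℂ) : ℂ :=
  (ξ 1)⁻¹ * ∑ h : H, brF P H c h * ξ h

theorem brF_mem (P H : Subgroup G) (c : IrrCharacter G → ℂ) (h : H)
    (hh : (h : G) ∈ Subgroup.centralizer (P : Set G)) : brF P H c h = specFun c (h : G) :=
  Set.indicator_of_mem (show h ∈ {h : H | (h : G) ∈ Subgroup.centralizer (P : Set G)} from hh) _

theorem brF_notMem (P H : Subgroup G) (c : IrrCharacter G → ℂ) (h : H)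
    (hh : (h : G) ∉ Subgroup.centralizer (P : Set G)) : brF P H c h = 0 :=
  Set.indicator_of_notMem (show h ∉ {h : H | (h : G) ∈ Subgroup.centralizer (P : Set G)} from hh) _

theorem brF_isClassFunction (P H : Subgroup G) (hHN : H ≤ Subgroup.normalizer (P : Set G))
    (c : IrrCharacter G → ℂ) : IsClassFunction H (brF P H c) := by
  intro h t
  have hiff : ((t * h * t⁻¹ : H) : G) ∈ Subgroup.centralizer (P : Set G)
      ↔ (h : G) ∈ Subgroup.centralizer (P : Set G) :=
    conj_mem_centralizer_iff_of_normalizer P (hHN t.2)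
  by_cases hc : (h : G) ∈ Subgroup.centralizer (P : Set G)
  · rw [brF_mem P H c _ (hiff.mpr hc), brF_mem P H c _ hc]
    exact specFun_isClassFunction c (h : G) (t : G)
  · rw [brF_notMem P H c _ (fun h' => hc (hiff.mp h')), brF_notMem P H c _ hc]

theorem brF_memLocalRing {M : Ideal AlgInt} [hMp : M.IsPrime] (P H : Subgroup G)
    {c : IrrCharacter G → ℂ} (hc : c ∈ specRing M G) (h : H) : MemLocalRing M (brF P H c h) := by
  by_cases hh : (h : G) ∈ Subgroup.centralizer (P : Set G)
  · rw [brF_mem P H c _ hh]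
    exact hc _
  · rw [brF_notMem P H c _ hh]
    exact (locRing M).zero_mem

theorem brLam_mem {M : Ideal AlgInt} [hMp : M.IsPrime] (P H : Subgroup G) [Fintype H]
    (hHN : H ≤ Subgroup.normalizer (P : Set G)) (ξ : IrrCharacter H)
    {c : IrrCharacter G → ℂ} (hc : c ∈ specRing M G) :
    MemLocalRing M (brLam P H (ξ : H → ℂ) c) :=
  classFun_char_mem (brF P H c) (brF_isClassFunction P H hHN c) (brF_memLocalRing P H hc) ξ

theorem brLam_add (P H : Subgroup G) [Fintype H] (ξ : H → ℂ) (c c' : IrrCharacter G → ℂ) :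
    brLam P H ξ (c + c') = brLam P H ξ c + brLam P H ξ c' := by
  unfold brLam
  rw [← mul_add, ← Finset.sum_add_distrib]
  congr 1
  refine Finset.sum_congr rfl fun h _ => ?_
  rw [← add_mul]
  congr 1
  by_cases hh : (h : G) ∈ Subgroup.centralizer (P : Set G)
  · rw [brF_mem P H _ _ hh, brF_mem P H _ _ hh, brF_mem P H _ _ hh, specFun_add]
  · rw [brF_notMem P H _ _ hh, brF_notMem P H _ _ hh, brF_notMem P H _ _ hh, add_zero]

theorem brLam_neg (P H : Subgroup G) [Fintype H] (ξ : H → ℂ) (c : IrrCharacter G → ℂ) :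
    brLam P H ξ (-c) = - brLam P H ξ c := by
  unfold brLam
  rw [← mul_neg, ← Finset.sum_neg_distrib]
  congr 1
  refine Finset.sum_congr rfl fun h _ => ?_
  rw [← neg_mul]
  congr 1
  by_cases hh : (h : G) ∈ Subgroup.centralizer (P : Set G)
  · rw [brF_mem P H _ _ hh, brF_mem P H _ _ hh, specFun_neg]
  · rw [brF_notMem P H _ _ hh, brF_notMem P H _ _ hh, neg_zero]

theorem brLam_zero (P H : Subgroup G) [Fintype H] (ξ : H → ℂ) :
    brLam P H ξ (0 : IrrCharacter G → ℂ) = 0 := by
  have h := brLam_add P H ξ (0 : IrrCharacter G → ℂ) 0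
  rw [add_zero] at h
  exact left_eq_add.mp h

theorem brLam_const (P H : Subgroup G) [Fintype H] (ξ : IrrCharacter H) (s : ℂ) :
    brLam P H (ξ : H → ℂ) (fun _ : IrrCharacter G => s) = s := by
  classical
  have h10 := Cfsg.Agent.Helper5.irr_one_ne_zero ξ
  have hval : ∀ g : G, specFun (fun _ : IrrCharacter G => s) g = if g = 1 then s else 0 := by
    intro g
    have h := specFun_smul s (1 : IrrCharacter G → ℂ) g
    have e : (fun χ : IrrCharacter G => s * (1 : IrrCharacter G → ℂ) χ) = fun _ => s := by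
      funext χ
      rw [Pi.one_apply, mul_one]
    rw [e] at h
    rw [h]
    by_cases hg : g = 1
    · rw [if_pos hg, hg, specFun_one_one, mul_one]
    · rw [if_neg hg, specFun_one_ne hg, mul_zero]
  unfold brLam
  rw [Finset.sum_eq_single (1 : H)]
  · rw [brF_mem P H _ _ (by simp), hval, if_pos (by simp)]
    field_simp
  · intro h _ hh
    have hh' : (h : G) ≠ 1 := fun h1 => hh (Subtype.ext h1)
    by_cases hc : (h : G) ∈ Subgroup.centralizer (P : Set G)
    · rw [brF_mem P H _ _ hc, hval, if_neg hh', zero_mul]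
    · rw [brF_notMem P H _ _ hc, zero_mul]
  · intro h
    exact absurd (Finset.mem_univ _) h

/-- the Brauer map is multiplicative modulo the local ideal. -/
theorem brLam_mul {p : ℕ} {M : Ideal AlgInt} (hM : IsPModular p M) [hMp : M.IsPrime]
    (P H : Subgroup G) [Fintype H] (hP : IsPGroup p P)
    (hCH : Subgroup.centralizer (P : Set G) ≤ H) (hHN : H ≤ Subgroup.normalizer (P : Set G))
    (ξ : IrrCharacter H) {c c' : IrrCharacter G → ℂ} (hc : c ∈ specRing M G)
    (hc' : c' ∈ specRing M G) :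
    MemLocalIdeal M (brLam P H (ξ : H → ℂ) (c * c')
      - brLam P H (ξ : H → ℂ) c * brLam P H (ξ : H → ℂ) c') := by
  classical
  have h10 := Cfsg.Agent.Helper5.irr_one_ne_zero ξ
  have hconv := conv_char_sum (brF P H c) (brF P H c') (brF_isClassFunction P H hHN c') ξ
  have e : brLam P H (ξ : H → ℂ) (c * c')
      - brLam P H (ξ : H → ℂ) c * brLam P H (ξ : H → ℂ) c'
      = ((ξ : H → ℂ) 1)⁻¹ * ∑ h : H, (brF P H (c * c') h
          - ∑ x : H, brF P H c x * brF P H c' (x⁻¹ * h)) * (ξ : H → ℂ) h := by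
    unfold brLam
    rw [Finset.sum_congr rfl fun h _ => sub_mul _ _ _, Finset.sum_sub_distrib, hconv]
    ring
  rw [e]
  refine classFun_char_memIdeal _ ?_ ?_ ξ
  · intro h t
    show brF P H (c * c') (t * h * t⁻¹) - ∑ x : H, brF P H c x * brF P H c' (x⁻¹ * (t * h * t⁻¹))
      = brF P H (c * c') h - ∑ x : H, brF P H c x * brF P H c' (x⁻¹ * h)
    have h1 : ∑ x : H, brF P H c x * brF P H c' (x⁻¹ * (t * h * t⁻¹))
        = ∑ x : H, brF P H c x * brF P H c' (x⁻¹ * h) :=
      conv_isClassFunction _ _ (brF_isClassFunction P H hHN c)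
        (brF_isClassFunction P H hHN c') h t
    rw [brF_isClassFunction P H hHN (c * c') h t, h1]
  · intro h
    by_cases hh : (h : G) ∈ Subgroup.centralizer (P : Set G)
    · -- both sides as sums over `G`
      have e1 : ∑ x : H, brF P H c x * brF P H c' (x⁻¹ * h)
          = ∑ x : G, if x ∈ Subgroup.centralizer (P : Set G)
              then specFun c x * specFun c' (x⁻¹ * (h : G)) else 0 := by
        rw [sum_eq_sum_subgroup H (fun x : G => if x ∈ Subgroup.centralizer (P : Set G)
          then specFun c x * specFun c' (x⁻¹ * (h : G)) else 0)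
          (fun x hx => if_neg fun hxc => hx (hCH hxc))]
        refine Finset.sum_congr rfl fun x _ => ?_
        by_cases hx : (x : G) ∈ Subgroup.centralizer (P : Set G)
        · have hxh : ((x⁻¹ * h : H) : G) ∈ Subgroup.centralizer (P : Set G) :=
            Subgroup.mul_mem _ (Subgroup.inv_mem _ hx) hh
          rw [if_pos hx, brF_mem P H _ _ hx, brF_mem P H _ _ hxh]
          rfl
        · rw [if_neg hx, brF_notMem P H _ _ hx, zero_mul]
      have e2 : brF P H (c * c') h - ∑ x : H, brF P H c x * brF P H c' (x⁻¹ * h)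
          = ∑ x ∈ Finset.univ.filter (fun x : G => x ∉ Subgroup.centralizer (P : Set G)),
              specFun c x * specFun c' (x⁻¹ * (h : G)) := by
        rw [brF_mem P H _ _ hh, specFun_mul, e1,
          ← Finset.sum_filter_add_sum_filter_not Finset.univ
            (fun x : G => x ∈ Subgroup.centralizer (P : Set G))
            (fun x => specFun c x * specFun c' (x⁻¹ * (h : G))), Finset.sum_filter, add_sub_cancel_left]
      rw [e2]
      refine sum_memLocalIdeal_of_no_fixed hM P hP _ ?_ ?_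
        (fun x => specFun c x * specFun c' (x⁻¹ * (h : G))) ?_ ?_
      · intro u hu x hx
        rw [Finset.mem_filter] at hx ⊢
        refine ⟨Finset.mem_univ _, fun hcon => hx.2 ?_⟩
        exact (conj_mem_centralizer_iff_of_normalizer P
          (Subgroup.le_normalizer hu)).mp hcon
      · intro x hx hfixed
        rw [Finset.mem_filter] at hx
        apply hx.2
        rw [Subgroup.mem_centralizer_iff]
        intro u hu
        have h1 := hfixed u hu
        calc u * x = (u * x * u⁻¹) * u := by group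
          _ = x * u := by rw [h1]
      · intro u hu x _
        show specFun c (u * x * u⁻¹) * specFun c' ((u * x * u⁻¹)⁻¹ * (h : G))
          = specFun c x * specFun c' (x⁻¹ * (h : G))
        have hug : u * (h : G) = (h : G) * u := Subgroup.mem_centralizer_iff.mp hh u hu
        have h2 : u⁻¹ * (h : G) = (h : G) * u⁻¹ :=
          (Commute.inv_left (show Commute u (h : G) from hug)).eq
        have e3 : (u * x * u⁻¹)⁻¹ * (h : G) = u * (x⁻¹ * (h : G)) * u⁻¹ := by
          calc (u * x * u⁻¹)⁻¹ * (h : G) = u * x⁻¹ * (u⁻¹ * (h : G)) := by group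
            _ = u * x⁻¹ * ((h : G) * u⁻¹) := by rw [h2]
            _ = u * (x⁻¹ * (h : G)) * u⁻¹ := by group
        rw [specFun_isClassFunction c x u, e3, specFun_isClassFunction c' _ u]
      · intro x _
        exact (locRing M).mul_mem (hc x) (hc' _)
    · have e1 : ∑ x : H, brF P H c x * brF P H c' (x⁻¹ * h) = 0 := by
        refine Finset.sum_eq_zero fun x _ => ?_
        by_cases hx : (x : G) ∈ Subgroup.centralizer (P : Set G)
        · have hxh : ((x⁻¹ * h : H) : G) ∉ Subgroup.centralizer (P : Set G) := by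
            intro hcon
            apply hh
            have := Subgroup.mul_mem _ hx hcon
            simpa using this
          rw [brF_notMem P H c' _ hxh, mul_zero]
        · rw [brF_notMem P H c _ hx, zero_mul]
      rw [brF_notMem P H _ _ hh, e1, sub_zero]
      exact memLocalIdeal_zero hMp.ne_top

theorem brauerCentralChar_eq (P H : Subgroup G) [Fintype H] (ξ : H → ℂ) (g : G)
    [DecidablePred fun h : H => IsConj g (h : G) ∧ (h : G) ∈ Subgroup.centralizer (P : Set G)] :
    brauerCentralChar P H ξ g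
      = (ξ 1)⁻¹ * ∑ h : H, (if IsConj g (h : G) ∧ (h : G) ∈ Subgroup.centralizer (P : Set G)
          then (1 : ℂ) else 0) * ξ h := by
  unfold brauerCentralChar
  rw [finsum_mem_def, finsum_eq_sum_of_fintype, Finset.mul_sum]
  refine Finset.sum_congr rfl fun h _ => ?_
  by_cases hc : IsConj g (h : G) ∧ (h : G) ∈ Subgroup.centralizer (P : Set G)
  · rw [Set.indicator_of_mem (show h ∈ {h : H | IsConj g (h : G) ∧
      (h : G) ∈ Subgroup.centralizer (P : Set G)} from hc), if_pos hc, one_mul, div_eq_inv_mul]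
  · rw [Set.indicator_of_notMem (show h ∉ {h : H | IsConj g (h : G) ∧
      (h : G) ∈ Subgroup.centralizer (P : Set G)} from hc), if_neg hc, zero_mul, mul_zero]

theorem brLam_central (P H : Subgroup G) [Fintype H] (ξ : H → ℂ) (g : G) :
    brLam P H ξ (fun χ : IrrCharacter G => centralChar (χ : G → ℂ) g)
      = brauerCentralChar P H ξ g := by
  classical
  rw [brauerCentralChar_eq]
  unfold brLam
  congr 1
  refine Finset.sum_congr rfl fun h _ => ?_
  congr 1
  by_cases hh : (h : G) ∈ Subgroup.centralizer (P : Set G)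
  · rw [brF_mem P H _ _ hh]
    by_cases hc : IsConj g (h : G)
    · rw [if_pos ⟨hc, hh⟩, (specFun_central g (h : G)).1 hc]
    · rw [if_neg (fun h' => hc h'.1), (specFun_central g (h : G)).2 hc]
  · rw [brF_notMem P H _ _ hh, if_neg (fun h' => hh h'.2)]

/-- the Brauer central character of a block of `H` is the central character of a block of `G`. -/
theorem exists_brauer_block {p : ℕ} {M : Ideal AlgInt} (hM : IsPModular p M) [hMp : M.IsPrime]
    (P H : Subgroup G) [Fintype H] (hP : IsPGroup p P)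
    (hCH : Subgroup.centralizer (P : Set G) ≤ H) (hHN : H ≤ Subgroup.normalizer (P : Set G))
    (ξ : IrrCharacter H) :
    ∃ χ₀ : IrrCharacter G, ∀ g : G, MemLocalIdeal M
      (brauerCentralChar P H (ξ : H → ℂ) g - centralChar (χ₀ : G → ℂ) g) := by
  classical
  obtain ⟨J, hJdef⟩ : ∃ J : (IrrCharacter G → ℂ) → Prop, J = fun c =>
      c ∈ specRing M G ∧ MemLocalIdeal M (brLam P H (ξ : H → ℂ) c) := ⟨_, rfl⟩
  have hJiff : ∀ c, J c ↔ c ∈ specRing M G ∧ MemLocalIdeal M (brLam P H (ξ : H → ℂ) c) := by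
    intro c
    rw [hJdef]
  have hJ0 : J 0 := by
    rw [hJiff, brLam_zero]
    exact ⟨(specRing M G).zero_mem, memLocalIdeal_zero hMp.ne_top⟩
  have hJadd : ∀ a b, J a → J b → J (a + b) := by
    intro a b ha hb
    rw [hJiff] at ha hb ⊢
    rw [brLam_add]
    exact ⟨(specRing M G).add_mem ha.1 hb.1, memLocalIdeal_add hMp ha.2 hb.2⟩
  have hJmul : ∀ a b, J a → b ∈ specRing M G → J (a * b) := by
    intro a b ha hb
    rw [hJiff] at ha ⊢
    refine ⟨(specRing M G).mul_mem ha.1 hb, ?_⟩
    have h1 := brLam_mul hM P H hP hCH hHN ξ ha.1 hb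
    have h2 : MemLocalIdeal M (brLam P H (ξ : H → ℂ) a * brLam P H (ξ : H → ℂ) b) := by
      rw [mul_comm]
      exact memLocalIdeal_mul_left (brLam_mem P H hHN ξ hb) ha.2
    have h3 := memLocalIdeal_add hMp h1 h2
    rwa [sub_add_cancel] at h3
  have h1not : ¬ J 1 := by
    rw [hJiff]
    intro h
    have e : (1 : IrrCharacter G → ℂ) = fun _ => (1 : ℂ) := rfl
    rw [e, brLam_const] at h
    exact not_memLocalIdeal_one h.2
  by_contra hcon
  push Not at hcon
  apply h1not
  refine one_mem_of_blocks J hJ0 hJadd hJmul ?_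
  intro χ₀ c hc hcv
  obtain ⟨g, hg⟩ := hcon χ₀
  have hbrS : MemLocalRing M (brauerCentralChar P H (ξ : H → ℂ) g) := by
    rw [← brLam_central]
    exact brLam_mem P H hHN ξ (central_mem_specRing g)
  obtain ⟨u, hu⟩ : ∃ u : IrrCharacter G → ℂ, u = (fun χ : IrrCharacter G =>
      centralChar (χ : G → ℂ) g) + -(fun _ : IrrCharacter G =>
      brauerCentralChar P H (ξ : H → ℂ) g) := ⟨_, rfl⟩
  have huS : u ∈ specRing M G := by
    rw [hu]
    exact (specRing M G).add_mem (central_mem_specRing g)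
      ((specRing M G).neg_mem (const_mem_specRing hbrS))
  have hΛu : brLam P H (ξ : H → ℂ) u = 0 := by
    rw [hu, brLam_add, brLam_neg, brLam_central, brLam_const, add_neg_cancel]
  have hJu : J u := by
    rw [hJiff, hΛu]
    exact ⟨huS, memLocalIdeal_zero hMp.ne_top⟩
  have hunit : ∀ χ : IrrCharacter G, SameBlock M (χ₀ : G → ℂ) (χ : G → ℂ) →
      ¬ MemLocalIdeal M (u χ) := by
    intro χ hχ hmem
    apply hg
    have huχ : u χ = centralChar (χ : G → ℂ) g - brauerCentralChar P H (ξ : H → ℂ) g := by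
      rw [hu]
      show centralChar (χ : G → ℂ) g + -(brauerCentralChar P H (ξ : H → ℂ) g) = _
      ring
    rw [huχ] at hmem
    have h2 := memLocalIdeal_neg (memLocalIdeal_add hMp hmem (hχ g))
    have e : -(centralChar (χ : G → ℂ) g - brauerCentralChar P H (ξ : H → ℂ) g
        + (centralChar (χ₀ : G → ℂ) g - centralChar (χ : G → ℂ) g))
        = brauerCentralChar P H (ξ : H → ℂ) g - centralChar (χ₀ : G → ℂ) g := by ring
    rwa [e] at h2
  exact osima_ideal J hJ0 hJadd hJmul χ₀ u hJu huS hunit c hc hcv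

/-- the induced central character and the Brauer central character agree modulo the local
ideal. -/
theorem induced_sub_brauer_mem {p : ℕ} [Fact p.Prime] {M : Ideal AlgInt} (hM : IsPModular p M)
    [hMp : M.IsPrime] (P H : Subgroup G) [Fintype H] (hP : IsPGroup p P) (hPH : P ≤ H)
    (hHN : H ≤ Subgroup.normalizer (P : Set G)) (ξ : IrrCharacter H) (g : G) :
    MemLocalIdeal M (inducedCentralChar H (ξ : H → ℂ) g
      - brauerCentralChar P H (ξ : H → ℂ) g) := by
  classical
  rw [inducedCentralChar_eq, brauerCentralChar_eq, ← mul_sub, ← Finset.sum_sub_distrib]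
  have e : ∀ h : H, (if IsConj g (h : G) then (1 : ℂ) else 0) * (ξ : H → ℂ) h
      - (if IsConj g (h : G) ∧ (h : G) ∈ Subgroup.centralizer (P : Set G) then (1 : ℂ) else 0)
        * (ξ : H → ℂ) h
      = (if IsConj g (h : G) ∧ (h : G) ∉ Subgroup.centralizer (P : Set G) then (1 : ℂ) else 0)
        * (ξ : H → ℂ) h := by
    intro h
    by_cases hc : IsConj g (h : G)
    · by_cases hh : (h : G) ∈ Subgroup.centralizer (P : Set G)
      · rw [if_pos hc, if_pos ⟨hc, hh⟩, if_neg (fun h' => h'.2 hh), sub_self, zero_mul]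
      · rw [if_pos hc, if_neg (fun h' => hh h'.2), if_pos ⟨hc, hh⟩, zero_mul, sub_zero]
    · rw [if_neg hc, if_neg (fun h' => hc h'.1), if_neg (fun h' => hc h'.1), sub_self, zero_mul]
  rw [Finset.sum_congr rfl fun h _ => e h]
  have hΦ : IsClassFunction H (fun h : H => if IsConj g (h : G) ∧
      (h : G) ∉ Subgroup.centralizer (P : Set G) then (1 : ℂ) else 0) := by
    intro h t
    show (if IsConj g ((t * h * t⁻¹ : H) : G) ∧
        ((t * h * t⁻¹ : H) : G) ∉ Subgroup.centralizer (P : Set G) then (1 : ℂ) else 0)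
      = if IsConj g (h : G) ∧ (h : G) ∉ Subgroup.centralizer (P : Set G) then (1 : ℂ) else 0
    have hcj : IsConj (h : G) ((t * h * t⁻¹ : H) : G) := isConj_iff.mpr ⟨(t : G), by simp⟩
    have hiff1 : IsConj g ((t * h * t⁻¹ : H) : G) ↔ IsConj g (h : G) :=
      ⟨fun hx => hx.trans hcj.symm, fun hx => hx.trans hcj⟩
    have hiff2 : ((t * h * t⁻¹ : H) : G) ∈ Subgroup.centralizer (P : Set G)
        ↔ (h : G) ∈ Subgroup.centralizer (P : Set G) :=
      conj_mem_centralizer_iff_of_normalizer P (hHN t.2)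
    simp only [hiff1, hiff2]
  obtain ⟨ιH, hιH⟩ := exists_class_reps H
  rw [classFun_value hΦ ιH hιH ξ]
  refine memLocalIdeal_sum _ _ fun r _ => ?_
  by_cases hr : IsConj g (r : G) ∧ (r : G) ∉ Subgroup.centralizer (P : Set G)
  · simp only [if_pos hr, one_mul]
    have hP'n : (P.subgroupOf H).Normal :=
      (Subgroup.normal_subgroupOf_iff_le_normalizer hPH).mpr hHN
    have hP'p : IsPGroup p (P.subgroupOf H) := hP.comap_subtype
    obtain ⟨ξ', hξ'B, hξ'⟩ := exists_ker_in_block hM ξ (P.subgroupOf H) hP'p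
    have hnle : ¬ P.subgroupOf H ≤ Subgroup.centralizer ({r} : Set H) := by
      intro hle
      apply hr.2
      rw [Subgroup.mem_centralizer_iff]
      intro u hu
      have h1 := hle (show (⟨u, hPH hu⟩ : H) ∈ P.subgroupOf H from by
        rw [Subgroup.mem_subgroupOf]
        exact hu)
      rw [Subgroup.mem_centralizer_singleton_iff] at h1
      exact congrArg Subtype.val h1
    have h1 := centralChar_memLocalIdeal_of_ker hM (P.subgroupOf H) hP'p ξ' hξ' r hnle
    have h2 := memLocalIdeal_add hMp (hξ'B r) h1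
    rwa [sub_add_cancel] at h2
  · simp only [if_neg hr, zero_mul]
    exact memLocalIdeal_zero hMp.ne_top

/-- S0919, for `b = blockOf M ξ₀`. -/
theorem induced_block_defined {p : ℕ} [Fact p.Prime] {M : Ideal AlgInt} (hM : IsPModular p M)
    [hMp : M.IsPrime] (P H : Subgroup G) [Fintype H] (hP : IsPGroup p P) (hPH : P ≤ H)
    (hCH : Subgroup.centralizer (P : Set G) ≤ H) (hHN : H ≤ Subgroup.normalizer (P : Set G))
    (ξ₀ : IrrCharacter H) : InducedBlockDefined M H (blockOf M (ξ₀ : H → ℂ)) := by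
  obtain ⟨χ₀, hχ₀⟩ := exists_brauer_block hM P H hP hCH hHN ξ₀
  refine ⟨blockOf M (χ₀ : G → ℂ), ⟨ξ₀, rfl⟩, ⟨χ₀, rfl⟩, ?_⟩
  intro ξ hξ χ hχ g
  have h1 := inducedCentralChar_congr H ξ ξ₀ (sameBlock_symm hξ) g
  have h2 := induced_sub_brauer_mem hM P H hP hPH hHN ξ₀ g
  have h3 := hχ₀ g
  have h4 := hχ g
  have h5 := memLocalIdeal_add hMp (memLocalIdeal_add hMp (memLocalIdeal_add hMp h1 h2) h3) h4
  have e : inducedCentralChar H (ξ : H → ℂ) g - inducedCentralChar H (ξ₀ : H → ℂ) g
      + (inducedCentralChar H (ξ₀ : H → ℂ) g - brauerCentralChar P H (ξ₀ : H → ℂ) g)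
      + (brauerCentralChar P H (ξ₀ : H → ℂ) g - centralChar (χ₀ : G → ℂ) g)
      + (centralChar (χ₀ : G → ℂ) g - centralChar (χ : G → ℂ) g)
      = inducedCentralChar H (ξ : H → ℂ) g - centralChar (χ : G → ℂ) g := by ring
  rwa [e] at h5

/-- S0918. -/
theorem induced_iff_brauer {p : ℕ} [Fact p.Prime] {M : Ideal AlgInt} (hM : IsPModular p M)
    [hMp : M.IsPrime] (P H : Subgroup G) [Fintype H] (hP : IsPGroup p P) (hPH : P ≤ H)
    (hHN : H ≤ Subgroup.normalizer (P : Set G)) (b : Set (IrrCharacter H)) (hb : IsPBlock M b)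
    (B : Set (IrrCharacter G)) (hB : IsPBlock M B) :
    IsInducedBlock M H b B ↔ ∀ ξ ∈ b, ∀ χ ∈ B, ∀ g : G, MemLocalIdeal M
      (brauerCentralChar P H (ξ : H → ℂ) g - centralChar (χ : G → ℂ) g) := by
  constructor
  · intro h ξ hξ χ hχ g
    have h1 := h.2.2 ξ hξ χ hχ g
    have h2 := induced_sub_brauer_mem hM P H hP hPH hHN ξ g
    have h3 := memLocalIdeal_sub h1 h2
    have e : inducedCentralChar H (ξ : H → ℂ) g - centralChar (χ : G → ℂ) g
        - (inducedCentralChar H (ξ : H → ℂ) g - brauerCentralChar P H (ξ : H → ℂ) g)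
        = brauerCentralChar P H (ξ : H → ℂ) g - centralChar (χ : G → ℂ) g := by ring
    rwa [e] at h3
  · intro h
    refine ⟨hb, hB, fun ξ hξ χ hχ g => ?_⟩
    have h1 := h ξ hξ χ hχ g
    have h2 := induced_sub_brauer_mem hM P H hP hPH hHN ξ g
    have h3 := memLocalIdeal_add hMp h2 h1
    rwa [sub_add_sub_cancel] at h3

end Brauer

end Cfsg.Agent.Helper5
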