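import Mathlib
import Cfsg.Agent.Helper5.BlkBr

/-!
helper5: which blocks are induced from `P C_G(P) ≤ H ≤ N_G(P)` (S0958).
-/

set_option autoImplicit false

namespace Cfsg.Agent.Helper5

open Cfsg Cfsg.Agent.Helper24 Cfsg.Agent.Helper22

universe u

section Inv

variable {G : Type u} [Group G] [Fintype G]

/-- Fourier inversion for class functions. -/
theorem specFun_cvec (F : G → ℂ) (hF : IsClassFunction G F) :
    specFun (fun χ : IrrCharacter G => ((χ : G → ℂ) 1)⁻¹ * ∑ h : G, F h * (χ : G → ℂ) h) = F := by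
  classical
  funext g
  have hG0 : (Nat.card G : ℂ) ≠ 0 := Nat.cast_ne_zero.mpr Nat.card_pos.ne'
  have e1 : ∀ χ : IrrCharacter G, (((χ : G → ℂ) 1)⁻¹ * ∑ h : G, F h * (χ : G → ℂ) h)
      * ((χ : G → ℂ) 1 * starRingEnd ℂ ((χ : G → ℂ) g))
      = ∑ h : G, F h * ((χ : G → ℂ) h * starRingEnd ℂ ((χ : G → ℂ) g)) := by
    intro χ
    have h10 := Cfsg.Agent.Helper5.irr_one_ne_zero χ
    rw [Finset.mul_sum, Finset.sum_mul]
    refine Finset.sum_congr rfl fun h _ => ?_
    field_simp
  have e2 : ∀ h : G, ∑ χ : IrrCharacter G, (χ : G → ℂ) h * starRingEnd ℂ ((χ : G → ℂ) g)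
      = if IsConj g h then (Nat.card (Subgroup.centralizer ({g} : Set G)) : ℂ) else 0 := by
    intro h
    have h1 : ∑ χ : IrrCharacter G, (χ : G → ℂ) h * starRingEnd ℂ ((χ : G → ℂ) g)
        = starRingEnd ℂ (∑ χ : IrrCharacter G, (χ : G → ℂ) g * starRingEnd ℂ ((χ : G → ℂ) h)) := by
      rw [map_sum]
      refine Finset.sum_congr rfl fun χ _ => ?_
      rw [map_mul, Complex.conj_conj, mul_comm]
    rw [h1]
    by_cases hc : IsConj g h
    · rw [if_pos hc, (sum_irr_mul_conj g h).1 hc, Complex.conj_natCast]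
    · rw [if_neg hc, (sum_irr_mul_conj g h).2 hc, map_zero]
  unfold specFun
  rw [Finset.sum_congr rfl fun χ _ => e1 χ, Finset.sum_comm]
  have e3 : ∀ h : G, ∑ χ : IrrCharacter G, F h * ((χ : G → ℂ) h * starRingEnd ℂ ((χ : G → ℂ) g))
      = if IsConj g h then F g * (Nat.card (Subgroup.centralizer ({g} : Set G)) : ℂ) else 0 := by
    intro h
    rw [← Finset.mul_sum, e2 h]
    by_cases hc : IsConj g h
    · rw [if_pos hc, if_pos hc]
      obtain ⟨k, hk⟩ := isConj_iff.mp hc
      rw [← hk, hF g k]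
    · rw [if_neg hc, if_neg hc, mul_zero]
  rw [Finset.sum_congr rfl fun h _ => e3 h, ← Finset.sum_filter, Finset.sum_const,
    card_filter_isConj, nsmul_eq_mul]
  have h3 := Subgroup.card_mul_index (Subgroup.centralizer ({g} : Set G))
  have h4 : (Nat.card (Subgroup.centralizer ({g} : Set G)) : ℂ)
      * ((Subgroup.centralizer ({g} : Set G)).index : ℂ) = (Nat.card G : ℂ) := by
    exact_mod_cast h3
  rw [← h4]
  have hc0 : (Nat.card (Subgroup.centralizer ({g} : Set G)) : ℂ) ≠ 0 :=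
    Nat.cast_ne_zero.mpr Nat.card_pos.ne'
  have hi0 := index_centralizer_ne_zero g
  field_simp

/-- a class function with local-integer values that is idempotent under convolution modulo the
local ideal, and all of whose central character values lie in the local ideal, has all its values
in the local ideal. -/
theorem classFun_mem_of_idem {M : Ideal AlgInt} [hMp : M.IsPrime] (F : G → ℂ)
    (hF : IsClassFunction G F) (hS : ∀ g, MemLocalRing M (F g))
    (hidem : ∀ g, MemLocalIdeal M (F g - ∑ x : G, F x * F (x⁻¹ * g)))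
    (hd : ∀ ξ : IrrCharacter G,
      MemLocalIdeal M (((ξ : G → ℂ) 1)⁻¹ * ∑ h : G, F h * (ξ : G → ℂ) h)) :
    ∀ g, MemLocalIdeal M (F g) := by
  classical
  obtain ⟨d, hd'⟩ : ∃ d : IrrCharacter G → ℂ, d = fun χ : IrrCharacter G =>
      ((χ : G → ℂ) 1)⁻¹ * ∑ h : G, F h * (χ : G → ℂ) h := ⟨_, rfl⟩
  have hdF : specFun d = F := by
    rw [hd']
    exact specFun_cvec F hF
  have hdS : d ∈ specRing M G := fun g => by
    rw [hdF]
    exact hS g
  have hdv : ∀ ξ : IrrCharacter G, MemLocalIdeal M (d ξ) := fun ξ => by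
    rw [hd']
    exact hd ξ
  obtain ⟨K, hKdef⟩ : ∃ K : (IrrCharacter G → ℂ) → Prop, K = fun e =>
      ∀ g, MemLocalIdeal M (specFun (d * e) g) := ⟨_, rfl⟩
  have hKiff : ∀ e, K e ↔ ∀ g, MemLocalIdeal M (specFun (d * e) g) := by
    intro e
    rw [hKdef]
  have hK0 : K 0 := by
    rw [hKiff]
    intro g
    rw [mul_zero, specFun_zero]
    exact memLocalIdeal_zero hMp.ne_top
  have hKadd : ∀ a b, K a → K b → K (a + b) := by
    intro a b ha hb
    rw [hKiff] at ha hb ⊢
    intro g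
    rw [mul_add, specFun_add]
    exact memLocalIdeal_add hMp (ha g) (hb g)
  have hKmul : ∀ a b, K a → b ∈ specRing M G → K (a * b) := by
    intro a b ha hb
    rw [hKiff] at ha ⊢
    intro g
    rw [← mul_assoc, specFun_mul]
    refine memLocalIdeal_sum _ _ fun x _ => ?_
    rw [mul_comm]
    exact memLocalIdeal_mul_left (hb _) (ha x)
  have hK1d : K (1 - d) := by
    rw [hKiff]
    intro g
    have e : d * (1 - d) = d + -(d * d) := by ring
    rw [e, specFun_add, specFun_neg, specFun_mul, hdF, ← sub_eq_add_neg]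
    exact hidem g
  have h1dS : (1 - d) ∈ specRing M G := (specRing M G).sub_mem (specRing M G).one_mem hdS
  have hK1 : K 1 := by
    refine one_mem_of_blocks K hK0 hKadd hKmul ?_
    intro χ₀ c hc hcv
    refine osima_ideal K hK0 hKadd hKmul χ₀ (1 - d) hK1d h1dS ?_ c hc hcv
    intro χ _ hmem
    have h1 : MemLocalIdeal M ((1 - d) χ + d χ) := memLocalIdeal_add hMp hmem (hdv χ)
    have e : (1 - d) χ + d χ = 1 := by
      show (1 : ℂ) - d χ + d χ = 1
      ring
    rw [e] at h1
    exact not_memLocalIdeal_one h1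
  rw [hKiff] at hK1
  intro g
  have := hK1 g
  rwa [mul_one, hdF] at this

end Inv

section Brauer

variable {G : Type u} [Group G] [Fintype G]

/-- pointwise multiplicativity of the Brauer map modulo the local ideal. -/
theorem brF_mul_sub_conv_mem {p : ℕ} {M : Ideal AlgInt} (hM : IsPModular p M) [hMp : M.IsPrime]
    (P H : Subgroup G) [Fintype H] (hP : IsPGroup p P)
    (hCH : Subgroup.centralizer (P : Set G) ≤ H)
    {c c' : IrrCharacter G → ℂ} (hc : c ∈ specRing M G) (hc' : c' ∈ specRing M G) (h : H) :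
    MemLocalIdeal M (brF P H (c * c') h - ∑ x : H, brF P H c x * brF P H c' (x⁻¹ * h)) := by
  classical
  by_cases hh : (h : G) ∈ Subgroup.centralizer (P : Set G)
  · have e1 : ∑ x : H, brF P H c x * brF P H c' (x⁻¹ * h)
        = ∑ x : G, if x ∈ Subgroup.centralizer (P : Set G)
            then specFun c x * specFun c' (x⁻¹ * (h : G)) else 0 := by
      rw [sum_eq_sum_subgroup H (fun x : G => if x ∈ Subgroup.centralizer (P : Set G)
        then specFun c x * specFun c' (x⁻¹ * (h : G)) else 0)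
        (fun x hx => if_neg fun hxc => hx (hCH hxc))]
      refine Finset.sum_congr rfl fun x _ => ?_
      by_cases hx : (x : G) ∈ Subgroup.centralizer (P : Set G)
      · have hxh : ((x⁻¹ * h : H) : G) ∈ Subgroup.centralizer (P : Set G) :=
          Subgroup.mul_mem _ (Subgroup.inv_mem _ hx) hh
        rw [if_pos hx, brF_mem P H _ _ hx, brF_mem P H _ _ hxh]
        rfl
      · rw [if_neg hx, brF_notMem P H _ _ hx, zero_mul]
    have e2 : brF P H (c * c') h - ∑ x : H, brF P H c x * brF P H c' (x⁻¹ * h)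
        = ∑ x ∈ Finset.univ.filter (fun x : G => x ∉ Subgroup.centralizer (P : Set G)),
            specFun c x * specFun c' (x⁻¹ * (h : G)) := by
      rw [brF_mem P H _ _ hh, specFun_mul, e1,
        ← Finset.sum_filter_add_sum_filter_not Finset.univ
          (fun x : G => x ∈ Subgroup.centralizer (P : Set G))
          (fun x => specFun c x * specFun c' (x⁻¹ * (h : G))), Finset.sum_filter, add_sub_cancel_left]
    rw [e2]
    refine sum_memLocalIdeal_of_no_fixed hM P hP _ ?_ ?_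
      (fun x => specFun c x * specFun c' (x⁻¹ * (h : G))) ?_ ?_
    · intro u hu x hx
      rw [Finset.mem_filter] at hx ⊢
      refine ⟨Finset.mem_univ _, fun hcon => hx.2 ?_⟩
      exact (conj_mem_centralizer_iff_of_normalizer P
        (Subgroup.le_normalizer hu)).mp hcon
    · intro x hx hfixed
      rw [Finset.mem_filter] at hx
      apply hx.2
      rw [Subgroup.mem_centralizer_iff]
      intro u hu
      have h1 := hfixed u hu
      calc u * x = (u * x * u⁻¹) * u := by group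
        _ = x * u := by rw [h1]
    · intro u hu x _
      show specFun c (u * x * u⁻¹) * specFun c' ((u * x * u⁻¹)⁻¹ * (h : G))
        = specFun c x * specFun c' (x⁻¹ * (h : G))
      have hug : u * (h : G) = (h : G) * u := Subgroup.mem_centralizer_iff.mp hh u hu
      have h2 : u⁻¹ * (h : G) = (h : G) * u⁻¹ :=
        (Commute.inv_left (show Commute u (h : G) from hug)).eq
      have e3 : (u * x * u⁻¹)⁻¹ * (h : G) = u * (x⁻¹ * (h : G)) * u⁻¹ := by
        calc (u * x * u⁻¹)⁻¹ * (h : G) = u * x⁻¹ * (u⁻¹ * (h : G)) := by group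
          _ = u * x⁻¹ * ((h : G) * u⁻¹) := by rw [h2]
          _ = u * (x⁻¹ * (h : G)) * u⁻¹ := by group
      rw [specFun_isClassFunction c x u, e3, specFun_isClassFunction c' _ u]
    · intro x _
      exact (locRing M).mul_mem (hc x) (hc' _)
  · have e1 : ∑ x : H, brF P H c x * brF P H c' (x⁻¹ * h) = 0 := by
      refine Finset.sum_eq_zero fun x _ => ?_
      by_cases hx : (x : G) ∈ Subgroup.centralizer (P : Set G)
      · have hxh : ((x⁻¹ * h : H) : G) ∉ Subgroup.centralizer (P : Set G) := by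
          intro hcon
          apply hh
          have := Subgroup.mul_mem _ hx hcon
          simpa using this
        rw [brF_notMem P H c' _ hxh, mul_zero]
      · rw [brF_notMem P H c _ hx, zero_mul]
    rw [brF_notMem P H _ _ hh, e1, sub_zero]
    exact memLocalIdeal_zero hMp.ne_top

/-- a block of `G` whose indicator is not killed by the Brauer map at `ξ` has central character
the Brauer central character of `ξ`. -/
theorem brauer_block_of_lam {p : ℕ} {M : Ideal AlgInt} (hM : IsPModular p M) [hMp : M.IsPrime]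
    (P H : Subgroup G) [Fintype H] (hP : IsPGroup p P)
    (hCH : Subgroup.centralizer (P : Set G) ≤ H) (hHN : H ≤ Subgroup.normalizer (P : Set G))
    (ξ : IrrCharacter H) (χ₀ : IrrCharacter G) (c : IrrCharacter G → ℂ) (hc : c ∈ specRing M G)
    (hcv : ∀ ψ : IrrCharacter G, (SameBlock M (χ₀ : G → ℂ) (ψ : G → ℂ) → c ψ = 1) ∧
      (¬ SameBlock M (χ₀ : G → ℂ) (ψ : G → ℂ) → c ψ = 0))
    (hΛ : ¬ MemLocalIdeal M (brLam P H (ξ : H → ℂ) c)) :
    ∀ g : G, MemLocalIdeal M
      (brauerCentralChar P H (ξ : H → ℂ) g - centralChar (χ₀ : G → ℂ) g) := by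
  classical
  obtain ⟨J, hJdef⟩ : ∃ J : (IrrCharacter G → ℂ) → Prop, J = fun c =>
      c ∈ specRing M G ∧ MemLocalIdeal M (brLam P H (ξ : H → ℂ) c) := ⟨_, rfl⟩
  have hJiff : ∀ c, J c ↔ c ∈ specRing M G ∧ MemLocalIdeal M (brLam P H (ξ : H → ℂ) c) := by
    intro c
    rw [hJdef]
  have hJ0 : J 0 := by
    rw [hJiff, brLam_zero]
    exact ⟨(specRing M G).zero_mem, memLocalIdeal_zero hMp.ne_top⟩
  have hJadd : ∀ a b, J a → J b → J (a + b) := by
    intro a b ha hb
    rw [hJiff] at ha hb ⊢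
    rw [brLam_add]
    exact ⟨(specRing M G).add_mem ha.1 hb.1, memLocalIdeal_add hMp ha.2 hb.2⟩
  have hJmul : ∀ a b, J a → b ∈ specRing M G → J (a * b) := by
    intro a b ha hb
    rw [hJiff] at ha ⊢
    refine ⟨(specRing M G).mul_mem ha.1 hb, ?_⟩
    have h1 := brLam_mul hM P H hP hCH hHN ξ ha.1 hb
    have h2 : MemLocalIdeal M (brLam P H (ξ : H → ℂ) a * brLam P H (ξ : H → ℂ) b) := by
      rw [mul_comm]
      exact memLocalIdeal_mul_left (brLam_mem P H hHN ξ hb) ha.2
    have h3 := memLocalIdeal_add hMp h1 h2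
    rwa [sub_add_cancel] at h3
  intro g
  by_contra hg
  apply hΛ
  have hbrS : MemLocalRing M (brauerCentralChar P H (ξ : H → ℂ) g) := by
    rw [← brLam_central]
    exact brLam_mem P H hHN ξ (central_mem_specRing g)
  obtain ⟨u, hu⟩ : ∃ u : IrrCharacter G → ℂ, u = (fun χ : IrrCharacter G =>
      centralChar (χ : G → ℂ) g) + -(fun _ : IrrCharacter G =>
      brauerCentralChar P H (ξ : H → ℂ) g) := ⟨_, rfl⟩
  have huS : u ∈ specRing M G := by
    rw [hu]
    exact (specRing M G).add_mem (central_mem_specRing g)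
      ((specRing M G).neg_mem (const_mem_specRing hbrS))
  have hΛu : brLam P H (ξ : H → ℂ) u = 0 := by
    rw [hu, brLam_add, brLam_neg, brLam_central, brLam_const, add_neg_cancel]
  have hJu : J u := by
    rw [hJiff, hΛu]
    exact ⟨huS, memLocalIdeal_zero hMp.ne_top⟩
  have hunit : ∀ χ : IrrCharacter G, SameBlock M (χ₀ : G → ℂ) (χ : G → ℂ) →
      ¬ MemLocalIdeal M (u χ) := by
    intro χ hχ hmem
    apply hg
    have huχ : u χ = centralChar (χ : G → ℂ) g - brauerCentralChar P H (ξ : H → ℂ) g := by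
      rw [hu]
      show centralChar (χ : G → ℂ) g + -(brauerCentralChar P H (ξ : H → ℂ) g) = _
      ring
    rw [huχ] at hmem
    have h2 := memLocalIdeal_neg (memLocalIdeal_add hMp hmem (hχ g))
    have e : -(centralChar (χ : G → ℂ) g - brauerCentralChar P H (ξ : H → ℂ) g
        + (centralChar (χ₀ : G → ℂ) g - centralChar (χ : G → ℂ) g))
        = brauerCentralChar P H (ξ : H → ℂ) g - centralChar (χ₀ : G → ℂ) g := by ring
    rwa [e] at h2
  have hJc := osima_ideal J hJ0 hJadd hJmul χ₀ u hJu huS hunit c hc hcv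
  rw [hJiff] at hJc
  exact hJc.2

theorem induced_of_brauer_congr {p : ℕ} [Fact p.Prime] {M : Ideal AlgInt} (hM : IsPModular p M)
    [hMp : M.IsPrime] (P H : Subgroup G) [Fintype H] (hP : IsPGroup p P) (hPH : P ≤ H)
    (hHN : H ≤ Subgroup.normalizer (P : Set G)) (ξ₀ : IrrCharacter H) (χ₀ : IrrCharacter G)
    (hbr : ∀ g : G, MemLocalIdeal M
      (brauerCentralChar P H (ξ₀ : H → ℂ) g - centralChar (χ₀ : G → ℂ) g)) :
    IsInducedBlock M H (blockOf M (ξ₀ : H → ℂ)) (blockOf M (χ₀ : G → ℂ)) := by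
  refine ⟨⟨ξ₀, rfl⟩, ⟨χ₀, rfl⟩, ?_⟩
  intro ξ hξ χ hχ g
  have h1 := inducedCentralChar_congr H ξ ξ₀ (sameBlock_symm hξ) g
  have h2 := induced_sub_brauer_mem hM P H hP hPH hHN ξ₀ g
  have h3 := hbr g
  have h4 := hχ g
  have h5 := memLocalIdeal_add hMp (memLocalIdeal_add hMp (memLocalIdeal_add hMp h1 h2) h3) h4
  have e : inducedCentralChar H (ξ : H → ℂ) g - inducedCentralChar H (ξ₀ : H → ℂ) g
      + (inducedCentralChar H (ξ₀ : H → ℂ) g - brauerCentralChar P H (ξ₀ : H → ℂ) g)
      + (brauerCentralChar P H (ξ₀ : H → ℂ) g - centralChar (χ₀ : G → ℂ) g)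
      + (centralChar (χ₀ : G → ℂ) g - centralChar (χ : G → ℂ) g)
      = inducedCentralChar H (ξ : H → ℂ) g - centralChar (χ : G → ℂ) g := by ring
  rwa [e] at h5

/-- if the block idempotent of `B` has a unit coefficient on `C_G(P)`, some block of `H`
induces `B`. -/
theorem exists_inducing_block {p : ℕ} [Fact p.Prime] {M : Ideal AlgInt} (hM : IsPModular p M)
    [hMp : M.IsPrime] (P H : Subgroup G) [Fintype H] (hP : IsPGroup p P) (hPH : P ≤ H)
    (hCH : Subgroup.centralizer (P : Set G) ≤ H) (hHN : H ≤ Subgroup.normalizer (P : Set G))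
    (χ₀ : IrrCharacter G) (z : G) (hz : z ∈ Subgroup.centralizer (P : Set G))
    (hβ : ¬ MemLocalIdeal M (blockCoeff (blockOf M (χ₀ : G → ℂ)) z)) :
    ∃ ξ : IrrCharacter H, (∀ g : G, MemLocalIdeal M
      (brauerCentralChar P H (ξ : H → ℂ) g - centralChar (χ₀ : G → ℂ) g)) ∧
      IsInducedBlock M H (blockOf M (ξ : H → ℂ)) (blockOf M (χ₀ : G → ℂ)) := by
  classical
  obtain ⟨c, hc, hcv⟩ := osima (M := M) χ₀
  have hcoef := blockCoeff_eq_specFun (blockOf M (χ₀ : G → ℂ)) c (fun ψ hψ => (hcv ψ).1 hψ)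
    (fun ψ hψ => (hcv ψ).2 hψ) z
  rw [hcoef] at hβ
  have hcc : c * c = c := by
    funext ψ
    by_cases h : SameBlock M (χ₀ : G → ℂ) (ψ : G → ℂ)
    · show c ψ * c ψ = c ψ
      rw [(hcv ψ).1 h, mul_one]
    · show c ψ * c ψ = c ψ
      rw [(hcv ψ).2 h, mul_zero]
  have hex : ∃ ξ : IrrCharacter H, ¬ MemLocalIdeal M (brLam P H (ξ : H → ℂ) c) := by
    by_contra hall
    push Not at hall
    have hidem : ∀ h : H, MemLocalIdeal M (brF P H c h
        - ∑ x : H, brF P H c x * brF P H c (x⁻¹ * h)) := by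
      intro h
      have h1 := brF_mul_sub_conv_mem hM P H hP hCH hc hc h
      rwa [hcc] at h1
    have h2 := classFun_mem_of_idem (brF P H c) (brF_isClassFunction P H hHN c)
      (brF_memLocalRing P H hc) hidem (fun ξ => hall ξ) ⟨z, hCH hz⟩
    rw [brF_mem P H c _ hz] at h2
    exact hβ h2
  obtain ⟨ξ, hξ⟩ := hex
  have hbr := brauer_block_of_lam hM P H hP hCH hHN ξ χ₀ c hc hcv hξ
  exact ⟨ξ, hbr, induced_of_brauer_congr hM P H hP hPH hHN ξ χ₀ hbr⟩

/-- S0958, for `B = blockOf M χ₀`. -/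
theorem induced_iff_defect {p : ℕ} [Fact p.Prime] {M : Ideal AlgInt} (hM : IsPModular p M)
    [hMp : M.IsPrime] (P H : Subgroup G) [Fintype H] (hP : IsPGroup p P)
    (hPH : P ⊔ Subgroup.centralizer (P : Set G) ≤ H)
    (hHN : H ≤ Subgroup.normalizer (P : Set G)) (χ₀ : IrrCharacter G) :
    (∃ b : Set (IrrCharacter H), IsInducedBlock M H b (blockOf M (χ₀ : G → ℂ))) ↔
      ∃ D : Subgroup G, IsDefectGroup p M (blockOf M (χ₀ : G → ℂ)) D ∧
        ∃ x : G, P.map (MulAut.conj x).toMonoidHom ≤ D := by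
  have hPH' : P ≤ H := le_sup_left.trans hPH
  have hCH : Subgroup.centralizer (P : Set G) ≤ H := le_sup_right.trans hPH
  constructor
  · rintro ⟨b, hind⟩
    obtain ⟨ξ₀, rfl⟩ := hind.1
    obtain ⟨h₀, hh₀⟩ := exists_defect_class (M := M) ξ₀
    obtain ⟨Q⟩ := (inferInstance : Nonempty (Sylow p (Subgroup.centralizer ({h₀} : Set H))))
    have hD : IsDefectGroup p M (blockOf M (ξ₀ : H → ℂ))
        ((Q : Subgroup (Subgroup.centralizer ({h₀} : Set H))).map
          (Subgroup.centralizer ({h₀} : Set H)).subtype) := ⟨h₀, hh₀, Q, rfl⟩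
    obtain ⟨E, hE, hDE⟩ := induced_defect_le hM H ξ₀ χ₀ hind _ hD
    have hP'n : (P.subgroupOf H).Normal :=
      (Subgroup.normal_subgroupOf_iff_le_normalizer hPH').mpr hHN
    have hP'p : IsPGroup p (P.subgroupOf H) := hP.comap_subtype
    have hPD := normal_pGroup_le_defect hM ξ₀ (P.subgroupOf H) hP'p _ hD
    refine ⟨E, hE, 1, ?_⟩
    rintro _ ⟨u, hu, rfl⟩
    have h1 : (⟨u, hPH' hu⟩ : H) ∈ P.subgroupOf H := by
      rw [Subgroup.mem_subgroupOf]
      exact hu
    have h2 : u ∈ ((Q : Subgroup (Subgroup.centralizer ({h₀} : Set H))).map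
        (Subgroup.centralizer ({h₀} : Set H)).subtype).map H.subtype :=
      ⟨⟨u, hPH' hu⟩, hPD h1, rfl⟩
    simpa using hDE h2
  · rintro ⟨D, hD, x, hx⟩
    obtain ⟨g, -, hgβ, z, hgz, hz⟩ := (brauer_map_iff hM χ₀ D hD P hP).mpr ⟨x, hx⟩
    have hzβ : ¬ MemLocalIdeal M (blockCoeff (blockOf M (χ₀ : G → ℂ)) z) := by
      obtain ⟨y, hy⟩ := isConj_iff.mp hgz
      rw [← hy, blockCoeff_conj]
      exact hgβ
    obtain ⟨ξ, -, hind⟩ := exists_inducing_block hM P H hP hPH' hCH hHN χ₀ z hz hzβ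
    exact ⟨_, hind⟩

end Brauer

end Cfsg.Agent.Helper5
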