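import Mathlib
import Cfsg.Agent.Helper5.BlkHt

/-!
helper5: induced blocks and defect zero (S0931).
-/

set_option autoImplicit false

namespace Cfsg.Agent.Helper5

open Cfsg Cfsg.Agent.Helper24 Cfsg.Agent.Helper22

universe u

section Grp

variable {G : Type u} [Group G]

theorem dvd_orderOf_mul [Finite G] {p : ℕ} (hp : p.Prime) (x r : G) (hxr : x * r = r * x)
    (k : ℕ) (hx : x ^ (p ^ k) = 1) (hx1 : x ≠ 1) (hr : ¬ p ∣ orderOf r) :
    p ∣ orderOf (x * r) := by
  obtain ⟨j, -, hj⟩ := (Nat.dvd_prime_pow hp).mp (orderOf_dvd_of_pow_eq_one hx)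
  have hj0 : j ≠ 0 := by
    intro h0
    rw [h0, pow_zero, orderOf_eq_one_iff] at hj
    exact hx1 hj
  have hco : (orderOf x).Coprime (orderOf r) := by
    rw [hj]
    exact Nat.Coprime.pow_left j ((Nat.Prime.coprime_iff_not_dvd hp).mpr hr)
  have hcomm : Commute x r := hxr
  rw [hcomm.orderOf_mul_eq_mul_orderOf_of_coprime hco, hj]
  exact Dvd.dvd.mul_right (dvd_pow_self p hj0) _

end Grp

section Blocks

variable {G : Type u} [Group G] [Fintype G]

theorem exists_induced_unit {M : Ideal AlgInt} [hMp : M.IsPrime] (H : Subgroup G)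
    (ξ : IrrCharacter H) (χ₀ : IrrCharacter G)
    (hcong : ∀ g : G, MemLocalIdeal M
      (inducedCentralChar H (ξ : H → ℂ) g - centralChar (χ₀ : G → ℂ) g)) :
    ∃ r : G, ¬ MemLocalIdeal M (blockCoeff (blockOf M (χ₀ : G → ℂ)) r) ∧
      ¬ MemLocalIdeal M (inducedCentralChar H (ξ : H → ℂ) r) := by
  classical
  obtain ⟨c, hc, hcv⟩ := osima (M := M) χ₀
  obtain ⟨ι, hι⟩ := exists_class_reps G
  have hindS : ∀ r : G, MemLocalRing M (inducedCentralChar H (ξ : H → ℂ) r) := by
    intro r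
    have h1 := (locRing M).add_mem (memLocalIdeal_memLocalRing (hcong r))
      (centralChar_memLocalRing χ₀ r)
    rwa [sub_add_cancel] at h1
  have ha : MemLocalIdeal M
      (∑ r ∈ ι, specFun c r * inducedCentralChar H (ξ : H → ℂ) r - 1) := by
    have h1 : c χ₀ = 1 := (hcv χ₀).1 (sameBlock_refl _)
    rw [← h1, spec_value c ι hι χ₀, ← Finset.sum_sub_distrib]
    refine memLocalIdeal_sum _ _ fun r _ => ?_
    rw [← mul_sub]
    exact memLocalIdeal_mul_left (hc r) (hcong r)
  have hex : ∃ r ∈ ι, ¬ MemLocalIdeal M (specFun c r * inducedCentralChar H (ξ : H → ℂ) r) := by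
    by_contra hcon
    push Not at hcon
    have h1 := memLocalIdeal_sub (memLocalIdeal_sum _ _ hcon) ha
    rw [sub_sub_cancel] at h1
    exact not_memLocalIdeal_one h1
  obtain ⟨r, -, hr⟩ := hex
  refine ⟨r, ?_, ?_⟩
  · have e := blockCoeff_eq_specFun (blockOf M (χ₀ : G → ℂ)) c (fun ψ hψ => (hcv ψ).1 hψ)
      (fun ψ hψ => (hcv ψ).2 hψ) r
    rw [e]
    intro hmem
    apply hr
    rw [mul_comm]
    exact memLocalIdeal_mul_left (hindS r) hmem
  · intro hmem
    exact hr (memLocalIdeal_mul_left (hc r) hmem)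

/-- a defect-zero block contains a character vanishing on `p`-singular elements. -/
theorem exists_vanishing_of_defect_zero {p : ℕ} [Fact p.Prime] {M : Ideal AlgInt}
    (hM : IsPModular p M) [hMp : M.IsPrime] (ξ₀ : IrrCharacter G)
    (h : blockDefect p (blockOf M (ξ₀ : G → ℂ)) = 0) :
    ∃ ξ₁ ∈ blockOf M (ξ₀ : G → ℂ), ∀ g : G, p ∣ orderOf g → (ξ₁ : G → ℂ) g = 0 := by
  have hp := hM.1
  have hξ₀ : ξ₀ ∈ blockOf M (ξ₀ : G → ℂ) := sameBlock_refl _
  have hne : ((fun χ : IrrCharacter G => (charDegree (χ : G → ℂ)).factorization p)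
      '' blockOf M (ξ₀ : G → ℂ)).Nonempty := ⟨_, ⟨ξ₀, hξ₀, rfl⟩⟩
  obtain ⟨ξ₁, hξ₁, hξ₁v⟩ := Nat.sInf_mem hne
  refine ⟨ξ₁, hξ₁, ?_⟩
  unfold blockDefect at h
  rw [← hξ₁v] at h
  have hle := Nat.sub_eq_zero_iff_le.mp h
  obtain ⟨n, hn, hnG⟩ := irr_degree_dvd_card ξ₁
  have hdeg : charDegree (ξ₁ : G → ℂ) = n := charDegree_of_eq hn
  have h10 := Cfsg.Agent.Helper5.irr_one_ne_zero ξ₁
  have hn0 : n ≠ 0 := by
    intro h0
    rw [h0, Nat.cast_zero] at hn
    exact h10 hn
  have hnd : ¬ p ∣ Nat.card G / charDegree (ξ₁ : G → ℂ) := by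
    intro hdvd
    have hq0 : Nat.card G / charDegree (ξ₁ : G → ℂ) ≠ 0 := by
      rw [hdeg]
      exact (Nat.div_pos (Nat.le_of_dvd Nat.card_pos hnG) (Nat.pos_of_ne_zero hn0)).ne'
    have hpos := hp.factorization_pos_of_dvd hq0 hdvd
    rw [hdeg, Nat.factorization_div hnG, Finsupp.tsub_apply] at hpos
    simp only [] at hle
    rw [hdeg] at hle
    omega
  have hblock := (defect_zero_iff hM ξ₁).mp hnd
  intro g hg
  have h1 : ¬ p ∣ orderOf (1 : G) := by
    rw [orderOf_one, Nat.dvd_one]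
    exact hp.one_lt.ne'
  have h2 := weak_block_orth hM ξ₁ 1 g h1 hg
  rw [hblock, finsum_mem_singleton] at h2
  rcases mul_eq_zero.mp h2 with h3 | h3
  · exact absurd h3 h10
  · exact (map_eq_zero (starRingEnd ℂ)).mp h3

/-- S0931, for `b = blockOf M ξ₀`, `B = blockOf M χ₀`. -/
theorem induced_defect_zero_iff {p : ℕ} [Fact p.Prime] {M : Ideal AlgInt} (hM : IsPModular p M)
    [hMp : M.IsPrime] (H : Subgroup G) [Fintype H] (ξ₀ : IrrCharacter H) (χ₀ : IrrCharacter G)
    (hind : IsInducedBlock M H (blockOf M (ξ₀ : H → ℂ)) (blockOf M (χ₀ : G → ℂ))) :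
    blockDefect p (blockOf M (ξ₀ : H → ℂ)) = 0 ↔ blockDefect p (blockOf M (χ₀ : G → ℂ)) = 0 := by
  classical
  have hp := hM.1
  have hχ₀ : χ₀ ∈ blockOf M (χ₀ : G → ℂ) := sameBlock_refl _
  have hξ₀ : ξ₀ ∈ blockOf M (ξ₀ : H → ℂ) := sameBlock_refl _
  constructor
  · intro h
    obtain ⟨ξ₁, hξ₁, hvan⟩ := exists_vanishing_of_defect_zero hM ξ₀ h
    have hcong := hind.2.2 ξ₁ hξ₁
    obtain ⟨r, hrβ, hrω⟩ := exists_induced_unit H ξ₁ χ₀ (hcong χ₀ hχ₀)
    have hdc : IsDefectClass M (blockOf M (χ₀ : G → ℂ)) r := by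
      refine ⟨blockCoeff_memLocalRing χ₀ r, hrβ, fun χ hχ hmem => hrω ?_⟩
      have h2 := memLocalIdeal_add hMp (hcong χ hχ r) hmem
      rwa [sub_add_cancel] at h2
    obtain ⟨P⟩ := (inferInstance : Nonempty (Sylow p (Subgroup.centralizer ({r} : Set G))))
    have hcard := card_defect_group hM χ₀ _ ⟨r, hdc, P, rfl⟩
    rw [Subgroup.card_map_of_injective (Subgroup.subtype_injective _)] at hcard
    by_contra hd
    have hnt : Nontrivial (P : Subgroup (Subgroup.centralizer ({r} : Set G))) := by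
      rw [← Finite.one_lt_card_iff_nontrivial]
      have hPc : Nat.card (P : Subgroup (Subgroup.centralizer ({r} : Set G)))
          = p ^ blockDefect p (blockOf M (χ₀ : G → ℂ)) := hcard
      rw [hPc]
      exact Nat.one_lt_pow hd hp.one_lt
    have hcn := IsPGroup.center_nontrivial (P.2 : IsPGroup p (P : Subgroup
      (Subgroup.centralizer ({r} : Set G))))
    obtain ⟨z, hz1⟩ := exists_ne (1 : Subgroup.center (P : Subgroup
      (Subgroup.centralizer ({r} : Set G))))
    obtain ⟨x, hxdef⟩ : ∃ x : Subgroup.centralizer ({r} : Set G),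
        x = ((z : (P : Subgroup (Subgroup.centralizer ({r} : Set G)))) :
          Subgroup.centralizer ({r} : Set G)) := ⟨_, rfl⟩
    have hxP : x ∈ (P : Subgroup (Subgroup.centralizer ({r} : Set G))) := by
      rw [hxdef]
      exact (z : (P : Subgroup (Subgroup.centralizer ({r} : Set G)))).2
    have hx1 : (x : G) ≠ 1 := by
      intro h1
      apply hz1
      apply Subtype.ext
      apply Subtype.ext
      apply Subtype.ext
      rw [← hxdef]
      exact h1
    have hxc : ∀ w ∈ (P : Subgroup (Subgroup.centralizer ({r} : Set G))), x * w = w * x := by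
      intro w hw
      have h1 := Subgroup.mem_center_iff.mp z.2 ⟨w, hw⟩
      have h2 := congrArg Subtype.val h1
      rw [hxdef]
      exact h2.symm
    have hunits := (defect_class_units hM χ₀ r hdc P x hxP).2 hxc χ₀ hχ₀
    apply hunits
    have hxr : (x : G) * r = r * (x : G) := Subgroup.mem_centralizer_singleton_iff.mp x.2
    obtain ⟨k, hk⟩ := P.2 ⟨x, hxP⟩
    have hxk : (x : G) ^ (p ^ k) = 1 := by
      have h1 := congrArg (fun z : (P : Subgroup (Subgroup.centralizer ({r} : Set G))) =>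
        ((z : Subgroup.centralizer ({r} : Set G)) : G)) hk
      simpa using h1
    have hsing := dvd_orderOf_mul hp (x : G) r hxr k hxk hx1
      (pRegular_of_blockCoeff hM χ₀ r hrβ)
    have hzero : inducedCentralChar H (ξ₁ : H → ℂ) ((x : G) * r) = 0 := by
      unfold inducedCentralChar
      refine finsum_mem_eq_zero_of_forall_eq_zero fun h hh => ?_
      have hconj : IsConj ((x : G) * r) (h : G) := hh
      obtain ⟨c, hc⟩ := hconj
      have ho : orderOf ((x : G) * r) = orderOf (h : G) := SemiconjBy.orderOf_eq _ hc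
      have ho2 : orderOf (h : G) = orderOf h := Subgroup.orderOf_coe h
      rw [hvan h (by rw [← ho2, ← ho]; exact hsing), zero_div]
    have h3 := hcong χ₀ hχ₀ ((x : G) * r)
    rw [hzero, zero_sub] at h3
    have h4 := memLocalIdeal_neg h3
    rwa [neg_neg] at h4
  · intro h
    obtain ⟨h₀, hh₀⟩ := exists_defect_class (M := M) ξ₀
    obtain ⟨Q⟩ := (inferInstance : Nonempty (Sylow p (Subgroup.centralizer ({h₀} : Set H))))
    have hD : IsDefectGroup p M (blockOf M (ξ₀ : H → ℂ))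
        ((Q : Subgroup (Subgroup.centralizer ({h₀} : Set H))).map
          (Subgroup.centralizer ({h₀} : Set H)).subtype) := ⟨h₀, hh₀, Q, rfl⟩
    obtain ⟨E, hE, hDE⟩ := induced_defect_le hM H ξ₀ χ₀ hind _ hD
    have hcE := card_defect_group hM χ₀ E hE
    rw [h, pow_zero] at hcE
    have hcD := card_defect_group hM ξ₀ _ hD
    have hdvd := Subgroup.card_dvd_of_le hDE
    rw [hcE, Subgroup.card_map_of_injective (Subgroup.subtype_injective _), hcD,
      Nat.dvd_one] at hdvd
    rcases Nat.pow_eq_one.mp hdvd with h1 | h1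
    · exact absurd h1 hp.one_lt.ne'
    · exact h1

end Blocks

end Cfsg.Agent.Helper5
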