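import Mathlib
import Cfsg.Agent.Helper5.BlkBr2

/-!
helper5: a defect group is the `p`-core of its normalizer (S0955).
-/

set_option autoImplicit false

namespace Cfsg.Agent.Helper5

open Cfsg Cfsg.Agent.Helper24 Cfsg.Agent.Helper22

universe u

section Blocks

variable {G : Type u} [Group G] [Fintype G]

/-- S0955, for `B = blockOf M χ₀`. -/
theorem pCore_normalizer_defect {p : ℕ} [Fact p.Prime] {M : Ideal AlgInt} (hM : IsPModular p M)
    [hMp : M.IsPrime] (χ₀ : IrrCharacter G) (D : Subgroup G)
    (hD : IsDefectGroup p M (blockOf M (χ₀ : G → ℂ)) D) :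
    (pCore p (Subgroup.normalizer (D : Set G))).map (Subgroup.normalizer (D : Set G)).subtype
      = D := by
  classical
  have hp := hM.1
  have : Fintype (Subgroup.normalizer (D : Set G)) := Fintype.ofFinite _
  have hDp : IsPGroup p D := by
    obtain ⟨g, -, Q, rfl⟩ := hD
    exact Q.2.map _
  have hDN : D ≤ Subgroup.normalizer (D : Set G) := Subgroup.le_normalizer
  have hsup : D ⊔ Subgroup.centralizer (D : Set G) ≤ Subgroup.normalizer (D : Set G) :=
    sup_le hDN (Subgroup.centralizer_le_normalizer (D : Set G))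
  -- a block of the normalizer inducing `B`
  have hex := (induced_iff_defect hM D (Subgroup.normalizer (D : Set G)) hDp hsup le_rfl χ₀).mpr
    ⟨D, hD, 1, by
      rintro _ ⟨u, hu, rfl⟩
      simpa using hu⟩
  obtain ⟨b, hind⟩ := hex
  obtain ⟨ξ₀, rfl⟩ := hind.1
  obtain ⟨h₀, hh₀⟩ := exists_defect_class (M := M) ξ₀
  obtain ⟨Q⟩ := (inferInstance : Nonempty (Sylow p (Subgroup.centralizer
    ({h₀} : Set (Subgroup.normalizer (D : Set G))))))
  have hDb : IsDefectGroup p M (blockOf M (ξ₀ : Subgroup.normalizer (D : Set G) → ℂ))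
      ((Q : Subgroup (Subgroup.centralizer ({h₀} : Set (Subgroup.normalizer (D : Set G))))).map
        (Subgroup.centralizer ({h₀} : Set (Subgroup.normalizer (D : Set G)))).subtype) :=
    ⟨h₀, hh₀, Q, rfl⟩
  obtain ⟨E, hE, hDE⟩ := induced_defect_le hM _ ξ₀ χ₀ hind _ hDb
  have hn : (pCore p (Subgroup.normalizer (D : Set G))).Normal :=
    Subgroup.sSup_normal _ (fun _ hH => hH.1)
  have hpg : IsPGroup p (pCore p (Subgroup.normalizer (D : Set G))) :=
    Sylow.sSup_of_normal _ (fun _ hH => hH.2) (fun _ hH => hH.1)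
  have hOD := normal_pGroup_le_defect hM ξ₀ (pCore p (Subgroup.normalizer (D : Set G))) hpg _ hDb
  have hQE : (pCore p (Subgroup.normalizer (D : Set G))).map
      (Subgroup.normalizer (D : Set G)).subtype ≤ E :=
    (Subgroup.map_mono hOD).trans hDE
  have hDQ : D ≤ (pCore p (Subgroup.normalizer (D : Set G))).map
      (Subgroup.normalizer (D : Set G)).subtype := by
    have hDn : (D.subgroupOf (Subgroup.normalizer (D : Set G))).Normal :=
      (Subgroup.normal_subgroupOf_iff_le_normalizer hDN).mpr le_rfl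
    have h1 : D.subgroupOf (Subgroup.normalizer (D : Set G))
        ≤ pCore p (Subgroup.normalizer (D : Set G)) :=
      le_sSup ⟨hDn, hDp.comap_subtype⟩
    intro d hd
    exact ⟨⟨d, hDN hd⟩, h1 (by rw [Subgroup.mem_subgroupOf]; exact hd), rfl⟩
  have hcE := card_defect_group hM χ₀ E hE
  have hcD := card_defect_group hM χ₀ D hD
  have hDE' : D = E := Subgroup.eq_of_le_of_card_ge (hDQ.trans hQE) (by rw [hcE, hcD])
  exact le_antisymm (hDE' ▸ hQE) hDQ

end Blocks

end Cfsg.Agent.Helper5
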