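import Mathlib
import Cfsg.Agent.Helper5.BlkOpN
import Cfsg.Agent.Helper5.BlkQuot
import Cfsg.Agent.Helper5.BlkInd2

/-!
helper5: root blocks (blocks of `P C_G(P) ≤ H ≤ N_G(P)` with defect group `P`), and the
`p`-parts of elements where a central character is a unit (S0929, S0973 (i)).
-/

set_option autoImplicit false

namespace Cfsg.Agent.Helper5

open Cfsg Cfsg.Agent.Helper24 Cfsg.Agent.Helper22

universe u

section Grp

variable {G : Type u} [Group G]

/-- the `p`-part of an element is a power of it. -/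
theorem ppart_eq_pow {p : ℕ} (hp : p.Prime) {g z : G} (h : IsPPart p g z) :
    ∃ n : ℕ, g ^ n = z := by
  obtain ⟨y, hxy, hc, ⟨k, hk⟩, hy⟩ := h
  have hco : (orderOf y).Coprime (orderOf z) := by
    rw [hk]
    exact Nat.Coprime.pow_right k ((Nat.Prime.coprime_iff_not_dvd hp).mpr hy).symm
  obtain ⟨m, hm⟩ := exists_pow_eq_self_of_coprime hco
  refine ⟨orderOf y * m, ?_⟩
  rw [← hxy, pow_mul, hc.mul_pow, pow_orderOf_eq_one, mul_one]
  exact hm

/-- the central character of an inflated function is a natural multiple of the central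
character on the quotient. -/
theorem centralChar_infl_nat {K : Type u} [Group K] [Finite G] (f : G →* K)
    (hf : Function.Surjective f) (ψ : K → ℂ) (g : G) :
    ∃ m : ℕ, centralChar (ψ ∘ f) g = (m : ℂ) * centralChar ψ (f g) := by
  obtain ⟨T, hT⟩ : ∃ T : Subgroup G, T = (Subgroup.centralizer
      ({f g} : Set K)).comap f := ⟨_, rfl⟩
  have hTidx : T.index = (Subgroup.centralizer ({f g} : Set K)).index := by
    rw [hT]
    exact Subgroup.index_comap_of_surjective _ hf
  have hCT : Subgroup.centralizer ({g} : Set G) ≤ T := by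
    intro x hx
    rw [hT, Subgroup.mem_comap, Subgroup.mem_centralizer_singleton_iff]
    rw [← map_mul, ← map_mul, Subgroup.mem_centralizer_singleton_iff.mp hx]
  have hmul := Subgroup.relIndex_mul_index hCT
  refine ⟨(Subgroup.centralizer ({g} : Set G)).relIndex T, ?_⟩
  unfold centralChar
  rw [← hmul, ← hTidx, Function.comp_apply, Function.comp_apply, map_one]
  push_cast
  ring

end Grp

section Blocks

variable {G : Type u} [Group G] [Fintype G]

/-- an irreducible character of full `p`-part degree vanishes on `p`-singular elements. -/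
theorem vanish_of_full_degree {p : ℕ} {M : Ideal AlgInt} (hM : IsPModular p M) [hMp : M.IsPrime]
    (ψ : IrrCharacter G) (hnd : ¬ p ∣ Nat.card G / charDegree (ψ : G → ℂ)) (g : G)
    (hg : p ∣ orderOf g) : (ψ : G → ℂ) g = 0 := by
  have hp := hM.1
  have h10 := Cfsg.Agent.Helper5.irr_one_ne_zero ψ
  have hblock := (defect_zero_iff hM ψ).mp hnd
  have h1 : ¬ p ∣ orderOf (1 : G) := by
    rw [orderOf_one, Nat.dvd_one]
    exact hp.one_lt.ne'
  have h2 := weak_block_orth hM ψ 1 g h1 hg
  rw [hblock, finsum_mem_singleton] at h2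
  rcases mul_eq_zero.mp h2 with h3 | h3
  · exact absurd h3 h10
  · exact (map_eq_zero (starRingEnd ℂ)).mp h3

/-- in a block with normal defect group `D`, the `p`-part of an element at which the central
character is a unit lies in `D`. -/
theorem ppart_mem_normal_defect {p : ℕ} [Fact p.Prime] {M : Ideal AlgInt} (hM : IsPModular p M)
    [hMp : M.IsPrime] (ξ : IrrCharacter G) (D : Subgroup G) [hDn : D.Normal]
    (hD : IsDefectGroup p M (blockOf M (ξ : G → ℂ)) D) (h : G)
    (hh : ¬ MemLocalIdeal M (centralChar (ξ : G → ℂ) h)) (z : G) (hz : IsPPart p h z) :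
    z ∈ D := by
  classical
  have hp := hM.1
  have hDp : IsPGroup p D := by
    obtain ⟨g, -, Q, rfl⟩ := hD
    exact Q.2.map _
  obtain ⟨θ, hθB, hθ⟩ := exists_ker_in_block hM ξ D hDp
  have hθh : ¬ MemLocalIdeal M (centralChar (θ : G → ℂ) h) := by
    intro hmem
    apply hh
    have h1 := memLocalIdeal_add hMp (hθB h) hmem
    rwa [sub_add_cancel] at h1
  obtain ⟨ψ, hψ⟩ := exists_irr_of_ker (QuotientGroup.mk' D) (QuotientGroup.mk'_surjective D) θ
    (fun u hu => hθ u ((QuotientGroup.eq_one_iff u).mp hu))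
  have : Fintype (G ⧸ D) := Fintype.ofFinite _
  obtain ⟨m, hm⟩ := centralChar_infl_nat (QuotientGroup.mk' D) (QuotientGroup.mk'_surjective D)
    (ψ : G ⧸ D → ℂ) h
  have hfun : (θ : G → ℂ) = (ψ : G ⧸ D → ℂ) ∘ (QuotientGroup.mk' D) := funext hψ
  rw [← hfun] at hm
  have hψh : ¬ MemLocalIdeal M (centralChar (ψ : G ⧸ D → ℂ) (QuotientGroup.mk' D h)) := by
    intro hmem
    apply hθh
    rw [hm]
    exact memLocalIdeal_mul_left (natCast_memLocalRing m) hmem
  -- degrees
  obtain ⟨n, hn, hnG⟩ := irr_degree_dvd_card ψ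
  have hdegψ : charDegree (ψ : G ⧸ D → ℂ) = n := charDegree_of_eq hn
  have hθ1 : (θ : G → ℂ) 1 = n := by
    rw [hψ 1, map_one, hn]
  have hdegθ : charDegree (θ : G → ℂ) = n := charDegree_of_eq hθ1
  have hn0 : n ≠ 0 := by
    intro h0
    rw [h0, Nat.cast_zero] at hn
    exact Cfsg.Agent.Helper5.irr_one_ne_zero ψ hn
  have hcard := card_defect_group hM ξ D hD
  have hinf : sInf ((fun χ : IrrCharacter G => (charDegree (χ : G → ℂ)).factorization p)
      '' blockOf M (ξ : G → ℂ)) ≤ n.factorization p := by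
    have := Nat.sInf_le (s := (fun χ : IrrCharacter G => (charDegree (χ : G → ℂ)).factorization p)
      '' blockOf M (ξ : G → ℂ)) ⟨θ, hθB, rfl⟩
    simp only [] at this
    rwa [hdegθ] at this
  have hGD : Nat.card G = Nat.card (G ⧸ D) * Nat.card D :=
    Subgroup.card_eq_card_quotient_mul_card_subgroup D
  have hfacG : (Nat.card G).factorization p
      = (Nat.card (G ⧸ D)).factorization p + (Nat.card D).factorization p := by
    rw [hGD, Nat.factorization_mul Nat.card_pos.ne' Nat.card_pos.ne', Finsupp.add_apply]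
  have hfacD : (Nat.card D).factorization p = blockDefect p (blockOf M (ξ : G → ℂ)) := by
    rw [hcard, hp.factorization_pow, Finsupp.single_eq_same]
  have hdef : blockDefect p (blockOf M (ξ : G → ℂ)) = (Nat.card G).factorization p -
      sInf ((fun χ : IrrCharacter G => (charDegree (χ : G → ℂ)).factorization p)
        '' blockOf M (ξ : G → ℂ)) := rfl
  have hle : (Nat.card (G ⧸ D)).factorization p ≤ n.factorization p := by omega
  have hnd : ¬ p ∣ Nat.card (G ⧸ D) / charDegree (ψ : G ⧸ D → ℂ) := by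
    intro hdvd
    have hq0 : Nat.card (G ⧸ D) / charDegree (ψ : G ⧸ D → ℂ) ≠ 0 := by
      rw [hdegψ]
      exact (Nat.div_pos (Nat.le_of_dvd Nat.card_pos hnG) (Nat.pos_of_ne_zero hn0)).ne'
    have hpos := hp.factorization_pos_of_dvd hq0 hdvd
    rw [hdegψ, Nat.factorization_div hnG, Finsupp.tsub_apply] at hpos
    omega
  have hreg : ¬ p ∣ orderOf (QuotientGroup.mk' D h) := by
    intro hsing
    apply hψh
    have h0 := vanish_of_full_degree hM ψ hnd _ hsing
    unfold centralChar
    rw [h0, mul_zero, zero_div]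
    exact memLocalIdeal_zero hMp.ne_top
  obtain ⟨j, hj⟩ := ppart_eq_pow hp hz
  obtain ⟨y, hxy, hc, ⟨k, hk⟩, hy⟩ := hz
  have h1 : orderOf (QuotientGroup.mk' D z) ∣ p ^ k := by
    rw [← hk]
    exact orderOf_map_dvd _ z
  have h2 : orderOf (QuotientGroup.mk' D z) ∣ orderOf (QuotientGroup.mk' D h) := by
    rw [← hj, map_pow]
    exact orderOf_pow_dvd j
  obtain ⟨i, -, hi⟩ := (Nat.dvd_prime_pow hp).mp h1
  have hi0 : i = 0 := by
    by_contra hne
    apply hreg
    rw [hi] at h2
    exact (dvd_pow_self p hne).trans h2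
  rw [hi0, pow_zero, orderOf_eq_one_iff] at hi
  exact (QuotientGroup.eq_one_iff z).mp hi

/-- if the Brauer central character is a unit at `g`, some conjugate of `g` in `C_G(P)` has
unit central character. -/
theorem exists_of_brauer_notMem {M : Ideal AlgInt} [hMp : M.IsPrime] (P H : Subgroup G)
    [Fintype H] (hHN : H ≤ Subgroup.normalizer (P : Set G)) (ξ : IrrCharacter H) (g : G)
    (hg : ¬ MemLocalIdeal M (brauerCentralChar P H (ξ : H → ℂ) g)) :
    ∃ h : H, IsConj g (h : G) ∧ (h : G) ∈ Subgroup.centralizer (P : Set G) ∧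
      ¬ MemLocalIdeal M (centralChar (ξ : H → ℂ) h) := by
  classical
  rw [brauerCentralChar_eq] at hg
  obtain ⟨ι, hι⟩ := exists_class_reps H
  have hF : IsClassFunction H (fun h : H =>
      if IsConj g (h : G) ∧ (h : G) ∈ Subgroup.centralizer (P : Set G) then (1 : ℂ) else 0) := by
    intro h k
    show (if IsConj g ((k * h * k⁻¹ : H) : G)
        ∧ ((k * h * k⁻¹ : H) : G) ∈ Subgroup.centralizer (P : Set G) then (1 : ℂ) else 0)
      = if IsConj g (h : G) ∧ (h : G) ∈ Subgroup.centralizer (P : Set G) then (1 : ℂ) else 0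
    have hc : IsConj (h : G) ((k * h * k⁻¹ : H) : G) := isConj_iff.mpr ⟨(k : G), by simp⟩
    have hiff : IsConj g ((k * h * k⁻¹ : H) : G) ↔ IsConj g (h : G) :=
      ⟨fun hx => hx.trans hc.symm, fun hx => hx.trans hc⟩
    have hiff2 : ((k * h * k⁻¹ : H) : G) ∈ Subgroup.centralizer (P : Set G)
        ↔ (h : G) ∈ Subgroup.centralizer (P : Set G) := by
      have := conj_mem_centralizer_iff_of_normalizer P (t := (k : G)) (h := (h : G)) (hHN k.2)
      simpa using this
    simp only [hiff, hiff2]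
  have hval := classFun_value hF ι hι ξ
  rw [hval] at hg
  by_contra hcon
  push Not at hcon
  apply hg
  refine memLocalIdeal_sum _ _ fun r _ => ?_
  by_cases hc : IsConj g (r : G) ∧ (r : G) ∈ Subgroup.centralizer (P : Set G)
  · simp only [if_pos hc, one_mul]
    exact hcon r hc.1 hc.2
  · simp only [if_neg hc, zero_mul]
    exact memLocalIdeal_zero hMp.ne_top

/-- if the induced central character is a unit at `g`, some conjugate of `g` in `H` has
unit central character. -/
theorem exists_of_induced_notMem {M : Ideal AlgInt} [hMp : M.IsPrime] (H : Subgroup G)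
    [Fintype H] (ξ : IrrCharacter H) (g : G)
    (hg : ¬ MemLocalIdeal M (inducedCentralChar H (ξ : H → ℂ) g)) :
    ∃ h : H, IsConj g (h : G) ∧ ¬ MemLocalIdeal M (centralChar (ξ : H → ℂ) h) := by
  classical
  rw [inducedCentralChar_eq] at hg
  obtain ⟨ι, hι⟩ := exists_class_reps H
  have hF : IsClassFunction H (fun h : H => if IsConj g (h : G) then (1 : ℂ) else 0) := by
    intro h k
    show (if IsConj g ((k * h * k⁻¹ : H) : G) then (1 : ℂ) else 0)
      = if IsConj g (h : G) then (1 : ℂ) else 0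
    have hc : IsConj (h : G) ((k * h * k⁻¹ : H) : G) := isConj_iff.mpr ⟨(k : G), by simp⟩
    have hiff : IsConj g ((k * h * k⁻¹ : H) : G) ↔ IsConj g (h : G) :=
      ⟨fun hx => hx.trans hc.symm, fun hx => hx.trans hc⟩
    simp only [hiff]
  have hval := classFun_value hF ι hι ξ
  rw [hval] at hg
  by_contra hcon
  push Not at hcon
  apply hg
  refine memLocalIdeal_sum _ _ fun r _ => ?_
  by_cases hc : IsConj g (r : G)
  · simp only [if_pos hc, one_mul]
    exact hcon r hc
  · simp only [if_neg hc, zero_mul]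
    exact memLocalIdeal_zero hMp.ne_top

/-- **root blocks**: a block with defect group `P` is induced from a block of
`P C_G(P) ≤ H ≤ N_G(P)` with defect group `P`. -/
theorem exists_root_block {p : ℕ} [Fact p.Prime] {M : Ideal AlgInt} (hM : IsPModular p M)
    [hMp : M.IsPrime] (χ₀ : IrrCharacter G) (P : Subgroup G)
    (hP : IsDefectGroup p M (blockOf M (χ₀ : G → ℂ)) P) (H : Subgroup G) [Fintype H]
    (hPH : P ≤ H) (hCH : Subgroup.centralizer (P : Set G) ≤ H)
    (hHN : H ≤ Subgroup.normalizer (P : Set G)) :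
    ∃ ξ : IrrCharacter H, (∀ g : G, MemLocalIdeal M
      (brauerCentralChar P H (ξ : H → ℂ) g - centralChar (χ₀ : G → ℂ) g)) ∧
      IsInducedBlock M H (blockOf M (ξ : H → ℂ)) (blockOf M (χ₀ : G → ℂ)) ∧
      IsDefectGroup p M (blockOf M (ξ : H → ℂ)) (P.subgroupOf H) := by
  classical
  have hPp : IsPGroup p P := by
    obtain ⟨g, -, Q, rfl⟩ := hP
    exact Q.2.map _
  obtain ⟨g₀, hg₀, Q, hPQ⟩ := id hP
  have hg₀C : g₀ ∈ Subgroup.centralizer (P : Set G) := by
    rw [Subgroup.mem_centralizer_iff]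
    intro u hu
    rw [hPQ] at hu
    obtain ⟨v, -, rfl⟩ := hu
    exact Subgroup.mem_centralizer_singleton_iff.mp v.2
  obtain ⟨ξ, hbr, hind⟩ := exists_inducing_block hM P H hPp hPH hCH hHN χ₀ g₀ hg₀C hg₀.2.1
  refine ⟨ξ, hbr, hind, ?_⟩
  obtain ⟨h₀, hh₀⟩ := exists_defect_class (M := M) ξ
  obtain ⟨Q'⟩ := (inferInstance : Nonempty (Sylow p (Subgroup.centralizer ({h₀} : Set H))))
  have hD' : IsDefectGroup p M (blockOf M (ξ : H → ℂ))
      ((Q' : Subgroup (Subgroup.centralizer ({h₀} : Set H))).map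
        (Subgroup.centralizer ({h₀} : Set H)).subtype) := ⟨h₀, hh₀, Q', rfl⟩
  obtain ⟨E, hE, hDE⟩ := induced_defect_le hM H ξ χ₀ hind _ hD'
  have hP'n : (P.subgroupOf H).Normal :=
    (Subgroup.normal_subgroupOf_iff_le_normalizer hPH).mpr hHN
  have hP'p : IsPGroup p (P.subgroupOf H) := hPp.comap_subtype
  have hPD := normal_pGroup_le_defect hM ξ (P.subgroupOf H) hP'p _ hD'
  have hPE : P ≤ E := by
    intro u hu
    have h1 : (⟨u, hPH hu⟩ : H) ∈ P.subgroupOf H := by
      rw [Subgroup.mem_subgroupOf]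
      exact hu
    exact hDE ⟨⟨u, hPH hu⟩, hPD h1, rfl⟩
  have hcE := card_defect_group hM χ₀ E hE
  have hcP := card_defect_group hM χ₀ P hP
  have hPE' : P = E := Subgroup.eq_of_le_of_card_ge hPE (by rw [hcE, hcP])
  have hDeq : (Q' : Subgroup (Subgroup.centralizer ({h₀} : Set H))).map
      (Subgroup.centralizer ({h₀} : Set H)).subtype = P.subgroupOf H := by
    refine le_antisymm ?_ hPD
    intro x hx
    rw [Subgroup.mem_subgroupOf, hPE']
    exact hDE ⟨x, hx, rfl⟩
  rw [← hDeq]
  exact hD'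

/-- S0929, for `B = blockOf M χ₀`. -/
theorem conj_centralizes_defect {p : ℕ} [Fact p.Prime] {M : Ideal AlgInt} (hM : IsPModular p M)
    [hMp : M.IsPrime] (χ₀ : IrrCharacter G) (P : Subgroup G)
    (hP : IsDefectGroup p M (blockOf M (χ₀ : G → ℂ)) P) (g : G)
    (hg : ¬ MemLocalIdeal M (centralChar (χ₀ : G → ℂ) g)) :
    ∃ x : G, IsConj g x ∧ x ∈ Subgroup.centralizer (P : Set G) ∧
      ∀ z : G, IsPPart p x z → z ∈ P ∧ ∀ w ∈ P, z * w = w * z := by
  classical
  have hp := hM.1
  have : Fintype (Subgroup.normalizer (P : Set G)) := Fintype.ofFinite _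
  have hPN : P ≤ Subgroup.normalizer (P : Set G) := Subgroup.le_normalizer
  obtain ⟨ξ, hbr, hind, hDξ⟩ := exists_root_block hM χ₀ P hP (Subgroup.normalizer (P : Set G))
    hPN (Subgroup.centralizer_le_normalizer (P : Set G)) le_rfl
  have hbrg : ¬ MemLocalIdeal M (brauerCentralChar P (Subgroup.normalizer (P : Set G))
      (ξ : Subgroup.normalizer (P : Set G) → ℂ) g) := by
    intro hmem
    apply hg
    have h1 := memLocalIdeal_sub hmem (hbr g)
    rwa [sub_sub_cancel] at h1
  obtain ⟨h, hconj, hhC, hω⟩ := exists_of_brauer_notMem P (Subgroup.normalizer (P : Set G))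
    le_rfl ξ g hbrg
  refine ⟨(h : G), hconj, hhC, ?_⟩
  intro z hz
  obtain ⟨j, hj⟩ := ppart_eq_pow hp hz
  have hzw : ∀ w ∈ P, z * w = w * z := by
    intro w hw
    have h1 : Commute w (h : G) := Subgroup.mem_centralizer_iff.mp hhC w hw
    rw [← hj]
    exact (h1.pow_right j).eq.symm
  refine ⟨?_, hzw⟩
  obtain ⟨y, hxy, hc, ⟨k, hk⟩, hy⟩ := hz
  have hzN : z ∈ Subgroup.normalizer (P : Set G) := by
    rw [← hj]
    exact pow_mem h.2 j
  have hyN : y ∈ Subgroup.normalizer (P : Set G) := by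
    have e : y = z⁻¹ * (h : G) := by rw [← hxy]; group
    rw [e]
    exact mul_mem (inv_mem hzN) h.2
  have hz' : IsPPart p h (⟨z, hzN⟩ : Subgroup.normalizer (P : Set G)) := by
    refine ⟨⟨y, hyN⟩, Subtype.ext hxy, Subtype.ext hc.eq, ⟨k, ?_⟩, ?_⟩
    · rw [← hk]
      exact (Subgroup.orderOf_mk z hzN)
    · rw [Subgroup.orderOf_mk y hyN]
      exact hy
  have hP'n : (P.subgroupOf (Subgroup.normalizer (P : Set G))).Normal :=
    (Subgroup.normal_subgroupOf_iff_le_normalizer hPN).mpr le_rfl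
  have hmem := ppart_mem_normal_defect hM ξ (P.subgroupOf (Subgroup.normalizer (P : Set G)))
    hDξ h hω ⟨z, hzN⟩ hz'
  exact Subgroup.mem_subgroupOf.mp hmem

end Blocks

end Cfsg.Agent.Helper5
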