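import Mathlib
import Cfsg.Agent.Helper5.BlkDefect

/-!
helper5: counting blocks of large defect against `p`-regular classes of large defect.
-/

set_option autoImplicit false

namespace Cfsg.Agent.Helper5

open Cfsg Cfsg.Agent.Helper24 Cfsg.Agent.Helper22

universe u

section Blocks

variable {G : Type u} [Group G] [Fintype G]

/-- class sums indexed by `ConjClasses`. -/
theorem class_sum_eq [Fintype (ConjClasses G)] (Φ : G → ℂ) (hΦ : IsClassFunction G Φ) :
    ∑ g : G, Φ g / ((Subgroup.centralizer ({g} : Set G)).index : ℂ)
      = ∑ C : ConjClasses G, Φ C.out := by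
  classical
  rw [← Finset.sum_fiberwise (Finset.univ) (fun g : G => ConjClasses.mk g)]
  refine Finset.sum_congr rfl fun C _ => ?_
  have hmk : ConjClasses.mk C.out = C := Quotient.out_eq _
  have hiff : ∀ j : G, ConjClasses.mk j = C ↔ IsConj C.out j := by
    intro j
    rw [← ConjClasses.mk_eq_mk_iff_isConj, hmk]
    exact eq_comm
  have h1 : ∀ j ∈ Finset.univ.filter (fun j : G => ConjClasses.mk j = C),
      Φ j / ((Subgroup.centralizer ({j} : Set G)).index : ℂ) =
        Φ C.out / ((Subgroup.centralizer ({C.out} : Set G)).index : ℂ) := by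
    intro j hj
    have hc : IsConj C.out j := (hiff j).mp (Finset.mem_filter.mp hj).2
    obtain ⟨k, hk⟩ := isConj_iff.mp hc
    rw [← hk, hΦ C.out k, index_centralizer_conj]
  rw [Finset.sum_congr rfl h1, Finset.sum_const, nsmul_eq_mul]
  have h2 : (Finset.univ.filter (fun j : G => ConjClasses.mk j = C)).card =
      (Subgroup.centralizer ({C.out} : Set G)).index := by
    rw [← card_filter_isConj]
    congr 1
    exact Finset.filter_congr fun x _ => hiff x
  rw [h2, mul_div_cancel₀ _ (index_centralizer_ne_zero C.out)]

theorem spec_value_classes [Fintype (ConjClasses G)] (c : IrrCharacter G → ℂ)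
    (ψ : IrrCharacter G) :
    c ψ = ∑ C : ConjClasses G, specFun c C.out * centralChar (ψ : G → ℂ) C.out := by
  classical
  have hι : ∀ Φ : G → ℂ, IsClassFunction G Φ →
      ∑ g : G, Φ g / ((Subgroup.centralizer ({g} : Set G)).index : ℂ)
        = ∑ r ∈ Finset.univ.image (fun C : ConjClasses G => C.out), Φ r := by
    intro Φ hΦ
    rw [class_sum_eq Φ hΦ, Finset.sum_image]
    intro C _ C' _ h
    exact Quotient.out_injective h
  rw [spec_value c _ hι ψ, Finset.sum_image]
  intro C _ C' _ h
  exact Quotient.out_injective h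

/-- a unit central character value at `g` bounds the defect of the block by the defect of the
class of `g`. -/
theorem blockDefect_le_of_centralChar {p : ℕ} [Fact p.Prime] {M : Ideal AlgInt}
    (hM : IsPModular p M) [hMp : M.IsPrime] (χ₀ : IrrCharacter G) (g : G)
    (h : ¬ MemLocalIdeal M (centralChar (χ₀ : G → ℂ) g)) :
    blockDefect p (blockOf M (χ₀ : G → ℂ))
      ≤ (Nat.card (Subgroup.centralizer ({g} : Set G))).factorization p := by
  have hχ₀ : χ₀ ∈ blockOf M (χ₀ : G → ℂ) := sameBlock_refl _
  have hmul : Nat.card (Subgroup.centralizer ({g} : Set G))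
      * (Subgroup.centralizer ({g} : Set G)).index = Nat.card G :=
    Subgroup.card_mul_index _
  have hidx0 : (Subgroup.centralizer ({g} : Set G)).index ≠ 0 := Subgroup.index_ne_zero_of_finite
  have hC0 : Nat.card (Subgroup.centralizer ({g} : Set G)) ≠ 0 := Nat.card_pos.ne'
  have hfac : (Nat.card G).factorization p
      = (Nat.card (Subgroup.centralizer ({g} : Set G))).factorization p
        + ((Subgroup.centralizer ({g} : Set G)).index).factorization p := by
    rw [← hmul, Nat.factorization_mul hC0 hidx0, Finsupp.add_apply]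
  have hi : ∀ χ ∈ blockOf M (χ₀ : G → ℂ),
      ((Subgroup.centralizer ({g} : Set G)).index).factorization p
        ≤ (charDegree (χ : G → ℂ)).factorization p := by
    intro χ hχ
    refine degree_val_ge hM χ g fun hmem => h ?_
    have h2 := memLocalIdeal_add hMp (hχ g) hmem
    rwa [sub_add_cancel] at h2
  have hinf : ((Subgroup.centralizer ({g} : Set G)).index).factorization p
      ≤ sInf ((fun χ : IrrCharacter G => (charDegree (χ : G → ℂ)).factorization p)
      '' blockOf M (χ₀ : G → ℂ)) := by
    refine le_csInf ⟨_, ⟨χ₀, hχ₀, rfl⟩⟩ ?_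
    rintro _ ⟨χ, hχ, rfl⟩
    exact hi χ hχ
  unfold blockDefect
  rw [hfac]
  omega

/-- a matrix over the local ring congruent to the identity has nonzero determinant. -/
theorem det_ne_zero_of_congr_one {M : Ideal AlgInt} [hMp : M.IsPrime] {ι : Type*} [Fintype ι]
    [DecidableEq ι] (X : Matrix ι ι ℂ) (h1 : ∀ i j, MemLocalRing M (X i j))
    (h2 : ∀ i j, MemLocalIdeal M (X i j - if i = j then 1 else 0)) : X.det ≠ 0 := by
  obtain ⟨X', hX'⟩ : ∃ X' : Matrix ι ι (locRing M), X' = fun i j => ⟨X i j, h1 i j⟩ := ⟨_, rfl⟩
  have hmap : (locRing M).subtype.mapMatrix X' = X := by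
    ext i j
    rw [hX']
    rfl
  have hq : (Ideal.Quotient.mk (locIdeal M)).mapMatrix X' = 1 := by
    ext i j
    rw [RingHom.mapMatrix_apply, Matrix.map_apply, Matrix.one_apply]
    by_cases hij : i = j
    · rw [if_pos hij, ← map_one (Ideal.Quotient.mk (locIdeal M)), Ideal.Quotient.eq,
        mem_locIdeal]
      have := h2 i j
      rw [if_pos hij] at this
      rw [hX']
      exact this
    · rw [if_neg hij, Ideal.Quotient.eq_zero_iff_mem, mem_locIdeal]
      have := h2 i j
      rw [if_neg hij, sub_zero] at this
      rw [hX']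
      exact this
  intro h0
  rw [← hmap, ← RingHom.map_det] at h0
  have h3 : X'.det = 0 := Subtype.ext h0
  have h4 := RingHom.map_det (Ideal.Quotient.mk (locIdeal M)) X'
  rw [hq, Matrix.det_one, h3, map_zero] at h4
  have h5 : (Ideal.Quotient.mk (locIdeal M)) (1 : locRing M) = 0 := by
    rw [map_one]
    exact h4.symm
  rw [Ideal.Quotient.eq_zero_iff_mem] at h5
  exact one_notMem_locIdeal h5

/-- S0962. -/
theorem blocks_le_classes {p : ℕ} [Fact p.Prime] {M : Ideal AlgInt} (hM : IsPModular p M)
    [hMp : M.IsPrime] (d : ℕ) :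
    Nat.card {B : Set (IrrCharacter G) // IsPBlock M B ∧ d ≤ blockDefect p B}
      ≤ Nat.card {C : ConjClasses G // ∃ g : G, ConjClasses.mk g = C ∧ IsPRegular p g ∧
          d ≤ (Nat.card (Subgroup.centralizer ({g} : Set G))).factorization p} := by
  classical
  have : Fintype {B : Set (IrrCharacter G) // IsPBlock M B ∧ d ≤ blockDefect p B} :=
    Fintype.ofFinite _
  have : Fintype {C : ConjClasses G // ∃ g : G, ConjClasses.mk g = C ∧ IsPRegular p g ∧
      d ≤ (Nat.card (Subgroup.centralizer ({g} : Set G))).factorization p} :=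
    Fintype.ofFinite _
  choose χf hχf using fun B : {B : Set (IrrCharacter G) // IsPBlock M B ∧
    d ≤ blockDefect p B} => B.2.1
  obtain ⟨W, hW⟩ : ∃ W : Matrix {B : Set (IrrCharacter G) // IsPBlock M B ∧
      d ≤ blockDefect p B} {C : ConjClasses G // ∃ g : G, ConjClasses.mk g = C ∧
      IsPRegular p g ∧ d ≤ (Nat.card (Subgroup.centralizer ({g} : Set G))).factorization p} ℂ,
      W = fun B C => centralChar (χf B : G → ℂ) C.1.out := ⟨_, rfl⟩
  obtain ⟨A, hA⟩ : ∃ A : Matrix {C : ConjClasses G // ∃ g : G, ConjClasses.mk g = C ∧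
      IsPRegular p g ∧ d ≤ (Nat.card (Subgroup.centralizer ({g} : Set G))).factorization p}
      {B : Set (IrrCharacter G) // IsPBlock M B ∧ d ≤ blockDefect p B} ℂ,
      A = fun C B => blockCoeff B.1 C.1.out := ⟨_, rfl⟩
  -- the key congruence
  have key : ∀ B B' : {B : Set (IrrCharacter G) // IsPBlock M B ∧ d ≤ blockDefect p B},
      MemLocalRing M ((W * A) B B') ∧
        MemLocalIdeal M ((W * A) B B' - if B = B' then 1 else 0) := by
    intro B B'
    obtain ⟨c, hc, hcv⟩ := osima (M := M) (χf B')
    have hcoef : ∀ g : G, blockCoeff B'.1 g = specFun c g := by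
      intro g
      rw [hχf B']
      exact blockCoeff_eq_specFun (blockOf M (χf B' : G → ℂ)) c (fun ψ hψ => (hcv ψ).1 hψ)
        (fun ψ hψ => (hcv ψ).2 hψ) g
    have hentry : (W * A) B B' = ∑ C : {C : ConjClasses G // ∃ g : G, ConjClasses.mk g = C ∧
        IsPRegular p g ∧ d ≤ (Nat.card (Subgroup.centralizer ({g} : Set G))).factorization p},
        specFun c C.1.out * centralChar (χf B : G → ℂ) C.1.out := by
      rw [Matrix.mul_apply]
      refine Finset.sum_congr rfl fun C _ => ?_
      rw [hW, hA]
      show centralChar (χf B : G → ℂ) C.1.out * blockCoeff B'.1 C.1.out = _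
      rw [hcoef, mul_comm]
    constructor
    · rw [hentry]
      exact (locRing M).sum_mem fun C _ =>
        (locRing M).mul_mem (hc _) (centralChar_memLocalRing _ _)
    · have hcval : c (χf B) = if B = B' then 1 else 0 := by
        by_cases hBB : B = B'
        · rw [if_pos hBB, hBB]
          exact (hcv _).1 (sameBlock_refl _)
        · rw [if_neg hBB]
          refine (hcv _).2 fun hsb => hBB ?_
          apply Subtype.ext
          rw [hχf B, hχf B']
          ext ψ
          exact ⟨fun hψ => sameBlock_trans hsb hψ,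
            fun hψ => sameBlock_trans (sameBlock_symm hsb) hψ⟩
      have hsplit := spec_value_classes c (χf B)
      rw [← Finset.sum_filter_add_sum_filter_not Finset.univ
        (fun C : ConjClasses G => ∃ g : G, ConjClasses.mk g = C ∧ IsPRegular p g ∧
          d ≤ (Nat.card (Subgroup.centralizer ({g} : Set G))).factorization p)] at hsplit
      have hsub : ∑ C ∈ Finset.univ.filter (fun C : ConjClasses G => ∃ g : G,
          ConjClasses.mk g = C ∧ IsPRegular p g ∧
          d ≤ (Nat.card (Subgroup.centralizer ({g} : Set G))).factorization p),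
          specFun c C.out * centralChar (χf B : G → ℂ) C.out = (W * A) B B' := by
        rw [hentry]
        refine Finset.sum_subtype _ (fun C => ?_) _
        simp
      rw [hsub, hcval] at hsplit
      have e : (W * A) B B' - (if B = B' then 1 else 0)
          = - ∑ C ∈ Finset.univ.filter (fun C : ConjClasses G => ¬ ∃ g : G,
          ConjClasses.mk g = C ∧ IsPRegular p g ∧
          d ≤ (Nat.card (Subgroup.centralizer ({g} : Set G))).factorization p),
          specFun c C.out * centralChar (χf B : G → ℂ) C.out := by
        rw [hsplit]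
        ring
      rw [e]
      refine memLocalIdeal_neg (memLocalIdeal_sum _ _ fun C hC => ?_)
      have hnP := (Finset.mem_filter.mp hC).2
      have hmk : ConjClasses.mk C.out = C := Quotient.out_eq _
      by_cases hreg : p ∣ orderOf C.out
      · have hβ : MemLocalIdeal M (specFun c C.out) := by
          by_contra hnot
          rw [← hcoef, hχf B'] at hnot
          exact pRegular_of_blockCoeff hM (χf B') C.out hnot hreg
        rw [mul_comm]
        exact memLocalIdeal_mul_left (centralChar_memLocalRing _ _) hβ
      · have hlt : ¬ d ≤ (Nat.card (Subgroup.centralizer ({C.out} : Set G))).factorization p :=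
          fun hd => hnP ⟨C.out, hmk, hreg, hd⟩
        have hω : MemLocalIdeal M (centralChar (χf B : G → ℂ) C.out) := by
          by_contra hnot
          have h5 := blockDefect_le_of_centralChar hM (χf B) C.out hnot
          rw [← hχf B] at h5
          exact hlt (B.2.2.trans h5)
        exact memLocalIdeal_mul_left (hc _) hω
  have hdet : (W * A).det ≠ 0 :=
    det_ne_zero_of_congr_one (M := M) (W * A) (fun i j => (key i j).1) (fun i j => (key i j).2)
  have hunit : IsUnit (W * A) := (Matrix.isUnit_iff_isUnit_det _).mpr (isUnit_iff_ne_zero.mpr hdet)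
  have hrank := Matrix.rank_of_isUnit (W * A) hunit
  have h1 := Matrix.rank_mul_le_left W A
  have h2 := Matrix.rank_le_card_width W
  rw [Nat.card_eq_fintype_card, Nat.card_eq_fintype_card]
  omega

end Blocks

end Cfsg.Agent.Helper5
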