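import Mathlib
import Cfsg.Agent.Helper5.BlkRoot
import Cfsg.Agent.Helper5.BlkCount
import Cfsg.Agent.Helper22.Brauer6

/-!
helper5: an irreducible character vanishing on all elements of order `p` has `p`-defect zero
(S0928).
-/

set_option autoImplicit false

namespace Cfsg.Agent.Helper5

open Cfsg Cfsg.Agent.Helper24 Cfsg.Agent.Helper22

universe u

section Grp

variable {G : Type u} [Group G]

/-- the elements of order dividing `p` in the centre of a nontrivial `p`-subgroup are counted by
a multiple of `p`. -/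
theorem card_omega_center_dvd [Fintype G] {p : ℕ} [Fact p.Prime] (D : Subgroup G)
    (hD : IsPGroup p D) (hne : D ≠ ⊥)
    [DecidablePred fun g : G => g ∈ D ∧ g ∈ Subgroup.centralizer (D : Set G) ∧ g ^ p = 1] :
    p ∣ (Finset.univ.filter
      (fun g : G => g ∈ D ∧ g ∈ Subgroup.centralizer (D : Set G) ∧ g ^ p = 1)).card := by
  have hp : p.Prime := Fact.out
  obtain ⟨A, hA⟩ : ∃ A : Subgroup G, ∀ g, g ∈ A ↔
      (g ∈ D ∧ g ∈ Subgroup.centralizer (D : Set G) ∧ g ^ p = 1) := by
    refine ⟨{ carrier := {g | g ∈ D ∧ g ∈ Subgroup.centralizer (D : Set G) ∧ g ^ p = 1}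
              one_mem' := ⟨D.one_mem, Subgroup.one_mem _, one_pow p⟩
              mul_mem' := ?_
              inv_mem' := ?_ }, fun g => Iff.rfl⟩
    · rintro a b ⟨ha, hac, hap⟩ ⟨hb, hbc, hbp⟩
      refine ⟨D.mul_mem ha hb, Subgroup.mul_mem _ hac hbc, ?_⟩
      have hcomm : Commute a b := Subgroup.mem_centralizer_iff.mp hbc a ha
      rw [hcomm.mul_pow, hap, hbp, one_mul]
    · rintro a ⟨ha, hac, hap⟩
      exact ⟨D.inv_mem ha, Subgroup.inv_mem _ hac, by rw [inv_pow, hap, inv_one]⟩
  have hAD : A ≤ D := fun g hg => ((hA g).mp hg).1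
  have hAp : IsPGroup p A := hD.to_le hAD
  have hcard : (Finset.univ.filter
      (fun g : G => g ∈ D ∧ g ∈ Subgroup.centralizer (D : Set G) ∧ g ^ p = 1)).card
      = Nat.card A := by
    rw [← Set.ncard_coe_finset, ← Nat.card_coe_set_eq]
    refine Nat.card_congr (Equiv.subtypeEquivRight fun g => ?_)
    rw [Finset.mem_coe, Finset.mem_filter]
    exact ⟨fun h => (hA g).mpr h.2, fun h => ⟨Finset.mem_univ _, (hA g).mp h⟩⟩
  rw [hcard]
  obtain ⟨n, hn⟩ := IsPGroup.iff_card.mp hAp
  have hn0 : n ≠ 0 := by
    intro h0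
    rw [h0, pow_zero, Subgroup.card_eq_one] at hn
    -- exhibit a nontrivial element of `A`
    have hnt : Nontrivial D := (Subgroup.nontrivial_iff_ne_bot D).mpr hne
    have hcnt : Nontrivial (Subgroup.center D) := hD.center_nontrivial
    have hcp : IsPGroup p (Subgroup.center D) := hD.to_subgroup _
    obtain ⟨k, hk⟩ := IsPGroup.iff_card.mp hcp
    have hk0 : k ≠ 0 := by
      intro hk0
      rw [hk0, pow_zero] at hk
      have := Finite.one_lt_card_iff_nontrivial.mpr hcnt
      omega
    have hdvd : p ∣ Nat.card (Subgroup.center D) := by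
      rw [hk]
      exact dvd_pow_self p hk0
    obtain ⟨x, hx⟩ := exists_prime_orderOf_dvd_card' p hdvd
    have hxA : ((x : D) : G) ∈ A := by
      rw [hA]
      refine ⟨(x : D).2, ?_, ?_⟩
      · rw [Subgroup.mem_centralizer_iff]
        intro d hd
        have h1 := Subgroup.mem_center_iff.mp x.2 ⟨d, hd⟩
        exact congrArg Subtype.val h1
      · have h1 : x ^ p = 1 := by
          rw [← hx]
          exact pow_orderOf_eq_one x
        have h2 := congrArg (fun z : Subgroup.center D => ((z : D) : G)) h1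
        simpa using h2
    rw [hn] at hxA
    have hx1 : x = 1 := by
      apply Subtype.ext
      apply Subtype.ext
      exact Subgroup.mem_bot.mp hxA
    rw [hx1, orderOf_one] at hx
    exact hp.one_lt.ne' hx.symm
  rw [hn]
  exact dvd_pow_self p hn0

end Grp

section Blocks

variable {G : Type u} [Group G] [Fintype G]

/-- in a block with normal defect group `D` there is a character with `D` in its kernel which
vanishes at the elements whose image in the quotient by `D` is `p`-singular. -/
theorem exists_ker_vanish {p : ℕ} [Fact p.Prime] {M : Ideal AlgInt} (hM : IsPModular p M)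
    [hMp : M.IsPrime] (ξ : IrrCharacter G) (D : Subgroup G) [hDn : D.Normal]
    (hD : IsDefectGroup p M (blockOf M (ξ : G → ℂ)) D) :
    ∃ θ ∈ blockOf M (ξ : G → ℂ), (∀ u ∈ D, (θ : G → ℂ) u = (θ : G → ℂ) 1) ∧
      ∀ k : G, p ∣ orderOf (QuotientGroup.mk' D k) → (θ : G → ℂ) k = 0 := by
  classical
  have hp := hM.1
  have hDp : IsPGroup p D := by
    obtain ⟨g, -, Q, rfl⟩ := hD
    exact Q.2.map _
  obtain ⟨θ, hθB, hθ⟩ := exists_ker_in_block hM ξ D hDp
  refine ⟨θ, hθB, hθ, ?_⟩
  obtain ⟨ψ, hψ⟩ := exists_irr_of_ker (QuotientGroup.mk' D) (QuotientGroup.mk'_surjective D) θ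
    (fun u hu => hθ u ((QuotientGroup.eq_one_iff u).mp hu))
  have : Fintype (G ⧸ D) := Fintype.ofFinite _
  obtain ⟨n, hn, hnG⟩ := irr_degree_dvd_card ψ
  have hdegψ : charDegree (ψ : G ⧸ D → ℂ) = n := charDegree_of_eq hn
  have hθ1 : (θ : G → ℂ) 1 = n := by
    rw [hψ 1, map_one, hn]
  have hdegθ : charDegree (θ : G → ℂ) = n := charDegree_of_eq hθ1
  have hn0 : n ≠ 0 := by
    intro h0
    rw [h0, Nat.cast_zero] at hn
    exact Cfsg.Agent.Helper5.irr_one_ne_zero ψ hn
  have hcard := card_defect_group hM ξ D hD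
  have hinf : sInf ((fun χ : IrrCharacter G => (charDegree (χ : G → ℂ)).factorization p)
      '' blockOf M (ξ : G → ℂ)) ≤ n.factorization p := by
    have := Nat.sInf_le (s := (fun χ : IrrCharacter G => (charDegree (χ : G → ℂ)).factorization p)
      '' blockOf M (ξ : G → ℂ)) ⟨θ, hθB, rfl⟩
    simp only [] at this
    rwa [hdegθ] at this
  have hGD : Nat.card G = Nat.card (G ⧸ D) * Nat.card D :=
    Subgroup.card_eq_card_quotient_mul_card_subgroup D
  have hfacG : (Nat.card G).factorization p
      = (Nat.card (G ⧸ D)).factorization p + (Nat.card D).factorization p := by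
    rw [hGD, Nat.factorization_mul Nat.card_pos.ne' Nat.card_pos.ne', Finsupp.add_apply]
  have hfacD : (Nat.card D).factorization p = blockDefect p (blockOf M (ξ : G → ℂ)) := by
    rw [hcard, hp.factorization_pow, Finsupp.single_eq_same]
  have hdef : blockDefect p (blockOf M (ξ : G → ℂ)) = (Nat.card G).factorization p -
      sInf ((fun χ : IrrCharacter G => (charDegree (χ : G → ℂ)).factorization p)
        '' blockOf M (ξ : G → ℂ)) := rfl
  have hle : (Nat.card (G ⧸ D)).factorization p ≤ n.factorization p := by omega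
  have hnd : ¬ p ∣ Nat.card (G ⧸ D) / charDegree (ψ : G ⧸ D → ℂ) := by
    intro hdvd
    have hq0 : Nat.card (G ⧸ D) / charDegree (ψ : G ⧸ D → ℂ) ≠ 0 := by
      rw [hdegψ]
      exact (Nat.div_pos (Nat.le_of_dvd Nat.card_pos hnG) (Nat.pos_of_ne_zero hn0)).ne'
    have hpos := hp.factorization_pos_of_dvd hq0 hdvd
    rw [hdegψ, Nat.factorization_div hnG, Finsupp.tsub_apply] at hpos
    omega
  intro k hk
  rw [hψ k]
  exact vanish_of_full_degree hM ψ hnd _ hk

/-- a class function summed over class representatives against the conjugacy indicator. -/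
theorem sum_reps_isConj (ι : Finset G)
    (hι : ∀ Φ : G → ℂ, IsClassFunction G Φ →
      ∑ g : G, Φ g / ((Subgroup.centralizer ({g} : Set G)).index : ℂ) = ∑ r ∈ ι, Φ r)
    (Φ : G → ℂ) (hΦ : IsClassFunction G Φ) (k : G) [DecidablePred fun g : G => IsConj g k] :
    ∑ r ∈ ι, (if IsConj r k then Φ r else 0) = Φ k := by
  classical
  have hcl : IsClassFunction G (fun g => if IsConj g k then Φ g else 0) := by
    intro g h
    show (if IsConj (h * g * h⁻¹) k then Φ (h * g * h⁻¹) else 0) = if IsConj g k then Φ g else 0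
    have hc : IsConj g (h * g * h⁻¹) := isConj_iff.mpr ⟨h, rfl⟩
    have hiff : IsConj (h * g * h⁻¹) k ↔ IsConj g k :=
      ⟨fun hx => hc.trans hx, fun hx => hc.symm.trans hx⟩
    rw [hΦ g h]
    simp only [hiff]
  rw [← hι _ hcl]
  have h1 : ∀ g : G, (if IsConj g k then Φ g else 0)
        / ((Subgroup.centralizer ({g} : Set G)).index : ℂ)
      = if IsConj k g then Φ k / ((Subgroup.centralizer ({k} : Set G)).index : ℂ) else 0 := by
    intro g
    by_cases hc : IsConj g k
    · rw [if_pos hc, if_pos hc.symm]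
      obtain ⟨t, ht⟩ := isConj_iff.mp hc.symm
      rw [← ht, hΦ k t, index_centralizer_conj]
    · rw [if_neg hc, if_neg (fun h => hc h.symm), zero_div]
  rw [Finset.sum_congr rfl fun g _ => h1 g, ← Finset.sum_filter, Finset.sum_const,
    card_filter_isConj, nsmul_eq_mul]
  rw [mul_div_cancel₀ _ (index_centralizer_ne_zero k)]

/-- the Brauer central character summed against a class function over class representatives. -/
theorem sum_reps_brauer (P H : Subgroup G) [Fintype H] (θ : H → ℂ) (Φ : G → ℂ)
    (hΦ : IsClassFunction G Φ) (ι : Finset G)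
    (hι : ∀ Φ : G → ℂ, IsClassFunction G Φ →
      ∑ g : G, Φ g / ((Subgroup.centralizer ({g} : Set G)).index : ℂ) = ∑ r ∈ ι, Φ r)
    [DecidablePred fun k : H => (k : G) ∈ Subgroup.centralizer (P : Set G)] :
    ∑ r ∈ ι, Φ r * brauerCentralChar P H θ r
      = (θ 1)⁻¹ * ∑ k : H, (if (k : G) ∈ Subgroup.centralizer (P : Set G) then Φ k else 0)
          * θ k := by
  classical
  have h1 : ∀ r ∈ ι, Φ r * brauerCentralChar P H θ r
      = (θ 1)⁻¹ * ∑ k : H, (if (k : G) ∈ Subgroup.centralizer (P : Set G)
          then (if IsConj r (k : G) then Φ r else 0) else 0) * θ k := by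
    intro r _
    rw [brauerCentralChar_eq, ← mul_assoc, mul_comm (Φ r), mul_assoc, Finset.mul_sum]
    congr 1
    refine Finset.sum_congr rfl fun k _ => ?_
    by_cases hk : (k : G) ∈ Subgroup.centralizer (P : Set G)
    · by_cases hc : IsConj r (k : G)
      · rw [if_pos ⟨hc, hk⟩, if_pos hk, if_pos hc, one_mul]
      · rw [if_neg (fun h => hc h.1), if_pos hk, if_neg hc, zero_mul, mul_zero]
    · rw [if_neg (fun h => hk h.2), if_neg hk, zero_mul, mul_zero]
  rw [Finset.sum_congr rfl h1, ← Finset.mul_sum, Finset.sum_comm]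
  congr 1
  refine Finset.sum_congr rfl fun k _ => ?_
  rw [← Finset.sum_mul]
  congr 1
  by_cases hk : (k : G) ∈ Subgroup.centralizer (P : Set G)
  · simp only [if_pos hk]
    exact sum_reps_isConj ι hι Φ hΦ (k : G)
  · simp only [if_neg hk]
    exact Finset.sum_const_zero

/-- S0928, relative to a `p`-modular ideal. -/
theorem defect_zero_of_vanish {p : ℕ} [Fact p.Prime] {M : Ideal AlgInt} (hM : IsPModular p M)
    [hMp : M.IsPrime] (χ : IrrCharacter G)
    (hvan : ∀ g : G, orderOf g = p → (χ : G → ℂ) g = 0) :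
    (charDegree (χ : G → ℂ)).factorization p = (Nat.card G).factorization p := by
  classical
  have hp := hM.1
  obtain ⟨g₀, hg₀⟩ := exists_defect_class (M := M) χ
  obtain ⟨Q⟩ := (inferInstance : Nonempty (Sylow p (Subgroup.centralizer ({g₀} : Set G))))
  obtain ⟨D, hDdef⟩ : ∃ D : Subgroup G, D = (Q : Subgroup (Subgroup.centralizer
      ({g₀} : Set G))).map (Subgroup.centralizer ({g₀} : Set G)).subtype := ⟨_, rfl⟩
  have hD : IsDefectGroup p M (blockOf M (χ : G → ℂ)) D := ⟨g₀, hg₀, Q, hDdef⟩
  have hDp : IsPGroup p D := by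
    rw [hDdef]
    exact Q.2.map _
  have hDbot : D = ⊥ := by
    by_contra hne
    have : Fintype (Subgroup.normalizer (D : Set G)) := Fintype.ofFinite _
    have hDN : D ≤ Subgroup.normalizer (D : Set G) := Subgroup.le_normalizer
    obtain ⟨ξ, hbr, hind, hDξ⟩ := exists_root_block hM χ D hD (Subgroup.normalizer (D : Set G))
      hDN (Subgroup.centralizer_le_normalizer (D : Set G)) le_rfl
    have hD'n : (D.subgroupOf (Subgroup.normalizer (D : Set G))).Normal :=
      (Subgroup.normal_subgroupOf_iff_le_normalizer hDN).mpr le_rfl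
    obtain ⟨θ, hθB, hθker, hθvan⟩ := exists_ker_vanish hM ξ
      (D.subgroupOf (Subgroup.normalizer (D : Set G))) hDξ
    have hbrθ : ∀ g : G, MemLocalIdeal M (brauerCentralChar D (Subgroup.normalizer (D : Set G))
        (θ : Subgroup.normalizer (D : Set G) → ℂ) g - centralChar (χ : G → ℂ) g) :=
      fun g => (induced_iff_brauer hM D (Subgroup.normalizer (D : Set G)) hDp hDN le_rfl _
        ⟨ξ, rfl⟩ _ ⟨χ, rfl⟩).mp hind θ hθB χ (sameBlock_refl _) g
    obtain ⟨ι, hι⟩ := exists_class_reps G
    obtain ⟨Φ, hΦdef⟩ : ∃ Φ : G → ℂ, Φ = fun g => if g ^ p = 1 then 1 else 0 := ⟨_, rfl⟩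
    have hΦapp : ∀ g, Φ g = if g ^ p = 1 then 1 else 0 := fun g => by rw [hΦdef]
    have hΦcl : IsClassFunction G Φ := by
      intro g h
      rw [hΦapp, hΦapp]
      have hiff : (h * g * h⁻¹) ^ p = 1 ↔ g ^ p = 1 := by
        rw [conj_pow]
        constructor
        · intro h1
          have h2 := congrArg (fun z => h⁻¹ * z * h) h1
          simpa [mul_assoc] using h2
        · intro h1
          rw [h1]
          simp
      simp only [hiff]
    have h1 : ((χ : G → ℂ) 1)⁻¹ * ∑ g : G, Φ g * (χ : G → ℂ) g = 1 := by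
      have hsum : ∑ g : G, Φ g * (χ : G → ℂ) g = (χ : G → ℂ) 1 := by
        rw [Finset.sum_eq_single 1]
        · rw [hΦapp, if_pos (one_pow p), one_mul]
        · intro g _ hg1
          rw [hΦapp]
          by_cases hgp : g ^ p = 1
          · rw [if_pos hgp, one_mul]
            apply hvan
            have hdvd : orderOf g ∣ p := orderOf_dvd_of_pow_eq_one hgp
            rcases (Nat.dvd_prime hp).mp hdvd with h | h
            · exact absurd (orderOf_eq_one_iff.mp h) hg1
            · exact h
          · rw [if_neg hgp, zero_mul]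
        · intro h
          exact absurd (Finset.mem_univ _) h
      rw [hsum, inv_mul_cancel₀ (Cfsg.Agent.Helper5.irr_one_ne_zero χ)]
    rw [classFun_value hΦcl ι hι χ] at h1
    have h2 : MemLocalIdeal M (∑ r ∈ ι, Φ r * centralChar (χ : G → ℂ) r
        - ∑ r ∈ ι, Φ r * brauerCentralChar D (Subgroup.normalizer (D : Set G))
          (θ : Subgroup.normalizer (D : Set G) → ℂ) r) := by
      rw [← Finset.sum_sub_distrib]
      refine memLocalIdeal_sum _ _ fun r _ => ?_
      rw [← mul_sub]
      have hΦR : MemLocalRing M (Φ r) := by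
        rw [hΦapp]
        split_ifs
        · exact (locRing M).one_mem
        · exact (locRing M).zero_mem
      have h3 := memLocalIdeal_neg (hbrθ r)
      rw [neg_sub] at h3
      exact memLocalIdeal_mul_left hΦR h3
    rw [h1, sum_reps_brauer D (Subgroup.normalizer (D : Set G))
      (θ : Subgroup.normalizer (D : Set G) → ℂ) Φ hΦcl ι hι] at h2
    -- evaluate the sum over the normalizer
    have hθ1 := Cfsg.Agent.Helper5.irr_one_ne_zero θ
    have hterm : ∀ k : Subgroup.normalizer (D : Set G),
        (if (k : G) ∈ Subgroup.centralizer (D : Set G) then Φ k else 0)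
          * (θ : Subgroup.normalizer (D : Set G) → ℂ) k
        = (fun g : G => if g ∈ D ∧ g ∈ Subgroup.centralizer (D : Set G) ∧ g ^ p = 1
            then (θ : Subgroup.normalizer (D : Set G) → ℂ) 1 else 0) (k : G) := by
      intro k
      show _ = if (k : G) ∈ D ∧ (k : G) ∈ Subgroup.centralizer (D : Set G) ∧ (k : G) ^ p = 1
            then (θ : Subgroup.normalizer (D : Set G) → ℂ) 1 else 0
      by_cases hkC : (k : G) ∈ Subgroup.centralizer (D : Set G)
      · rw [if_pos hkC, hΦapp]
        by_cases hkp : (k : G) ^ p = 1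
        · rw [if_pos hkp, one_mul]
          by_cases hkD : (k : G) ∈ D
          · rw [if_pos ⟨hkD, hkC, hkp⟩]
            exact hθker k (Subgroup.mem_subgroupOf.mpr hkD)
          · rw [if_neg (fun h => hkD h.1)]
            apply hθvan
            have hk1 : QuotientGroup.mk' (D.subgroupOf (Subgroup.normalizer (D : Set G))) k
                ≠ 1 := by
              intro h1
              exact hkD (Subgroup.mem_subgroupOf.mp ((QuotientGroup.eq_one_iff k).mp h1))
            have hkp' : (QuotientGroup.mk' (D.subgroupOf (Subgroup.normalizer (D : Set G))) k)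
                ^ p = 1 := by
              rw [← map_pow]
              have : k ^ p = 1 := Subtype.ext (by simpa using hkp)
              rw [this, map_one]
            have hdvd := orderOf_dvd_of_pow_eq_one hkp'
            rcases (Nat.dvd_prime hp).mp hdvd with h | h
            · exact absurd (orderOf_eq_one_iff.mp h) hk1
            · rw [h]
        · rw [if_neg hkp, zero_mul, if_neg (fun h => hkp h.2.2)]
      · rw [if_neg hkC, zero_mul, if_neg (fun h => hkC h.2.1)]
    have hsum : ∑ k : Subgroup.normalizer (D : Set G),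
        (if (k : G) ∈ Subgroup.centralizer (D : Set G) then Φ k else 0)
          * (θ : Subgroup.normalizer (D : Set G) → ℂ) k
        = ((Finset.univ.filter (fun g : G => g ∈ D ∧ g ∈ Subgroup.centralizer (D : Set G)
            ∧ g ^ p = 1)).card : ℂ) * (θ : Subgroup.normalizer (D : Set G) → ℂ) 1 := by
      rw [Finset.sum_congr rfl fun k _ => hterm k]
      rw [← sum_eq_sum_subgroup (Subgroup.normalizer (D : Set G))
        (fun g : G => if g ∈ D ∧ g ∈ Subgroup.centralizer (D : Set G) ∧ g ^ p = 1
            then (θ : Subgroup.normalizer (D : Set G) → ℂ) 1 else 0)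
        (fun g hg => if_neg (fun h => hg (hDN h.1)))]
      rw [← Finset.sum_filter, Finset.sum_const, nsmul_eq_mul]
    rw [hsum] at h2
    obtain ⟨j, hj⟩ := card_omega_center_dvd D hDp hne
    rw [hj] at h2
    have e : ((θ : Subgroup.normalizer (D : Set G) → ℂ) 1)⁻¹ * (((p * j : ℕ) : ℂ)
        * (θ : Subgroup.normalizer (D : Set G) → ℂ) 1) = (j : ℂ) * (p : ℂ) := by
      push_cast
      field_simp
    rw [e] at h2
    have h4 : MemLocalIdeal M ((j : ℂ) * (p : ℂ)) :=
      memLocalIdeal_mul_left (natCast_memLocalRing j) (prime_memLocalIdeal hM)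
    have h5 := memLocalIdeal_add hMp h2 h4
    rw [sub_add_cancel] at h5
    exact not_memLocalIdeal_one h5
  -- conclusion
  have hcard := card_defect_group hM χ D hD
  rw [hDbot, Subgroup.card_bot] at hcard
  have hd0 : blockDefect p (blockOf M (χ : G → ℂ)) = 0 := by
    by_contra h0
    have h1 : p ∣ 1 := by
      rw [hcard]
      exact dvd_pow_self p h0
    exact hp.one_lt.ne' (Nat.dvd_one.mp h1)
  obtain ⟨n, hn, hnG⟩ := irr_degree_dvd_card χ
  have hdeg : charDegree (χ : G → ℂ) = n := charDegree_of_eq hn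
  have hn0 : n ≠ 0 := by
    intro h0
    rw [h0, Nat.cast_zero] at hn
    exact Cfsg.Agent.Helper5.irr_one_ne_zero χ hn
  have hinf : sInf ((fun ψ : IrrCharacter G => (charDegree (ψ : G → ℂ)).factorization p)
      '' blockOf M (χ : G → ℂ)) ≤ n.factorization p := by
    have := Nat.sInf_le (s := (fun ψ : IrrCharacter G => (charDegree (ψ : G → ℂ)).factorization p)
      '' blockOf M (χ : G → ℂ)) ⟨χ, sameBlock_refl _, rfl⟩
    simp only [] at this
    rwa [hdeg] at this
  have hdef : blockDefect p (blockOf M (χ : G → ℂ)) = (Nat.card G).factorization p -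
      sInf ((fun ψ : IrrCharacter G => (charDegree (ψ : G → ℂ)).factorization p)
        '' blockOf M (χ : G → ℂ)) := rfl
  have hge : n.factorization p ≤ (Nat.card G).factorization p :=
    (Nat.factorization_le_iff_dvd hn0 Nat.card_pos.ne').mpr hnG p
  rw [hdeg]
  omega

end Blocks

end Cfsg.Agent.Helper5
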