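import Mathlib
import Cfsg.Agent.Helper5.BlkVan

/-!
helper5: convolution of functions on a finite group, group-algebra operators of a representation,
and the twisted-trace vanishing lemma (toward Brauer's Second Main Theorem).
-/

set_option autoImplicit false

namespace Cfsg.Agent.Helper5

open Cfsg Cfsg.Agent.Helper24 Cfsg.Agent.Helper22

universe u

section Conv

variable {G : Type u} [Group G] [Fintype G]

/-- convolution of functions on a finite group (the product of the group algebra). -/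
noncomputable def conv (a b : G → ℂ) : G → ℂ := fun g => ∑ k : G, a k * b (k⁻¹ * g)

theorem conv_apply (a b : G → ℂ) (g : G) : conv a b g = ∑ k : G, a k * b (k⁻¹ * g) := rfl

theorem conv_assoc (a b c : G → ℂ) : conv (conv a b) c = conv a (conv b c) := by
  funext g
  simp only [conv_apply, Finset.sum_mul, Finset.mul_sum]
  rw [Finset.sum_comm]
  refine Finset.sum_congr rfl fun j _ => ?_
  refine Fintype.sum_equiv (Equiv.mulLeft j⁻¹) _ _ (fun k => ?_)
  simp only [Equiv.coe_mulLeft]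
  have e : (j⁻¹ * k)⁻¹ * (j⁻¹ * g) = k⁻¹ * g := by group
  rw [e, mul_assoc]

theorem conv_sub_right (a b c : G → ℂ) : conv a (b - c) = conv a b - conv a c := by
  funext g
  simp only [conv_apply, Pi.sub_apply, mul_sub, Finset.sum_sub_distrib]

theorem conv_sub_left (a b c : G → ℂ) : conv (a - b) c = conv a c - conv b c := by
  funext g
  simp only [conv_apply, Pi.sub_apply, sub_mul, Finset.sum_sub_distrib]

theorem conv_comm_of_class (a e : G → ℂ) (he : IsClassFunction G e) : conv e a = conv a e := by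
  funext g
  simp only [conv_apply]
  refine Fintype.sum_equiv ((Equiv.inv G).trans (Equiv.mulRight g)) _ _ (fun k => ?_)
  show e k * a (k⁻¹ * g) = a (k⁻¹ * g) * e ((k⁻¹ * g)⁻¹ * g)
  have e1 : (k⁻¹ * g)⁻¹ * g = g⁻¹ * k * g⁻¹⁻¹ := by group
  rw [e1, he k g⁻¹, mul_comm]

/-- the operator of a group-algebra element in a representation. -/
noncomputable def opOf {n : ℕ} (ρ : Representation ℂ G (Fin n → ℂ)) (a : G → ℂ) :
    Module.End ℂ (Fin n → ℂ) := ∑ g : G, a g • ρ g

theorem opOf_conv {n : ℕ} (ρ : Representation ℂ G (Fin n → ℂ)) (a b : G → ℂ) :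
    opOf ρ (conv a b) = opOf ρ a * opOf ρ b := by
  unfold opOf
  rw [Finset.sum_mul]
  simp only [Finset.mul_sum, conv_apply, Finset.sum_smul]
  rw [Finset.sum_comm]
  refine Finset.sum_congr rfl fun k _ => ?_
  refine Fintype.sum_equiv (Equiv.mulLeft k⁻¹) _ _ (fun g => ?_)
  simp only [Equiv.coe_mulLeft]
  rw [smul_mul_smul_comm, ← map_mul, mul_inv_cancel_left]

theorem opOf_sub {n : ℕ} (ρ : Representation ℂ G (Fin n → ℂ)) (a b : G → ℂ) :
    opOf ρ (a - b) = opOf ρ a - opOf ρ b := by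
  unfold opOf
  rw [← Finset.sum_sub_distrib]
  refine Finset.sum_congr rfl fun g _ => ?_
  exact sub_smul (a g) (b g) (ρ g)

theorem opOf_smul {n : ℕ} (ρ : Representation ℂ G (Fin n → ℂ)) (c : ℂ) (a : G → ℂ) :
    opOf ρ (fun g => c * a g) = c • opOf ρ a := by
  unfold opOf
  rw [Finset.smul_sum]
  refine Finset.sum_congr rfl fun g _ => ?_
  rw [mul_smul]

theorem opOf_delta_one {n : ℕ} (ρ : Representation ℂ G (Fin n → ℂ))
    [DecidableEq G] : opOf ρ (fun g : G => if g = 1 then (1 : ℂ) else 0) = 1 := by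
  unfold opOf
  rw [Finset.sum_eq_single 1]
  · simp
  · intro g _ hg
    simp [hg]
  · intro h
    exact absurd (Finset.mem_univ _) h

theorem conj_opOf {n : ℕ} (ρ : Representation ℂ G (Fin n → ℂ)) (h : G) (a : G → ℂ) :
    ρ h * opOf ρ a * ρ h⁻¹ = opOf ρ (fun g => a (h⁻¹ * g * h)) := by
  unfold opOf
  rw [Finset.mul_sum, Finset.sum_mul]
  refine Fintype.sum_equiv (MulAut.conj h).toEquiv _ _ (fun g => ?_)
  show ρ h * (a g • ρ g) * ρ h⁻¹ = a (h⁻¹ * (h * g * h⁻¹) * h) • ρ (h * g * h⁻¹)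
  have e : h⁻¹ * (h * g * h⁻¹) * h = g := by group
  rw [e, map_mul, map_mul, mul_smul_comm, smul_mul_assoc]

theorem trace_mul_opOf {n : ℕ} (ρ : Representation ℂ G (Fin n → ℂ)) (h : G) (a : G → ℂ) :
    LinearMap.trace ℂ (Fin n → ℂ) (ρ h * opOf ρ a) = ∑ g : G, a g * ρ.character (h * g) := by
  unfold opOf
  rw [Finset.mul_sum, map_sum]
  refine Finset.sum_congr rfl fun g _ => ?_
  rw [mul_smul_comm, ← map_mul, map_smul, smul_eq_mul]
  rfl

/-- **twisted trace lemma**: an idempotent `s` of the local group algebra commuting with `h`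
which is congruent, modulo the local ideal, to an element `S` with `h S h⁻¹ = c S`, `c ≠ 1`,
has character value zero at `s h`. -/
theorem twisted_trace_vanish {M : Ideal AlgInt} [hMp : M.IsPrime] {n : ℕ}
    (ρ : Representation ℂ G (Fin n → ℂ)) (s S : G → ℂ) (h : G) (c : ℂ) (hc : c ≠ 1)
    (hss : conv s s = s) (hsh : ∀ g, s (h⁻¹ * g * h) = s g)
    (hSh : ∀ g, S (h⁻¹ * g * h) = c * S g)
    (hsR : ∀ g, MemLocalRing M (s g)) (hZ : ∀ g, MemLocalIdeal M (s g - S g)) :
    ∑ g : G, s g * ρ.character (h * g) = 0 := by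
  classical
  obtain ⟨Z, hZdef⟩ : ∃ Z : G → ℂ, Z = s - S := ⟨_, rfl⟩
  have hZm : ∀ g, MemLocalIdeal M (Z g) := fun g => by
    rw [hZdef]
    exact hZ g
  obtain ⟨Y, hYdef⟩ : ∃ Y : G → ℂ, Y = conv s (conv Z s) := ⟨_, rfl⟩
  have hYm : ∀ g, MemLocalIdeal M (Y g) := by
    intro g
    rw [hYdef]
    refine memLocalIdeal_sum _ _ fun k _ => ?_
    refine memLocalIdeal_mul_left (hsR k) ?_
    refine memLocalIdeal_sum _ _ fun j _ => ?_
    rw [mul_comm]
    exact memLocalIdeal_mul_left (hsR _) (hZm j)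
  obtain ⟨A, hAdef⟩ : ∃ A : Matrix G G ℂ,
      A = fun g g' => (if g = g' then 1 else 0) - Y (g * g'⁻¹) := ⟨_, rfl⟩
  have hAapp : ∀ g g', A g g' = (if g = g' then 1 else 0) - Y (g * g'⁻¹) := fun g g' => by
    rw [hAdef]
  have hAdet : A.det ≠ 0 := by
    apply det_ne_zero_of_congr_one (M := M)
    · intro i j
      rw [hAapp]
      refine (locRing M).sub_mem ?_ (memLocalIdeal_memLocalRing (hYm _))
      split_ifs
      · exact (locRing M).one_mem
      · exact (locRing M).zero_mem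
    · intro i j
      rw [hAapp, sub_sub_cancel_left]
      exact memLocalIdeal_neg (hYm _)
  obtain ⟨U, hUdef⟩ : ∃ U : G → ℂ, U = fun g => A⁻¹ g 1 := ⟨_, rfl⟩
  have hAU : ∀ g, ∑ j, A g j * U j = if g = 1 then 1 else 0 := by
    intro g
    have h1 : A * A⁻¹ = 1 := Matrix.mul_nonsing_inv A (isUnit_iff_ne_zero.mpr hAdet)
    have h2 := congrFun (congrFun h1 g) 1
    rw [Matrix.mul_apply, Matrix.one_apply] at h2
    rw [hUdef]
    exact h2
  have hfun : U - conv Y U = fun g => if g = 1 then (1 : ℂ) else 0 := by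
    funext g
    rw [← hAU g]
    have e1 : ∑ j, A g j * U j = U g - ∑ j, Y (g * j⁻¹) * U j := by
      simp only [hAapp, sub_mul, Finset.sum_sub_distrib]
      congr 1
      rw [Finset.sum_eq_single g]
      · rw [if_pos rfl, one_mul]
      · intro j _ hj
        rw [if_neg (Ne.symm hj), zero_mul]
      · intro h
        exact absurd (Finset.mem_univ _) h
    rw [e1]
    show U g - conv Y U g = _
    congr 1
    rw [conv_apply]
    refine Fintype.sum_equiv ((Equiv.inv G).trans (Equiv.mulRight g)) _ _ (fun k => ?_)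
    show Y k * U (k⁻¹ * g) = Y (g * (k⁻¹ * g)⁻¹) * U (k⁻¹ * g)
    have e2 : g * (k⁻¹ * g)⁻¹ = k := by group
    rw [e2]
  -- operators
  obtain ⟨P, hP⟩ : ∃ P : Module.End ℂ (Fin n → ℂ), P = opOf ρ s := ⟨_, rfl⟩
  have hPP : P * P = P := by
    rw [hP, ← opOf_conv, hss]
  have hinv : ρ h⁻¹ * ρ h = 1 := by
    rw [← map_mul, inv_mul_cancel, map_one]
  have hPh : ρ h * P = P * ρ h := by
    have h1 := conj_opOf ρ h s
    rw [funext hsh, ← hP] at h1
    calc ρ h * P = ρ h * P * (ρ h⁻¹ * ρ h) := by rw [hinv, mul_one]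
      _ = (ρ h * P * ρ h⁻¹) * ρ h := by noncomm_ring
      _ = P * ρ h := by rw [h1]
  obtain ⟨Sr, hSr⟩ : ∃ Sr : Module.End ℂ (Fin n → ℂ), Sr = opOf ρ S := ⟨_, rfl⟩
  have hSrh : ρ h * Sr = c • (Sr * ρ h) := by
    have h1 := conj_opOf ρ h S
    rw [funext hSh, opOf_smul, ← hSr] at h1
    calc ρ h * Sr = ρ h * Sr * (ρ h⁻¹ * ρ h) := by rw [hinv, mul_one]
      _ = (ρ h * Sr * ρ h⁻¹) * ρ h := by noncomm_ring
      _ = c • (Sr * ρ h) := by rw [h1, smul_mul_assoc]
  obtain ⟨Zo, hZo⟩ : ∃ Zo : Module.End ℂ (Fin n → ℂ), Zo = opOf ρ Z := ⟨_, rfl⟩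
  have hSrZ : Sr = P - Zo := by
    rw [hSr, hP, hZo, ← opOf_sub, hZdef, sub_sub_cancel]
  obtain ⟨Uo, hUo⟩ : ∃ Uo : Module.End ℂ (Fin n → ℂ), Uo = opOf ρ U := ⟨_, rfl⟩
  have hYo : opOf ρ Y = P * Zo * P := by
    rw [hYdef, opOf_conv, opOf_conv, ← hP, ← hZo, mul_assoc]
  have hTU : (1 - P * Zo * P) * Uo = 1 := by
    rw [← hYo, hUo, sub_mul, one_mul, ← opOf_conv, ← opOf_sub, hfun]
    exact opOf_delta_one ρ
  have hUT : Uo * (1 - P * Zo * P) = 1 := mul_eq_one_comm.mp hTU
  -- the corner element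
  obtain ⟨So, hSo⟩ : ∃ So : Module.End ℂ (Fin n → ℂ), So = P * Sr * P := ⟨_, rfl⟩
  have hPP' : ∀ X : Module.End ℂ (Fin n → ℂ), P * (P * X) = P * X := fun X => by
    rw [← mul_assoc, hPP]
  have hSo1 : So = P * (1 - P * Zo * P) := by
    rw [hSo, hSrZ]
    simp only [mul_sub, sub_mul, mul_one, mul_assoc, hPP, hPP']
  have hSo2 : So = (1 - P * Zo * P) * P := by
    rw [hSo, hSrZ]
    simp only [mul_sub, sub_mul, one_mul, mul_assoc, hPP]
  have hSoh : ρ h * So = c • (So * ρ h) := by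
    rw [hSo]
    calc ρ h * (P * Sr * P) = (ρ h * P) * Sr * P := by simp only [mul_assoc]
      _ = P * (ρ h * Sr) * P := by rw [hPh]; simp only [mul_assoc]
      _ = c • (P * Sr * (ρ h * P)) := by
          rw [hSrh]
          simp only [mul_smul_comm, smul_mul_assoc, mul_assoc]
      _ = c • (P * Sr * P * ρ h) := by rw [hPh]; simp only [mul_assoc]
  have hS1 : So * (Uo * P) = P := by
    rw [hSo1]
    calc P * (1 - P * Zo * P) * (Uo * P) = P * (((1 - P * Zo * P) * Uo) * P) := by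
          simp only [mul_assoc]
      _ = P := by rw [hTU, one_mul, hPP]
  have hS2 : (Uo * P) * So = P := by
    have e : P * (1 - P * Zo * P) = (1 - P * Zo * P) * P := by rw [← hSo1, hSo2]
    rw [hSo1]
    calc Uo * P * (P * (1 - P * Zo * P)) = Uo * (P * (1 - P * Zo * P)) := by
          simp only [mul_assoc, hPP']
      _ = (Uo * (1 - P * Zo * P)) * P := by rw [e]; simp only [mul_assoc]
      _ = P := by rw [hUT, one_mul]
  have htr : LinearMap.trace ℂ (Fin n → ℂ) (ρ h * P)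
      = c * LinearMap.trace ℂ (Fin n → ℂ) (ρ h * P) := by
    calc LinearMap.trace ℂ (Fin n → ℂ) (ρ h * P)
        = LinearMap.trace ℂ (Fin n → ℂ) (ρ h * (So * (Uo * P))) := by rw [hS1]
      _ = LinearMap.trace ℂ (Fin n → ℂ) ((ρ h * So) * (Uo * P)) := by rw [mul_assoc]
      _ = LinearMap.trace ℂ (Fin n → ℂ) (c • (So * ρ h * (Uo * P))) := by
          rw [hSoh, smul_mul_assoc]
      _ = c * LinearMap.trace ℂ (Fin n → ℂ) (So * ρ h * (Uo * P)) := by
          rw [map_smul, smul_eq_mul]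
      _ = c * LinearMap.trace ℂ (Fin n → ℂ) ((Uo * P) * So * ρ h) := by
          rw [LinearMap.trace_mul_cycle]
      _ = c * LinearMap.trace ℂ (Fin n → ℂ) (P * ρ h) := by rw [hS2]
      _ = c * LinearMap.trace ℂ (Fin n → ℂ) (ρ h * P) := by rw [hPh]
  have h0 : LinearMap.trace ℂ (Fin n → ℂ) (ρ h * P) = 0 := by
    have h1 : (1 - c) * LinearMap.trace ℂ (Fin n → ℂ) (ρ h * P) = 0 := by
      rw [sub_mul, one_mul, ← htr, sub_self]
    rcases mul_eq_zero.mp h1 with h2 | h2
    · exact absurd (sub_eq_zero.mp h2).symm hc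
    · exact h2
  rw [hP, trace_mul_opOf] at h0
  exact h0

end Conv

end Cfsg.Agent.Helper5
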