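import Mathlib
import Cfsg.Agent.Helper5.BlkConv

/-!
helper5: `p`-parts, weight functions on orbits of a cyclic group, and the twisted element used in
the proof of Brauer's Second Main Theorem.
-/

set_option autoImplicit false

namespace Cfsg.Agent.Helper5

open Cfsg Cfsg.Agent.Helper24 Cfsg.Agent.Helper22

universe u

section Grp

variable {G : Type u} [Group G]

/-- existence of the `p`-part. -/
theorem exists_isPPart [Finite G] {p : ℕ} (hp : p.Prime) (g : G) : ∃ x : G, IsPPart p g x := by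
  have hn0 : orderOf g ≠ 0 := (orderOf_pos g).ne'
  obtain ⟨a, ha⟩ : ∃ a : ℕ, a = (orderOf g).factorization p := ⟨_, rfl⟩
  obtain ⟨m, hm⟩ : ∃ m : ℕ, m = orderOf g / p ^ a := ⟨_, rfl⟩
  have hnm : p ^ a * m = orderOf g := by
    rw [hm, ha]
    exact Nat.ordProj_mul_ordCompl_eq_self _ p
  have hmp : ¬ p ∣ m := by
    rw [hm, ha]
    exact Nat.not_dvd_ordCompl hp hn0
  have hco : Nat.Coprime (p ^ a) m :=
    Nat.Coprime.pow_left a ((Nat.Prime.coprime_iff_not_dvd hp).mpr hmp)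
  have hbez := Nat.gcd_eq_gcd_ab (p ^ a) m
  rw [hco.gcd_eq_one] at hbez
  have hnmZ : ((p ^ a : ℕ) : ℤ) * (m : ℤ) = ((orderOf g : ℕ) : ℤ) := by
    rw [← hnm]
    push_cast
    ring
  refine ⟨g ^ ((m : ℤ) * Nat.gcdB (p ^ a) m), g ^ (((p ^ a : ℕ) : ℤ) * Nat.gcdA (p ^ a) m), ?_,
    Commute.zpow_zpow_self g _ _, ?_, ?_⟩
  · rw [← zpow_add]
    have e : (m : ℤ) * Nat.gcdB (p ^ a) m + ((p ^ a : ℕ) : ℤ) * Nat.gcdA (p ^ a) m = 1 := by
      rw [add_comm]
      exact hbez.symm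
    rw [e, zpow_one]
  · have h1 : (g ^ ((m : ℤ) * Nat.gcdB (p ^ a) m)) ^ (p ^ a) = 1 := by
      rw [← zpow_natCast, ← zpow_mul]
      have e : (m : ℤ) * Nat.gcdB (p ^ a) m * ((p ^ a : ℕ) : ℤ)
          = ((orderOf g : ℕ) : ℤ) * Nat.gcdB (p ^ a) m := by
        rw [← hnmZ]
        ring
      rw [e, zpow_mul, zpow_natCast, pow_orderOf_eq_one, one_zpow]
    obtain ⟨k, -, hk⟩ := (Nat.dvd_prime_pow hp).mp (orderOf_dvd_of_pow_eq_one h1)
    exact ⟨k, hk⟩
  · intro hdvd
    have h1 : (g ^ (((p ^ a : ℕ) : ℤ) * Nat.gcdA (p ^ a) m)) ^ m = 1 := by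
      rw [← zpow_natCast, ← zpow_mul]
      have e : ((p ^ a : ℕ) : ℤ) * Nat.gcdA (p ^ a) m * (m : ℤ)
          = ((orderOf g : ℕ) : ℤ) * Nat.gcdA (p ^ a) m := by
        rw [← hnmZ]
        ring
      rw [e, zpow_mul, zpow_natCast, pow_orderOf_eq_one, one_zpow]
    exact hmp (hdvd.trans (orderOf_dvd_of_pow_eq_one h1))

/-- uniqueness of the `p`-part. -/
theorem isPPart_unique {p : ℕ} (hp : p.Prime) {g z z' : G} (h : IsPPart p g z)
    (h' : IsPPart p g z') : z = z' := by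
  obtain ⟨n, hn⟩ := ppart_eq_pow hp h
  obtain ⟨n', hn'⟩ := ppart_eq_pow hp h'
  obtain ⟨y, hxy, hc, ⟨k, hk⟩, hy⟩ := h
  obtain ⟨y', hxy', hc', ⟨k', hk'⟩, hy'⟩ := h'
  have hzz' : Commute z z' := by
    rw [← hn, ← hn']
    exact Commute.pow_pow_self g n n'
  have hgy : Commute g y := by
    rw [← hxy]
    exact hc.mul_left (Commute.refl y)
  have hgy' : Commute g y' := by
    rw [← hxy']
    exact hc'.mul_left (Commute.refl y')
  have hz'y : Commute z' y := by
    rw [← hn']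
    exact hgy.pow_left n'
  have hyy' : Commute y y' := by
    have e : y' = z'⁻¹ * g := by
      rw [← hxy']
      group
    rw [e]
    exact (hz'y.symm.inv_right).mul_right hgy.symm
  have ht : z⁻¹ * z' = y * y'⁻¹ := by
    have e1 : z' = g * y'⁻¹ := by
      rw [← hxy']
      group
    have e2 : z⁻¹ * g = y := by
      rw [← hxy]
      group
    rw [e1, ← mul_assoc, e2]
  have h1 : (z⁻¹ * z') ^ (p ^ (k + k')) = 1 := by
    have hz : z ^ (p ^ (k + k')) = 1 := by
      rw [pow_add, pow_mul, ← hk, pow_orderOf_eq_one, one_pow]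
    have hz' : z' ^ (p ^ (k + k')) = 1 := by
      rw [pow_add, mul_comm, pow_mul, ← hk', pow_orderOf_eq_one, one_pow]
    rw [(hzz'.inv_left).mul_pow, inv_pow, hz, hz', inv_one, one_mul]
  have h2 : (z⁻¹ * z') ^ (orderOf y * orderOf y') = 1 := by
    rw [ht, (hyy'.inv_right).mul_pow, inv_pow, pow_mul, pow_orderOf_eq_one, one_pow,
      mul_comm (orderOf y), pow_mul, pow_orderOf_eq_one, one_pow, inv_one, one_mul]
  have hco : Nat.Coprime (p ^ (k + k')) (orderOf y * orderOf y') := by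
    apply Nat.Coprime.pow_left
    rw [Nat.Prime.coprime_iff_not_dvd hp]
    intro hd
    rcases (Nat.Prime.dvd_mul hp).mp hd with h3 | h3
    · exact hy h3
    · exact hy' h3
  have h3 := Nat.dvd_gcd (orderOf_dvd_of_pow_eq_one h1) (orderOf_dvd_of_pow_eq_one h2)
  rw [hco.gcd_eq_one, Nat.dvd_one, orderOf_eq_one_iff] at h3
  exact inv_mul_eq_one.mp h3

/-- a weight function on the orbits of `⟨h⟩` acting by conjugation outside `C_G(x)`, `x` a
`p`-element which is a power of `h`. -/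
theorem exists_weight {p : ℕ} (hp : p.Prime) (h x : G) (u a : ℕ) (hx : h ^ u = x)
    (hxo : x ^ (p ^ a) = 1) :
    ∃ w : G → ℤ, ∀ g : G, x * g ≠ g * x → (p : ℤ) ∣ w (h * g * h⁻¹) - w g - 1 := by
  classical
  let r : Setoid G :=
    { r := fun g g' => ∃ i : ℤ, g' = h ^ i * g * h ^ (-i)
      iseqv := ⟨fun g => ⟨0, by simp⟩,
        fun {g g'} ⟨i, hi⟩ => ⟨-i, by rw [hi]; group⟩,
        fun {g g' g''} ⟨i, hi⟩ ⟨j, hj⟩ => ⟨j + i, by rw [hj, hi]; group⟩⟩ }
  have hrep : ∀ g, ∃ i : ℤ, g = h ^ i * (Quotient.out (Quotient.mk r g)) * h ^ (-i) := by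
    intro g
    have h1 := Quotient.exact (Quotient.out_eq (Quotient.mk r g))
    exact h1
  choose w hw using hrep
  refine ⟨w, fun g hg => ?_⟩
  have hq : Quotient.mk r (h * g * h⁻¹) = Quotient.mk r g := by
    apply Quotient.sound
    show ∃ i : ℤ, g = h ^ i * (h * g * h⁻¹) * h ^ (-i)
    exact ⟨-1, by group⟩
  obtain ⟨r₀, hr₀⟩ : ∃ r₀ : G, r₀ = Quotient.out (Quotient.mk r g) := ⟨_, rfl⟩
  obtain ⟨wg, hwg⟩ : ∃ wg : ℤ, wg = w g := ⟨_, rfl⟩
  obtain ⟨w', hw'⟩ : ∃ w' : ℤ, w' = w (h * g * h⁻¹) := ⟨_, rfl⟩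
  have h2 : g = h ^ wg * r₀ * h ^ (-wg) := by
    rw [hwg, hr₀]
    exact hw g
  have h1 : h * g * h⁻¹ = h ^ w' * r₀ * h ^ (-w') := by
    have h3 := hw (h * g * h⁻¹)
    rw [hq] at h3
    rw [hw', hr₀]
    exact h3
  rw [← hw', ← hwg]
  obtain ⟨k, hk⟩ : ∃ k : ℤ, k = w' - wg - 1 := ⟨_, rfl⟩
  rw [← hk]
  have h1' : h * (h ^ wg * r₀ * h ^ (-wg)) * h⁻¹ = h ^ w' * r₀ * h ^ (-w') := by
    rw [← h2]
    exact h1
  have hcomm : Commute (h ^ k) r₀ := by
    show h ^ k * r₀ = r₀ * h ^ k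
    calc h ^ k * r₀ = h ^ k * (h ^ (-w') * (h ^ w' * r₀ * h ^ (-w')) * h ^ w') := by group
      _ = h ^ k * (h ^ (-w') * (h * (h ^ wg * r₀ * h ^ (-wg)) * h⁻¹) * h ^ w') := by rw [← h1']
      _ = r₀ * h ^ k := by
        rw [hk]
        group
  by_contra hnd
  have hnd' : ¬ p ∣ k.natAbs := fun hd => hnd (Int.natCast_dvd.mpr hd)
  have hcomm' : Commute (h ^ k.natAbs) r₀ := by
    rcases Int.natAbs_eq k with hk1 | hk1
    · have e : h ^ k = h ^ k.natAbs := by
        conv_lhs => rw [hk1]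
        exact zpow_natCast h _
      rw [← e]
      exact hcomm
    · have e : h ^ k = (h ^ k.natAbs)⁻¹ := by
        conv_lhs => rw [hk1]
        rw [zpow_neg, zpow_natCast]
      rw [e] at hcomm
      exact (Commute.inv_left_iff.mp hcomm)
  have hxr₁ : Commute (x ^ k.natAbs) r₀ := by
    rw [← hx, ← pow_mul, mul_comm, pow_mul]
    exact hcomm'.pow_left u
  have hco : Nat.Coprime k.natAbs (orderOf x) := by
    have h3 : Nat.Coprime k.natAbs (p ^ a) :=
      Nat.Coprime.pow_right a ((Nat.Prime.coprime_iff_not_dvd hp).mpr hnd').symm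
    exact Nat.Coprime.coprime_dvd_right (orderOf_dvd_of_pow_eq_one hxo) h3
  obtain ⟨m, hm⟩ := exists_pow_eq_self_of_coprime hco
  have hxr : Commute x r₀ := by
    rw [← hm]
    exact hxr₁.pow_left m
  have hxh : Commute x h := by
    rw [← hx]
    exact Commute.pow_self h u
  apply hg
  have hxg : Commute x g := by
    rw [h2]
    exact ((hxh.zpow_right wg).mul_right hxr).mul_right (hxh.zpow_right (-wg))
  exact hxg.eq

end Grp

section Twist

variable {G : Type u} [Group G]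

/-- the twisted element: if `s` is invariant under conjugation by `h`, has local-integer
coefficients, and coefficients in the local ideal on `C_G(x)` (`x` the `p`-part of `h`), then `s`
is congruent to an eigenvector of conjugation by `h` with eigenvalue `≠ 1`. -/
theorem exists_twist {p : ℕ} {M : Ideal AlgInt} (hM : IsPModular p M) [hMp : M.IsPrime]
    (h x : G) (u a : ℕ) (hx : h ^ u = x) (hxo : x ^ (p ^ a) = 1) (s : G → ℂ)
    (hsh : ∀ g, s (h⁻¹ * g * h) = s g) (hsR : ∀ g, MemLocalRing M (s g))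
    (hsC : ∀ g, x * g = g * x → MemLocalIdeal M (s g)) :
    ∃ (S : G → ℂ) (c : ℂ), c ≠ 1 ∧ (∀ g, S (h⁻¹ * g * h) = c * S g) ∧
      ∀ g, MemLocalIdeal M (s g - S g) := by
  classical
  have hp := hM.1
  obtain ⟨ε, hε⟩ : ∃ ε : ℂ, IsPrimitiveRoot ε p :=
    ⟨_, Complex.isPrimitiveRoot_exp p hp.ne_zero⟩
  have hεp : ε ^ p = 1 := hε.pow_eq_one
  have hε1 : ε ≠ 1 := hε.ne_one hp.one_lt
  have hε0 : ε ≠ 0 := hε.ne_zero hp.ne_zero
  obtain ⟨w, hw⟩ := exists_weight hp h x u a hx hxo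
  have hxh : Commute x h := by
    rw [← hx]
    exact Commute.pow_self h u
  have hconj : ∀ g, (x * (h⁻¹ * g * h) = (h⁻¹ * g * h) * x) ↔ (x * g = g * x) := by
    intro g
    have e1 : x * h⁻¹ = h⁻¹ * x := (hxh.inv_right).eq
    have e2 : x * h = h * x := hxh.eq
    constructor
    · intro h1
      calc x * g = h * (x * (h⁻¹ * g * h)) * h⁻¹ := by
            rw [← mul_assoc x, ← mul_assoc x, e1]
            group
        _ = h * ((h⁻¹ * g * h) * x) * h⁻¹ := by rw [h1]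
        _ = g * x := by
            have e3 : h * (h⁻¹ * g * h * x) * h⁻¹ = g * (h * x * h⁻¹) := by group
            rw [e3, ← e2]
            group
    · intro h1
      calc x * (h⁻¹ * g * h) = h⁻¹ * (x * g) * h := by
            rw [← mul_assoc x, ← mul_assoc x, e1]
            group
        _ = h⁻¹ * (g * x) * h := by rw [h1]
        _ = h⁻¹ * g * h * x := by
            have e3 : h⁻¹ * (g * x) * h = h⁻¹ * g * (x * h) := by group
            rw [e3, e2]
            group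
  refine ⟨fun g => if x * g = g * x then 0 else ε ^ (w g) * s g, ε⁻¹, ?_, ?_, ?_⟩
  · intro h1
    exact hε1 (inv_eq_one.mp h1)
  · intro g
    by_cases hg : x * g = g * x
    · simp only [if_pos hg, if_pos ((hconj g).mpr hg), mul_zero]
    · have hg' : ¬ (x * (h⁻¹ * g * h) = (h⁻¹ * g * h) * x) := fun h1 => hg ((hconj g).mp h1)
      simp only [if_neg hg, if_neg hg']
      obtain ⟨t, ht⟩ := hw (h⁻¹ * g * h) hg'
      have e : h * (h⁻¹ * g * h) * h⁻¹ = g := by group
      rw [e] at ht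
      have e2 : w g = w (h⁻¹ * g * h) + 1 + (p : ℤ) * t := by linarith
      rw [hsh g, e2, zpow_add₀ hε0, zpow_add₀ hε0, zpow_one, zpow_mul, zpow_natCast, hεp,
        one_zpow, mul_one]
      field_simp
  · intro g
    by_cases hg : x * g = g * x
    · simp only [if_pos hg, sub_zero]
      exact hsC g hg
    · simp only [if_neg hg]
      have h1 : (ε ^ (w g)) ^ (p ^ 1) = 1 := by
        rw [pow_one, ← zpow_natCast, ← zpow_mul, mul_comm, zpow_mul, zpow_natCast, hεp, one_zpow]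
      have h2 := memLocalIdeal_neg (ppow_root_sub_one_mem hM h1)
      have e : s g - ε ^ (w g) * s g = s g * -(ε ^ (w g) - 1) := by ring
      rw [e]
      exact memLocalIdeal_mul_left (hsR g) h2

end Twist

end Cfsg.Agent.Helper5
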