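import Mathlib
import Cfsg.Agent.Helper5.BlkRoot
import Cfsg.Agent.Helper5.BlkHt

/-!
helper5: centres of defect groups under block induction (S0930).
-/

set_option autoImplicit false

namespace Cfsg.Agent.Helper5

open Cfsg Cfsg.Agent.Helper24 Cfsg.Agent.Helper22

universe u

section Grp

variable {G : Type u} [Group G]

/-- a `p`-part of an element of a subgroup lies in the subgroup, and is a `p`-part there. -/
theorem isPPart_subgroup {p : ℕ} (hp : p.Prime) (H : Subgroup G) (h : H) (z : G)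
    (hz : IsPPart p (h : G) z) : ∃ hzH : z ∈ H, IsPPart p h (⟨z, hzH⟩ : H) := by
  obtain ⟨j, hj⟩ := ppart_eq_pow hp hz
  obtain ⟨y, hxy, hc, ⟨k, hk⟩, hy⟩ := hz
  have hzH : z ∈ H := by
    rw [← hj]
    exact pow_mem h.2 j
  have hyH : y ∈ H := by
    have e : y = z⁻¹ * (h : G) := by rw [← hxy]; group
    rw [e]
    exact mul_mem (inv_mem hzH) h.2
  refine ⟨hzH, ⟨y, hyH⟩, Subtype.ext hxy, Subtype.ext hc.eq, ⟨k, ?_⟩, ?_⟩
  · rw [← hk]
    exact (Subgroup.orderOf_mk z hzH)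
  · rw [Subgroup.orderOf_mk y hyH]
    exact hy

theorem orderOf_conj_h5 (t x : G) : orderOf (t * x * t⁻¹) = orderOf x :=
  orderOf_injective (MulAut.conj t).toMonoidHom (MulAut.conj t).injective x

end Grp

section Blocks

variable {G : Type u} [Group G] [Fintype G]

/-- S0930, for `b = blockOf M ξ₀`, `B = blockOf M χ₀`. -/
theorem center_defect_conj {p : ℕ} [Fact p.Prime] {M : Ideal AlgInt} (hM : IsPModular p M)
    [hMp : M.IsPrime] (H : Subgroup G) [Fintype H] (ξ₀ : IrrCharacter H) (χ₀ : IrrCharacter G)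
    (hind : IsInducedBlock M H (blockOf M (ξ₀ : H → ℂ)) (blockOf M (χ₀ : G → ℂ)))
    (D : Subgroup H) (hD : IsDefectGroup p M (blockOf M (ξ₀ : H → ℂ)) D)
    (P : Subgroup G) (hP : IsDefectGroup p M (blockOf M (χ₀ : G → ℂ)) P) (x : G) (hx : x ∈ P)
    (hxc : ∀ w ∈ P, x * w = w * x) :
    ∃ g : G, g * x * g⁻¹ ∈ D.map H.subtype ∧
      ∀ w ∈ D.map H.subtype, (g * x * g⁻¹) * w = w * (g * x * g⁻¹) := by
  classical
  have hp := hM.1
  have hχ₀ : χ₀ ∈ blockOf M (χ₀ : G → ℂ) := sameBlock_refl _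
  have hξ₀ : ξ₀ ∈ blockOf M (ξ₀ : H → ℂ) := sameBlock_refl _
  obtain ⟨y, hy, Q, hPQ⟩ := id hP
  have hx0 := hx
  rw [hPQ] at hx0
  obtain ⟨x', hx'Q, hx'⟩ := hx0
  have hx'' : (x' : G) = x := hx'
  have hxc' : ∀ w ∈ (Q : Subgroup (Subgroup.centralizer ({y} : Set G))), x' * w = w * x' := by
    intro w hw
    apply Subtype.ext
    have hwP : (w : G) ∈ P := by
      rw [hPQ]
      exact ⟨w, hw, rfl⟩
    have := hxc (w : G) hwP
    rw [← hx''] at this
    exact this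
  have hunit := (defect_class_units hM χ₀ y hy Q x' hx'Q).2 hxc' χ₀ hχ₀
  rw [hx''] at hunit
  have hxy : x * y = y * x := by
    rw [← hx'']
    exact Subgroup.mem_centralizer_singleton_iff.mp x'.2
  have hindu : ¬ MemLocalIdeal M (inducedCentralChar H (ξ₀ : H → ℂ) (x * y)) := by
    intro hmem
    apply hunit
    have h1 := memLocalIdeal_sub hmem (hind.2.2 ξ₀ hξ₀ χ₀ hχ₀ (x * y))
    rwa [sub_sub_cancel] at h1
  obtain ⟨h, hconj, hω⟩ := exists_of_induced_notMem H ξ₀ (x * y) hindu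
  obtain ⟨h', hconj', -, hpp⟩ := conj_centralizes_defect hM ξ₀ D hD h hω
  have hconjG : IsConj (h : G) (h' : G) := by
    obtain ⟨c, hc⟩ := isConj_iff.mp hconj'
    refine isConj_iff.mpr ⟨(c : G), ?_⟩
    rw [← hc]
    simp
  obtain ⟨t, ht⟩ := isConj_iff.mp (hconj.trans hconjG)
  obtain ⟨k, hk⟩ : ∃ k : ℕ, orderOf x = p ^ k := by
    have hPp : IsPGroup p P := by
      rw [hPQ]
      exact Q.2.map _
    obtain ⟨k, hk⟩ := (IsPGroup.iff_orderOf.mp hPp) ⟨x, hx⟩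
    exact ⟨k, by rw [← hk]; exact (Subgroup.orderOf_mk x hx).symm⟩
  have hyreg : ¬ p ∣ orderOf y := pRegular_of_blockCoeff hM χ₀ y hy.2.1
  have hz : IsPPart p (h' : G) (t * x * t⁻¹) := by
    refine ⟨t * y * t⁻¹, ?_, ?_, ⟨k, ?_⟩, ?_⟩
    · rw [← ht]
      group
    · show t * x * t⁻¹ * (t * y * t⁻¹) = t * y * t⁻¹ * (t * x * t⁻¹)
      calc t * x * t⁻¹ * (t * y * t⁻¹) = t * (x * y) * t⁻¹ := by group
        _ = t * (y * x) * t⁻¹ := by rw [hxy]
        _ = t * y * t⁻¹ * (t * x * t⁻¹) := by group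
    · rw [orderOf_conj_h5, hk]
    · rw [orderOf_conj_h5]
      exact hyreg
  obtain ⟨hzH, hz'⟩ := isPPart_subgroup hp H h' _ hz
  obtain ⟨hzD, hzc⟩ := hpp _ hz'
  refine ⟨t, ⟨⟨t * x * t⁻¹, hzH⟩, hzD, rfl⟩, ?_⟩
  rintro _ ⟨w, hw, rfl⟩
  exact congrArg Subtype.val (hzc w hw)

end Blocks

end Cfsg.Agent.Helper5
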