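import Mathlib
import Cfsg.Agent.Helper5.BlkTwist

/-!
helper5: the key lemma for Brauer's Second Main Theorem (S0922): if `b^G = B`, `h ∈ H` with
`C_G(h_p) ≤ H` and `χ ∉ B`, then `χ (f_b h) = 0`.
-/

set_option autoImplicit false

namespace Cfsg.Agent.Helper5

open Cfsg Cfsg.Agent.Helper24 Cfsg.Agent.Helper22

universe u

section Blocks

variable {G : Type u} [Group G] [Fintype G]

/-- the induced central character summed against a class function over class representatives. -/
theorem sum_reps_induced (H : Subgroup G) [Fintype H] (θ : H → ℂ) (Φ : G → ℂ)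
    (hΦ : IsClassFunction G Φ) (ι : Finset G)
    (hι : ∀ Φ : G → ℂ, IsClassFunction G Φ →
      ∑ g : G, Φ g / ((Subgroup.centralizer ({g} : Set G)).index : ℂ) = ∑ r ∈ ι, Φ r) :
    ∑ r ∈ ι, Φ r * inducedCentralChar H θ r = (θ 1)⁻¹ * ∑ k : H, Φ k * θ k := by
  classical
  have h1 : ∀ r ∈ ι, Φ r * inducedCentralChar H θ r
      = (θ 1)⁻¹ * ∑ k : H, (if IsConj r (k : G) then Φ r else 0) * θ k := by
    intro r _
    have e := inducedCentralChar_eq H θ r
    rw [e]
    have e2 : Φ r * ((θ 1)⁻¹ * ∑ k : H, (if IsConj r (k : G) then (1 : ℂ) else 0) * θ k)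
        = (θ 1)⁻¹ * ∑ k : H, Φ r * ((if IsConj r (k : G) then (1 : ℂ) else 0) * θ k) := by
      rw [Finset.mul_sum, Finset.mul_sum, Finset.mul_sum]
      refine Finset.sum_congr rfl fun k _ => ?_
      ring
    rw [e2]
    congr 1
    refine Finset.sum_congr rfl fun k _ => ?_
    by_cases hc : IsConj r (k : G)
    · rw [if_pos hc, if_pos hc, one_mul]
    · rw [if_neg hc, if_neg hc, zero_mul, mul_zero]
  rw [Finset.sum_congr rfl h1, ← Finset.mul_sum, Finset.sum_comm]
  congr 1
  refine Finset.sum_congr rfl fun k _ => ?_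
  rw [← Finset.sum_mul]
  congr 1
  exact sum_reps_isConj ι hι Φ hΦ (k : G)

/-- a class function in the radical (all central character values in the local ideal) which is
idempotent after applying the Brauer map of a `p`-subgroup `P` has its values on `C_G(P)` in the
local ideal. -/
theorem radical_brauer_vanish {p : ℕ} {M : Ideal AlgInt} (hM : IsPModular p M) [hMp : M.IsPrime]
    (P : Subgroup G) (hP : IsPGroup p P) (w : G → ℂ) (hw : IsClassFunction G w)
    (hwR : ∀ g, MemLocalRing M (w g))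
    (hrad : ∀ ξ : IrrCharacter G,
      MemLocalIdeal M (((ξ : G → ℂ) 1)⁻¹ * ∑ k : G, w k * (ξ : G → ℂ) k))
    [DecidablePred fun k : G => k ∈ Subgroup.centralizer (P : Set G)]
    (hidem : ∀ g : G, g ∈ Subgroup.centralizer (P : Set G) → MemLocalIdeal M
      (w g - ∑ k : G, if k ∈ Subgroup.centralizer (P : Set G) then w k * w (k⁻¹ * g) else 0))
    (g : G) (hg : g ∈ Subgroup.centralizer (P : Set G)) : MemLocalIdeal M (w g) := by
  classical
  have : Fintype (Subgroup.centralizer (P : Set G)) := Fintype.ofFinite _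
  have hcl : IsClassFunction (Subgroup.centralizer (P : Set G))
      (fun c : Subgroup.centralizer (P : Set G) => w (c : G)) := by
    intro c t
    show w ((t * c * t⁻¹ : Subgroup.centralizer (P : Set G)) : G) = w (c : G)
    have := hw (c : G) (t : G)
    simpa using this
  have hid : ∀ c : Subgroup.centralizer (P : Set G), MemLocalIdeal M
      ((fun c : Subgroup.centralizer (P : Set G) => w (c : G)) c
        - ∑ y : Subgroup.centralizer (P : Set G),
          (fun c : Subgroup.centralizer (P : Set G) => w (c : G)) y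
            * (fun c : Subgroup.centralizer (P : Set G) => w (c : G)) (y⁻¹ * c)) := by
    intro c
    have h1 := hidem (c : G) c.2
    have h2 := sum_eq_sum_subgroup (Subgroup.centralizer (P : Set G))
      (fun k : G => if k ∈ Subgroup.centralizer (P : Set G) then w k * w (k⁻¹ * (c : G)) else 0)
      (fun k hk => if_neg hk)
    rw [h2] at h1
    have h3 : ∑ y : Subgroup.centralizer (P : Set G),
        (if (y : G) ∈ Subgroup.centralizer (P : Set G) then w (y : G) * w ((y : G)⁻¹ * (c : G))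
          else 0)
        = ∑ y : Subgroup.centralizer (P : Set G), w (y : G)
          * w ((y⁻¹ * c : Subgroup.centralizer (P : Set G)) : G) := by
      refine Finset.sum_congr rfl fun y _ => ?_
      rw [if_pos y.2]
      rfl
    rw [h3] at h1
    exact h1
  have hd : ∀ ζ : IrrCharacter (Subgroup.centralizer (P : Set G)), MemLocalIdeal M
      (((ζ : Subgroup.centralizer (P : Set G) → ℂ) 1)⁻¹
        * ∑ c : Subgroup.centralizer (P : Set G),
          (fun c : Subgroup.centralizer (P : Set G) => w (c : G)) c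
            * (ζ : Subgroup.centralizer (P : Set G) → ℂ) c) := by
    intro ζ
    obtain ⟨ξ₁, hξ₁⟩ := exists_brauer_block hM P (Subgroup.centralizer (P : Set G)) hP le_rfl
      (Subgroup.centralizer_le_normalizer (P : Set G)) ζ
    obtain ⟨ι, hι⟩ := exists_class_reps G
    have e1 := sum_reps_brauer P (Subgroup.centralizer (P : Set G))
      (ζ : Subgroup.centralizer (P : Set G) → ℂ) w hw ι hι
    have e2 : ∑ k : Subgroup.centralizer (P : Set G),
        (if (k : G) ∈ Subgroup.centralizer (P : Set G) then w k else 0)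
          * (ζ : Subgroup.centralizer (P : Set G) → ℂ) k
        = ∑ k : Subgroup.centralizer (P : Set G), w k
          * (ζ : Subgroup.centralizer (P : Set G) → ℂ) k := by
      refine Finset.sum_congr rfl fun k _ => ?_
      rw [if_pos k.2]
    rw [e2] at e1
    have e3 := classFun_value hw ι hι ξ₁
    show MemLocalIdeal M (((ζ : Subgroup.centralizer (P : Set G) → ℂ) 1)⁻¹
        * ∑ c : Subgroup.centralizer (P : Set G), w (c : G)
            * (ζ : Subgroup.centralizer (P : Set G) → ℂ) c)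
    rw [← e1]
    have e4 : ∑ r ∈ ι, w r * brauerCentralChar P (Subgroup.centralizer (P : Set G))
        (ζ : Subgroup.centralizer (P : Set G) → ℂ) r
        = ∑ r ∈ ι, w r * centralChar (ξ₁ : G → ℂ) r
          + ∑ r ∈ ι, w r * (brauerCentralChar P (Subgroup.centralizer (P : Set G))
            (ζ : Subgroup.centralizer (P : Set G) → ℂ) r - centralChar (ξ₁ : G → ℂ) r) := by
      rw [← Finset.sum_add_distrib]
      refine Finset.sum_congr rfl fun r _ => ?_
      ring
    rw [e4, ← e3]
    exact memLocalIdeal_add hMp (hrad ξ₁)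
      (memLocalIdeal_sum _ _ fun r _ => memLocalIdeal_mul_left (hwR r) (hξ₁ r))
  exact classFun_mem_of_idem (fun c : Subgroup.centralizer (P : Set G) => w (c : G)) hcl
    (fun c => hwR _) hid hd ⟨g, hg⟩

/-- convolution of functions invariant under conjugation by `t` is invariant. -/
theorem conv_conj (a b : G → ℂ) (t : G) (ha : ∀ g, a (t⁻¹ * g * t) = a g)
    (hb : ∀ g, b (t⁻¹ * g * t) = b g) (g : G) : conv a b (t⁻¹ * g * t) = conv a b g := by
  rw [conv_apply, conv_apply]
  symm
  refine Fintype.sum_equiv (MulAut.conj t⁻¹).toEquiv _ _ (fun k => ?_)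
  show a k * b (k⁻¹ * g) = a (t⁻¹ * k * t⁻¹⁻¹) * b ((t⁻¹ * k * t⁻¹⁻¹)⁻¹ * (t⁻¹ * g * t))
  have e1 : t⁻¹ * k * t⁻¹⁻¹ = t⁻¹ * k * t := by group
  have e2 : (t⁻¹ * k * t)⁻¹ * (t⁻¹ * g * t) = t⁻¹ * (k⁻¹ * g) * t := by group
  rw [e1, e2, ha, hb]

/-- S0922, for `b = blockOf M ξ₀`, `B = blockOf M χ₀`. -/
theorem second_main_key {p : ℕ} [Fact p.Prime] {M : Ideal AlgInt} (hM : IsPModular p M)
    [hMp : M.IsPrime] (H : Subgroup G) [Fintype H] (ξ₀ : IrrCharacter H) (χ₀ : IrrCharacter G)
    (hind : IsInducedBlock M H (blockOf M (ξ₀ : H → ℂ)) (blockOf M (χ₀ : G → ℂ))) (h : H)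
    (hC : ∀ z : G, IsPPart p (h : G) z → Subgroup.centralizer ({z} : Set G) ≤ H)
    (χ : IrrCharacter G) (hχ : χ ∉ blockOf M (χ₀ : G → ℂ)) :
    ∑ k : H, blockCoeff (blockOf M (ξ₀ : H → ℂ)) k * (χ : G → ℂ) ((k : G) * (h : G)) = 0 := by
  classical
  have hp := hM.1
  obtain ⟨x, hxp⟩ := exists_isPPart hp (h : G)
  have hCx := hC x hxp
  obtain ⟨u, hu⟩ := ppart_eq_pow hp hxp
  obtain ⟨a, ha⟩ : ∃ a : ℕ, orderOf x = p ^ a := by
    obtain ⟨y, -, -, hk, -⟩ := hxp
    exact hk
  have hxo : x ^ (p ^ a) = 1 := by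
    rw [← ha]
    exact pow_orderOf_eq_one x
  have hxH : x ∈ H := by
    rw [← hu]
    exact pow_mem h.2 u
  obtain ⟨cb, hcb, hcbv⟩ := osima (M := M) ξ₀
  obtain ⟨cB, hcB, hcBv⟩ := osima (M := M) χ₀
  have hβb : ∀ k : H, blockCoeff (blockOf M (ξ₀ : H → ℂ)) k = specFun cb k :=
    blockCoeff_eq_specFun _ cb (fun ψ hψ => (hcbv ψ).1 hψ) (fun ψ hψ => (hcbv ψ).2 hψ)
  have hcbcb : cb * cb = cb := by
    funext ψ
    by_cases hψ : SameBlock M (ξ₀ : H → ℂ) (ψ : H → ℂ)
    · show cb ψ * cb ψ = cb ψ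
      rw [(hcbv ψ).1 hψ, mul_one]
    · show cb ψ * cb ψ = cb ψ
      rw [(hcbv ψ).2 hψ, mul_zero]
  have hcBcB : cB * cB = cB := by
    funext ψ
    by_cases hψ : SameBlock M (χ₀ : G → ℂ) (ψ : G → ℂ)
    · show cB ψ * cB ψ = cB ψ
      rw [(hcBv ψ).1 hψ, mul_one]
    · show cB ψ * cB ψ = cB ψ
      rw [(hcBv ψ).2 hψ, mul_zero]
  obtain ⟨f, hf⟩ : ∃ f : G → ℂ, f = extendByZero H (specFun cb) := ⟨_, rfl⟩
  obtain ⟨e, he⟩ : ∃ e : G → ℂ, e = specFun cB := ⟨_, rfl⟩
  obtain ⟨s, hs⟩ : ∃ s : G → ℂ, s = f - conv f e := ⟨_, rfl⟩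
  have hfmem : ∀ g (hg : g ∈ H), f g = specFun cb ⟨g, hg⟩ := fun g hg => by
    rw [hf]
    exact extendByZero_apply_mem H _ hg
  have hfnot : ∀ g, g ∉ H → f g = 0 := fun g hg => by
    rw [hf]
    exact extendByZero_apply_not_mem H _ hg
  have he_class : IsClassFunction G e := by
    rw [he]
    exact specFun_isClassFunction cB
  have heR : ∀ g, MemLocalRing M (e g) := fun g => by
    rw [he]
    exact hcB g
  have hfR : ∀ g, MemLocalRing M (f g) := by
    intro g
    by_cases hg : g ∈ H
    · rw [hfmem g hg]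
      exact hcb _
    · rw [hfnot g hg]
      exact (locRing M).zero_mem
  have hee : conv e e = e := by
    funext g
    rw [he]
    have h1 := specFun_mul cB cB g
    rw [hcBcB] at h1
    exact h1.symm
  have hff : conv f f = f := by
    funext g
    rw [conv_apply]
    have h1 : ∑ k : G, f k * f (k⁻¹ * g) = ∑ k : H, specFun cb k * f ((k : G)⁻¹ * g) := by
      rw [hf]
      exact sum_extendByZero_mul H (specFun cb) (fun k => extendByZero H (specFun cb) (k⁻¹ * g))
    rw [h1]
    by_cases hg : g ∈ H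
    · rw [hfmem g hg]
      have h2 := specFun_mul cb cb ⟨g, hg⟩
      rw [hcbcb] at h2
      rw [h2]
      refine Finset.sum_congr rfl fun k _ => ?_
      rw [hfmem ((k : G)⁻¹ * g) (H.mul_mem (H.inv_mem k.2) hg)]
      rfl
    · rw [hfnot g hg]
      refine Finset.sum_eq_zero fun k _ => ?_
      have hkg : (k : G)⁻¹ * g ∉ H := by
        intro hmem
        apply hg
        have := H.mul_mem k.2 hmem
        rwa [mul_inv_cancel_left] at this
      rw [hfnot _ hkg, mul_zero]
  have hfe : conv e f = conv f e := conv_comm_of_class f e he_class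
  have hss : conv s s = s := by
    have h1 : conv f (conv f e) = conv f e := by rw [← conv_assoc, hff]
    have h2 : conv (conv f e) f = conv f e := by rw [conv_assoc, hfe, h1]
    have h3 : conv (conv f e) (conv f e) = conv f e := by
      rw [conv_assoc, ← conv_assoc e f e, hfe, conv_assoc f e e, hee, h1]
    rw [hs, conv_sub_left, conv_sub_right, conv_sub_right, hff, h1, h2, h3, sub_self, sub_zero]
  -- invariance under conjugation by `H`
  have hfinv : ∀ t ∈ H, ∀ g, f (t⁻¹ * g * t) = f g := by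
    intro t ht g
    by_cases hg : g ∈ H
    · have hg' : t⁻¹ * g * t ∈ H := H.mul_mem (H.mul_mem (H.inv_mem ht) hg) ht
      rw [hfmem g hg, hfmem _ hg']
      have h1 := specFun_isClassFunction cb (⟨g, hg⟩ : H) (⟨t, ht⟩⁻¹ : H)
      rw [← h1]
      congr 1
      apply Subtype.ext
      simp
    · have hg' : t⁻¹ * g * t ∉ H := by
        intro hmem
        apply hg
        have h1 := H.mul_mem (H.mul_mem ht hmem) (H.inv_mem ht)
        have e1 : t * (t⁻¹ * g * t) * t⁻¹ = g := by group
        rwa [e1] at h1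
      rw [hfnot g hg, hfnot _ hg']
  have heinv : ∀ t : G, ∀ g, e (t⁻¹ * g * t) = e g := by
    intro t g
    have h1 := he_class g t⁻¹
    rwa [inv_inv] at h1
  have hsinv : ∀ t ∈ H, ∀ g, s (t⁻¹ * g * t) = s g := by
    intro t ht g
    rw [hs]
    show f (t⁻¹ * g * t) - conv f e (t⁻¹ * g * t) = f g - conv f e g
    rw [hfinv t ht g, conv_conj f e t (hfinv t ht) (heinv t) g]
  have hsR : ∀ g, MemLocalRing M (s g) := by
    intro g
    rw [hs]
    refine (locRing M).sub_mem (hfR g) ?_
    exact (locRing M).sum_mem fun k _ => (locRing M).mul_mem (hfR k) (heR _)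
  -- the restriction of `s` to `H`
  obtain ⟨w, hwdef⟩ : ∃ w : H → ℂ, w = fun k : H => s (k : G) := ⟨_, rfl⟩
  have hwapp : ∀ k : H, w k = s (k : G) := fun k => by rw [hwdef]
  have hwcl : IsClassFunction H w := by
    intro k t
    rw [hwapp, hwapp]
    have h1 := hsinv ((t : G)⁻¹) (H.inv_mem t.2) (k : G)
    rw [inv_inv] at h1
    exact h1
  have hwR : ∀ k : H, MemLocalRing M (w k) := fun k => by
    rw [hwapp]
    exact hsR _
  obtain ⟨d, hddef⟩ : ∃ d : H → ℂ, d = fun k : H => e (k : G) := ⟨_, rfl⟩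
  have hdapp : ∀ k : H, d k = e (k : G) := fun k => by rw [hddef]
  have hdcl : IsClassFunction H d := by
    intro k t
    rw [hdapp, hdapp]
    exact he_class (k : G) (t : G)
  have hwval : ∀ k : H, w k = specFun cb k - ∑ j : H, specFun cb j * d (j⁻¹ * k) := by
    intro k
    rw [hwapp, hs]
    show f (k : G) - conv f e (k : G) = _
    rw [hfmem (k : G) k.2, conv_apply]
    congr 1
    rw [hf]
    rw [sum_extendByZero_mul H (specFun cb) (fun j => e (j⁻¹ * (k : G)))]
    refine Finset.sum_congr rfl fun j _ => ?_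
    rw [hdapp]
    rfl
  have hrad : ∀ ξ : IrrCharacter H,
      MemLocalIdeal M (((ξ : H → ℂ) 1)⁻¹ * ∑ k : H, w k * (ξ : H → ℂ) k) := by
    intro ξ
    have hξ1 := Cfsg.Agent.Helper5.irr_one_ne_zero ξ
    have e1 : ∑ k : H, w k * (ξ : H → ℂ) k
        = cb ξ * (ξ : H → ℂ) 1
          - (cb ξ * (ξ : H → ℂ) 1) * (((ξ : H → ℂ) 1)⁻¹ * ∑ y : H, d y * (ξ : H → ℂ) y) := by
      have h1 : ∑ k : H, w k * (ξ : H → ℂ) k
          = ∑ k : H, specFun cb k * (ξ : H → ℂ) k
            - ∑ k : H, (∑ j : H, specFun cb j * d (j⁻¹ * k)) * (ξ : H → ℂ) k := by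
        rw [← Finset.sum_sub_distrib]
        refine Finset.sum_congr rfl fun k _ => ?_
        rw [hwval k, sub_mul]
      rw [h1, conv_char_sum (specFun cb) d hdcl ξ, spec_inversion cb ξ]
    have e2 : ((ξ : H → ℂ) 1)⁻¹ * ∑ k : H, w k * (ξ : H → ℂ) k
        = cb ξ * (1 - ((ξ : H → ℂ) 1)⁻¹ * ∑ y : H, d y * (ξ : H → ℂ) y) := by
      rw [e1]
      field_simp
    rw [e2]
    by_cases hξ : SameBlock M (ξ₀ : H → ℂ) (ξ : H → ℂ)
    · rw [(hcbv ξ).1 hξ, one_mul]
      obtain ⟨ι, hι⟩ := exists_class_reps G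
      have h1 := sum_reps_induced H (ξ : H → ℂ) e he_class ι hι
      have h2 : ∑ k : H, e (k : G) * (ξ : H → ℂ) k = ∑ y : H, d y * (ξ : H → ℂ) y := by
        refine Finset.sum_congr rfl fun k _ => ?_
        rw [hdapp]
      rw [h2] at h1
      rw [← h1]
      have h3 := spec_value cB ι hι χ₀
      rw [(hcBv χ₀).1 (sameBlock_refl _)] at h3
      rw [h3, ← Finset.sum_sub_distrib]
      refine memLocalIdeal_sum _ _ fun r _ => ?_
      rw [← he, ← mul_sub]
      have h4 := memLocalIdeal_neg (hind.2.2 ξ hξ χ₀ (sameBlock_refl _) r)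
      rw [neg_sub] at h4
      exact memLocalIdeal_mul_left (heR r) h4
    · rw [(hcbv ξ).2 hξ, zero_mul]
      exact memLocalIdeal_zero hMp.ne_top
  -- the `p`-subgroup of `H` generated by `x`
  obtain ⟨P, hPdef⟩ : ∃ P : Subgroup H, P = Subgroup.zpowers (⟨x, hxH⟩ : H) := ⟨_, rfl⟩
  have hPp : IsPGroup p P := by
    apply IsPGroup.of_card (n := a)
    rw [hPdef, Nat.card_zpowers, ← ha]
    exact Subgroup.orderOf_mk x hxH
  have hmemC : ∀ k : H, k ∈ Subgroup.centralizer (P : Set H) ↔ x * (k : G) = (k : G) * x := by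
    intro k
    rw [Subgroup.mem_centralizer_iff]
    constructor
    · intro h1
      have h2 := h1 (⟨x, hxH⟩ : H) (by
        rw [hPdef]
        exact Subgroup.mem_zpowers _)
      exact congrArg Subtype.val h2
    · intro h1 t ht
      rw [hPdef, SetLike.mem_coe, Subgroup.mem_zpowers_iff] at ht
      obtain ⟨i, rfl⟩ := ht
      have h2 : Commute (⟨x, hxH⟩ : H) k := Subtype.ext h1
      exact (h2.zpow_left i).eq
  have hidem : ∀ g : H, g ∈ Subgroup.centralizer (P : Set H) → MemLocalIdeal M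
      (w g - ∑ k : H, if k ∈ Subgroup.centralizer (P : Set H) then w k * w (k⁻¹ * g) else 0) := by
    intro g hg
    have hgx : x * (g : G) = (g : G) * x := (hmemC g).mp hg
    have h1 : w g = ∑ k : G, s k * s (k⁻¹ * (g : G)) := by
      rw [hwapp]
      conv_lhs => rw [← hss]
      rfl
    have h2 : ∑ k : G, s k * s (k⁻¹ * (g : G))
        = ∑ k : G, (if x * k = k * x then s k * s (k⁻¹ * (g : G)) else 0)
          + ∑ k ∈ Finset.univ.filter (fun k : G => ¬ (x * k = k * x)),
              s k * s (k⁻¹ * (g : G)) := by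
      rw [← Finset.sum_filter, ← Finset.sum_filter_add_sum_filter_not Finset.univ
        (fun k : G => x * k = k * x)]
    have h3 : ∑ k : G, (if x * k = k * x then s k * s (k⁻¹ * (g : G)) else 0)
        = ∑ k : H, if k ∈ Subgroup.centralizer (P : Set H) then w k * w (k⁻¹ * g) else 0 := by
      rw [sum_eq_sum_subgroup H
        (fun k : G => if x * k = k * x then s k * s (k⁻¹ * (g : G)) else 0) (by
          intro k hk
          have hnc : ¬ (x * k = k * x) := by
            intro hc
            apply hk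
            apply hCx
            rw [Subgroup.mem_centralizer_singleton_iff]
            exact hc.symm
          exact if_neg hnc)]
      refine Finset.sum_congr rfl fun k _ => ?_
      by_cases hk : x * (k : G) = (k : G) * x
      · rw [if_pos hk, if_pos ((hmemC k).mpr hk), hwapp, hwapp]
        rfl
      · rw [if_neg hk, if_neg (fun hc => hk ((hmemC k).mp hc))]
    rw [h1, h2, h3, add_sub_cancel_left]
    -- the sum over non-fixed points
    have hQp : IsPGroup p (Subgroup.zpowers x) := by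
      apply IsPGroup.of_card (n := a)
      rw [Nat.card_zpowers, ha]
    have hxz : ∀ u ∈ Subgroup.zpowers x, Commute u x := by
      intro u hu
      rw [Subgroup.mem_zpowers_iff] at hu
      obtain ⟨i, rfl⟩ := hu
      exact (Commute.refl x).zpow_left i
    have huH : ∀ u ∈ Subgroup.zpowers x, u ∈ H := by
      intro u hu
      rw [Subgroup.mem_zpowers_iff] at hu
      obtain ⟨i, rfl⟩ := hu
      exact H.zpow_mem hxH i
    have hug : ∀ u ∈ Subgroup.zpowers x, Commute u (g : G) := by
      intro u hu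
      rw [Subgroup.mem_zpowers_iff] at hu
      obtain ⟨i, rfl⟩ := hu
      have h4 : Commute x (g : G) := hgx
      exact h4.zpow_left i
    refine sum_memLocalIdeal_of_no_fixed hM (Subgroup.zpowers x) hQp
      (Finset.univ.filter (fun k : G => ¬ (x * k = k * x))) ?_ ?_
      (fun k => s k * s (k⁻¹ * (g : G))) ?_ ?_
    · intro u hu k hk
      rw [Finset.mem_filter] at hk ⊢
      refine ⟨Finset.mem_univ _, fun hc => hk.2 ?_⟩
      have hux := hxz u hu
      have e1 : x * u = u * x := hux.eq.symm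
      have e2 : x * u⁻¹ = u⁻¹ * x := (hux.symm.inv_right).eq
      calc x * k = u⁻¹ * (x * (u * k * u⁻¹)) * u := by
            rw [← mul_assoc x, ← mul_assoc x, e1]
            group
        _ = u⁻¹ * ((u * k * u⁻¹) * x) * u := by rw [hc]
        _ = k * x := by
            have e3 : u⁻¹ * (u * k * u⁻¹ * x) * u = k * (u⁻¹ * x * u) := by group
            rw [e3, ← e2]
            group
    · intro k hk hall
      rw [Finset.mem_filter] at hk
      apply hk.2
      have h4 := hall x (Subgroup.mem_zpowers x)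
      calc x * k = (x * k * x⁻¹) * x := by group
        _ = k * x := by rw [h4]
    · intro u hu k _
      show s (u * k * u⁻¹) * s ((u * k * u⁻¹)⁻¹ * (g : G)) = s k * s (k⁻¹ * (g : G))
      have h4 := hsinv u⁻¹ (H.inv_mem (huH u hu))
      rw [inv_inv] at h4
      have e1 : (u * k * u⁻¹)⁻¹ * (g : G) = u * (k⁻¹ * (g : G)) * u⁻¹ := by
        have e2 : (g : G) = u * (g : G) * u⁻¹ := by
          rw [(hug u hu).eq]
          group
        conv_lhs => rw [e2]
        group
      rw [e1, h4, h4]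
    · intro k _
      exact (locRing M).mul_mem (hsR _) (hsR _)
  have hvan : ∀ g : H, g ∈ Subgroup.centralizer (P : Set H) → MemLocalIdeal M (w g) :=
    fun g hg => radical_brauer_vanish hM P hPp w hwcl hwR hrad hidem g hg
  have hsC : ∀ g : G, x * g = g * x → MemLocalIdeal M (s g) := by
    intro g hg
    have hgH : g ∈ H := by
      apply hCx
      rw [Subgroup.mem_centralizer_singleton_iff]
      exact hg.symm
    have h1 := hvan ⟨g, hgH⟩ ((hmemC ⟨g, hgH⟩).mpr hg)
    rwa [hwapp] at h1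
  obtain ⟨S, c, hc, hSh, hZ⟩ := exists_twist hM (h : G) x u a hu hxo s
    (hsinv (h : G) h.2) hsR hsC
  obtain ⟨n, ρ, hρ, hρχ⟩ := χ.2
  have hmain := twisted_trace_vanish (M := M) ρ s S (h : G) c hc hss (hsinv (h : G) h.2) hSh hsR hZ
  rw [hρχ] at hmain
  -- conclusion
  have hχB : cB χ = 0 := (hcBv χ).2 hχ
  have e1 : ∑ k : H, blockCoeff (blockOf M (ξ₀ : H → ℂ)) k * (χ : G → ℂ) ((k : G) * (h : G))
      = ∑ g : G, f g * (χ : G → ℂ) (g * (h : G)) := by
    rw [hf, sum_extendByZero_mul H (specFun cb) (fun g => (χ : G → ℂ) (g * (h : G)))]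
    refine Finset.sum_congr rfl fun k _ => ?_
    rw [hβb]
  have e2 : ∀ g, f g = s g + conv f e g := by
    intro g
    rw [hs]
    show f g = f g - conv f e g + conv f e g
    ring
  have e3 : ∑ g : G, s g * (χ : G → ℂ) (g * (h : G)) = 0 := by
    rw [← hmain]
    refine Finset.sum_congr rfl fun g _ => ?_
    have h1 := irr_conj χ (g * (h : G)) (h : G)
    have e4 : (h : G) * (g * (h : G)) * (h : G)⁻¹ = (h : G) * g := by group
    rw [e4] at h1
    rw [h1]
  have e5 : ∑ g : G, conv f e g * (χ : G → ℂ) (g * (h : G)) = 0 := by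
    obtain ⟨a', ha'⟩ : ∃ a' : G → ℂ, a' = fun g => f (g * (h : G)⁻¹) := ⟨_, rfl⟩
    have h1 : ∀ g, conv f e g = conv a' e (g * (h : G)) := by
      intro g
      rw [conv_apply, conv_apply]
      refine Fintype.sum_equiv (Equiv.mulRight (h : G)) _ _ (fun k => ?_)
      show f k * e (k⁻¹ * g) = a' (k * (h : G)) * e ((k * (h : G))⁻¹ * (g * (h : G)))
      have e6 : (k * (h : G))⁻¹ * (g * (h : G)) = (h : G)⁻¹ * (k⁻¹ * g) * (h : G) := by group
      rw [e6, heinv (h : G), ha']
      show f k * e (k⁻¹ * g) = f (k * (h : G) * (h : G)⁻¹) * e (k⁻¹ * g)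
      rw [mul_inv_cancel_right]
    have h2 : ∑ g : G, conv f e g * (χ : G → ℂ) (g * (h : G))
        = ∑ g : G, conv a' e g * (χ : G → ℂ) g := by
      refine Fintype.sum_equiv (Equiv.mulRight (h : G)) _ _ (fun g => ?_)
      show conv f e g * (χ : G → ℂ) (g * (h : G)) = conv a' e (g * (h : G)) * _
      rw [h1 g]
      rfl
    rw [h2]
    have h3 := conv_char_sum a' e he_class χ
    have h4 : ∑ g : G, conv a' e g * (χ : G → ℂ) g
        = ∑ g : G, (∑ x : G, a' x * e (x⁻¹ * g)) * (χ : G → ℂ) g := rfl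
    rw [h4, h3]
    have h5 := spec_inversion cB χ
    rw [hχB, zero_mul, ← he] at h5
    rw [h5, mul_zero, mul_zero]
  rw [e1]
  have e7 : ∑ g : G, f g * (χ : G → ℂ) (g * (h : G))
      = ∑ g : G, s g * (χ : G → ℂ) (g * (h : G))
        + ∑ g : G, conv f e g * (χ : G → ℂ) (g * (h : G)) := by
    rw [← Finset.sum_add_distrib]
    refine Finset.sum_congr rfl fun g _ => ?_
    rw [e2 g, add_mul]
  rw [e7, e3, e5, add_zero]

end Blocks

end Cfsg.Agent.Helper5
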