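import Mathlib
import Cfsg.Agent.Helper5.BlkSMT
import Cfsg.Agent.Helper22.BlkCover

/-!
helper5: Brauer's Second Main Theorem in character form (S0923) and the vanishing corollary
(S0924).
-/

set_option autoImplicit false

namespace Cfsg.Agent.Helper5

open Cfsg Cfsg.Agent.Helper24 Cfsg.Agent.Helper22

universe u

section Blocks

variable {G : Type u} [Group G] [Fintype G]

theorem class_sum_shift (F : G → ℂ) (hF : IsClassFunction G F) (ψ : IrrCharacter G) (a : G) :
    ∑ h : G, F h * (ψ : G → ℂ) (a * h)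
      = (ψ : G → ℂ) a * (((ψ : G → ℂ) 1)⁻¹ * ∑ y : G, F y * (ψ : G → ℂ) y) := by
  classical
  have h1 := conv_char_sum (fun x : G => if x = a then (1 : ℂ) else 0) F hF ψ
  have e1 : ∀ h : G, (∑ x : G, (if x = a then (1 : ℂ) else 0) * F (x⁻¹ * h)) = F (a⁻¹ * h) := by
    intro h
    rw [Finset.sum_eq_single a]
    · rw [if_pos rfl, one_mul]
    · intro b _ hb
      rw [if_neg hb, zero_mul]
    · intro hn; exact absurd (Finset.mem_univ _) hn
  have e2 : ∑ x : G, (if x = a then (1 : ℂ) else 0) * (ψ : G → ℂ) x = (ψ : G → ℂ) a := by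
    rw [Finset.sum_eq_single a]
    · rw [if_pos rfl, one_mul]
    · intro b _ hb
      rw [if_neg hb, zero_mul]
    · intro hn; exact absurd (Finset.mem_univ _) hn
  rw [e2] at h1
  rw [← h1]
  refine Fintype.sum_equiv (Equiv.mulLeft a) _ _ (fun h => ?_)
  show F h * (ψ : G → ℂ) (a * h)
    = (∑ x : G, (if x = a then (1 : ℂ) else 0) * F (x⁻¹ * (a * h))) * (ψ : G → ℂ) (a * h)
  rw [e1, inv_mul_cancel_left]

theorem class_inner_shift (ϑ : G → ℂ) (hϑ : IsClassFunction G ϑ) (ψ : IrrCharacter G) (y : G) :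
    (ψ : G → ℂ) 1 * ∑ c : G, ϑ c * starRingEnd ℂ ((ψ : G → ℂ) (c * y⁻¹))
      = (ψ : G → ℂ) y * ∑ c : G, ϑ c * starRingEnd ℂ ((ψ : G → ℂ) c) := by
  classical
  have h10 := Cfsg.Agent.Helper5.irr_one_ne_zero ψ
  have hF : IsClassFunction G (fun c : G => ϑ c⁻¹) := by
    intro g h
    show ϑ (h * g * h⁻¹)⁻¹ = ϑ g⁻¹
    have e : (h * g * h⁻¹)⁻¹ = h * g⁻¹ * h⁻¹ := by group
    rw [e, hϑ]
  have h1 := class_sum_shift (fun c : G => ϑ c⁻¹) hF ψ y
  have e1 : ∑ c : G, ϑ c * starRingEnd ℂ ((ψ : G → ℂ) (c * y⁻¹))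
      = ∑ h : G, (fun c : G => ϑ c⁻¹) h * (ψ : G → ℂ) (y * h) := by
    refine Fintype.sum_equiv (Equiv.inv G) _ _ (fun c => ?_)
    show ϑ c * starRingEnd ℂ ((ψ : G → ℂ) (c * y⁻¹)) = ϑ (c⁻¹)⁻¹ * (ψ : G → ℂ) (y * c⁻¹)
    rw [inv_inv, ← irr_inv]
    have e : (c * y⁻¹)⁻¹ = y * c⁻¹ := by group
    rw [e]
  have e2 : ∑ c : G, ϑ c * starRingEnd ℂ ((ψ : G → ℂ) c)
      = ∑ h : G, (fun c : G => ϑ c⁻¹) h * (ψ : G → ℂ) h := by
    refine Fintype.sum_equiv (Equiv.inv G) _ _ (fun c => ?_)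
    show ϑ c * starRingEnd ℂ ((ψ : G → ℂ) c) = ϑ (c⁻¹)⁻¹ * (ψ : G → ℂ) c⁻¹
    rw [inv_inv, ← irr_inv]
  rw [e1, e2, h1]
  field_simp

theorem sum_specFun_mul (c : IrrCharacter G → ℂ) (Φ : G → ℂ) :
    ∑ k : G, specFun c k * Φ k
      = ∑ ψ : IrrCharacter G, c ψ * ((Nat.card G : ℂ)⁻¹ *
          ∑ k : G, (ψ : G → ℂ) 1 * starRingEnd ℂ ((ψ : G → ℂ) k) * Φ k) := by
  unfold specFun
  have h1 : ∀ k : G, ((Nat.card G : ℂ)⁻¹ * ∑ χ : IrrCharacter G, c χ * ((χ : G → ℂ) 1 *
      starRingEnd ℂ ((χ : G → ℂ) k))) * Φ k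
      = ∑ χ : IrrCharacter G, c χ * ((Nat.card G : ℂ)⁻¹ *
          ((χ : G → ℂ) 1 * starRingEnd ℂ ((χ : G → ℂ) k) * Φ k)) := by
    intro k
    rw [Finset.mul_sum, Finset.sum_mul]
    refine Finset.sum_congr rfl fun χ _ => ?_
    ring
  rw [Finset.sum_congr rfl (fun k _ => h1 k), Finset.sum_comm]
  refine Finset.sum_congr rfl fun χ _ => ?_
  rw [← Finset.mul_sum, ← Finset.mul_sum]

/-- the `B`-part of a class function, evaluated via the block idempotent. -/
theorem blockPart_eq_sum (b : Set (IrrCharacter G)) (ϑ : G → ℂ) (hϑ : IsClassFunction G ϑ)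
    (y : G) : blockPart b ϑ y = ∑ k : G, blockCoeff b k * ϑ (k * y) := by
  classical
  obtain ⟨c, hc⟩ : ∃ c : IrrCharacter G → ℂ, c = fun ψ => if ψ ∈ b then (1 : ℂ) else 0 :=
    ⟨_, rfl⟩
  have hβ : ∀ k : G, blockCoeff b k = specFun c k := fun k =>
    blockCoeff_eq_specFun b c (fun ψ h => by rw [hc]; exact if_pos h)
      (fun ψ h => by rw [hc]; exact if_neg h) k
  have hL : blockPart b ϑ y
      = ∑ ψ : IrrCharacter G, c ψ * (classInner ϑ (ψ : G → ℂ) * (ψ : G → ℂ) y) := by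
    unfold blockPart
    rw [finsum_mem_def, finsum_eq_sum_of_fintype]
    refine Finset.sum_congr rfl fun ψ _ => ?_
    by_cases h : ψ ∈ b
    · rw [Set.indicator_of_mem h, hc]
      simp only [if_pos h, one_mul]
      congr!
    · rw [Set.indicator_of_notMem h, hc]
      simp only [if_neg h, zero_mul]
  have hR : ∑ k : G, blockCoeff b k * ϑ (k * y) = ∑ k : G, specFun c k * ϑ (k * y) :=
    Finset.sum_congr rfl (fun k _ => by rw [hβ k])
  rw [hL, hR, sum_specFun_mul c (fun k => ϑ (k * y))]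
  refine Finset.sum_congr rfl fun ψ _ => ?_
  congr 1
  unfold classInner
  have key := class_inner_shift ϑ hϑ ψ y
  have e : ∑ k : G, (ψ : G → ℂ) 1 * starRingEnd ℂ ((ψ : G → ℂ) k) * ϑ (k * y)
      = (ψ : G → ℂ) 1 * ∑ c : G, ϑ c * starRingEnd ℂ ((ψ : G → ℂ) (c * y⁻¹)) := by
    rw [Finset.mul_sum]
    refine Fintype.sum_equiv (Equiv.mulRight y) _ _ (fun k => ?_)
    show (ψ : G → ℂ) 1 * starRingEnd ℂ ((ψ : G → ℂ) k) * ϑ (k * y)
      = (ψ : G → ℂ) 1 * (ϑ (k * y) * starRingEnd ℂ ((ψ : G → ℂ) (k * y * y⁻¹)))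
    rw [mul_inv_cancel_right]
    ring
  rw [e, key]
  ring

/-- every block of `C_G(x)`, `x` a `p`-element, induces a block of `G`. -/
theorem cent_induced {p : ℕ} [Fact p.Prime] {M : Ideal AlgInt} (hM : IsPModular p M)
    [hMp : M.IsPrime] (x : G) (hx : ∃ k : ℕ, orderOf x = p ^ k)
    [Fintype (Subgroup.centralizer ({x} : Set G))]
    (ξ₀ : IrrCharacter (Subgroup.centralizer ({x} : Set G))) :
    ∃ χ₁ : IrrCharacter G, IsInducedBlock M (Subgroup.centralizer ({x} : Set G))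
      (blockOf M (ξ₀ : Subgroup.centralizer ({x} : Set G) → ℂ)) (blockOf M (χ₁ : G → ℂ)) := by
  classical
  obtain ⟨k, hk⟩ := hx
  have hP : IsPGroup p (Subgroup.zpowers x) := by
    refine IsPGroup.of_card (n := k) ?_
    rw [Nat.card_zpowers, hk]
  have hPH : Subgroup.zpowers x ≤ Subgroup.centralizer ({x} : Set G) :=
    Subgroup.zpowers_le.mpr (Subgroup.mem_centralizer_singleton_iff.mpr rfl)
  have hCH : Subgroup.centralizer ((Subgroup.zpowers x : Subgroup G) : Set G)
      ≤ Subgroup.centralizer ({x} : Set G) :=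
    Subgroup.centralizer_le (Set.singleton_subset_iff.mpr (Subgroup.mem_zpowers x))
  have hHN : Subgroup.centralizer ({x} : Set G)
      ≤ Subgroup.normalizer ((Subgroup.zpowers x : Subgroup G) : Set G) := by
    intro c hc
    rw [Subgroup.mem_centralizer_singleton_iff] at hc
    rw [Subgroup.mem_normalizer_iff]
    intro n
    have hcomm : ∀ m : G, m ∈ Subgroup.zpowers x → c * m * c⁻¹ = m := by
      intro m hm
      obtain ⟨j, rfl⟩ := Subgroup.mem_zpowers_iff.mp hm
      have h1 : Commute c (x ^ j) := Commute.zpow_right hc j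
      rw [h1.eq, mul_inv_cancel_right]
    constructor
    · intro hn
      rw [hcomm n hn]
      exact hn
    · intro hn
      have h2 := hcomm _ hn
      have h3 : c⁻¹ * (c * n * c⁻¹) * c = n := by group
      have h4 : c * n * c⁻¹ = n := by
        have h5 : c * (c * n * c⁻¹) * c⁻¹ = c * n * c⁻¹ := h2
        have h6 : c⁻¹ * (c * (c * n * c⁻¹) * c⁻¹) * c = c⁻¹ * (c * n * c⁻¹) * c := by rw [h5]
        have h7 : c⁻¹ * (c * (c * n * c⁻¹) * c⁻¹) * c = c * n * c⁻¹ := by group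
        rw [h7, h3] at h6
        exact h6
      rw [← h4]
      exact hn
  obtain ⟨χ₁, hbr⟩ := exists_brauer_block hM (Subgroup.zpowers x)
    (Subgroup.centralizer ({x} : Set G)) hP hCH hHN ξ₀
  exact ⟨χ₁, induced_of_brauer_congr hM (Subgroup.zpowers x)
    (Subgroup.centralizer ({x} : Set G)) hP hPH hHN ξ₀ χ₁ hbr⟩

/-- S0923, for `B = blockOf M χ₀`, `b = blockOf M ξ₀`. -/
theorem smt_char {p : ℕ} [Fact p.Prime] {M : Ideal AlgInt} (hM : IsPModular p M)
    [hMp : M.IsPrime] (x : G) (hx : ∃ k : ℕ, orderOf x = p ^ k)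
    [Fintype (Subgroup.centralizer ({x} : Set G))]
    (χ₀ χ : IrrCharacter G) (hχ : χ ∈ blockOf M (χ₀ : G → ℂ))
    (ξ₀ : IrrCharacter (Subgroup.centralizer ({x} : Set G)))
    (hnot : ¬ IsInducedBlock M (Subgroup.centralizer ({x} : Set G))
      (blockOf M (ξ₀ : Subgroup.centralizer ({x} : Set G) → ℂ)) (blockOf M (χ₀ : G → ℂ)))
    (y : Subgroup.centralizer ({x} : Set G)) (hy : ¬ p ∣ orderOf y) :
    blockPart (blockOf M (ξ₀ : Subgroup.centralizer ({x} : Set G) → ℂ))
      (fun c : Subgroup.centralizer ({x} : Set G) => (χ : G → ℂ) (x * (c : G))) y = 0 := by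
  classical
  have hp := hM.1
  obtain ⟨χ₁, hind⟩ := cent_induced hM x hx ξ₀
  have hχ1 : χ ∉ blockOf M (χ₁ : G → ℂ) := by
    intro h
    have e1 : blockOf M (χ₁ : G → ℂ) = blockOf M (χ : G → ℂ) := blockOf_eq_of_sameBlock h
    have e2 : blockOf M (χ₀ : G → ℂ) = blockOf M (χ : G → ℂ) := blockOf_eq_of_sameBlock hχ
    apply hnot
    rw [e2, ← e1]
    exact hind
  have hxC : x ∈ Subgroup.centralizer ({x} : Set G) :=
    Subgroup.mem_centralizer_singleton_iff.mpr rfl
  have hcomm : ∀ c : Subgroup.centralizer ({x} : Set G), (c : G) * x = x * (c : G) := fun c =>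
    Subgroup.mem_centralizer_singleton_iff.mp c.2
  have hgC : x * (y : G) ∈ Subgroup.centralizer ({x} : Set G) := Subgroup.mul_mem _ hxC y.2
  have hpp : IsPPart p (x * (y : G)) x :=
    ⟨(y : G), rfl, (hcomm y).symm, hx, by rwa [Subgroup.orderOf_coe]⟩
  have key := second_main_key hM (Subgroup.centralizer ({x} : Set G)) ξ₀ χ₁ hind
    ⟨x * (y : G), hgC⟩ (fun z hz => by rw [← isPPart_unique hp hpp hz]) χ hχ1
  have hϑ : IsClassFunction (Subgroup.centralizer ({x} : Set G))
      (fun c : Subgroup.centralizer ({x} : Set G) => (χ : G → ℂ) (x * (c : G))) := by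
    intro g t
    show (χ : G → ℂ) (x * ((t * g * t⁻¹ : Subgroup.centralizer ({x} : Set G)) : G))
      = (χ : G → ℂ) (x * (g : G))
    have e : x * ((t * g * t⁻¹ : Subgroup.centralizer ({x} : Set G)) : G)
        = (t : G) * (x * (g : G)) * (t : G)⁻¹ := by
      push_cast
      rw [← mul_assoc, ← mul_assoc, ← mul_assoc, ← hcomm t]
    rw [e, irr_conj]
  rw [blockPart_eq_sum _ _ hϑ y, ← key]
  refine Finset.sum_congr rfl fun k _ => ?_
  congr 1
  show (χ : G → ℂ) (x * ((k * y : Subgroup.centralizer ({x} : Set G)) : G))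
    = (χ : G → ℂ) ((k : G) * (x * (y : G)))
  push_cast
  rw [← mul_assoc, ← mul_assoc, ← hcomm k]

/-- S0924. -/
theorem vanish_of_ppart {p : ℕ} [Fact p.Prime] {M : Ideal AlgInt} (hM : IsPModular p M)
    [hMp : M.IsPrime] (χ : IrrCharacter G) (g x : G) (hx : IsPPart p g x)
    (hD : ∀ D : Subgroup G, IsDefectGroup p M (blockOf M (χ : G → ℂ)) D → x ∉ D) :
    (χ : G → ℂ) g = 0 := by
  classical
  have hp := hM.1
  obtain ⟨y, hxy, hcommxy, hxo, hyo⟩ := id hx
  haveI : Fintype (Subgroup.centralizer ({x} : Set G)) := Fintype.ofFinite _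
  have hxC : x ∈ Subgroup.centralizer ({x} : Set G) :=
    Subgroup.mem_centralizer_singleton_iff.mpr rfl
  have hyC : y ∈ Subgroup.centralizer ({x} : Set G) :=
    Subgroup.mem_centralizer_singleton_iff.mpr hcommxy.eq.symm
  have hgC : g ∈ Subgroup.centralizer ({x} : Set G) := by
    rw [← hxy]
    exact Subgroup.mul_mem _ hxC hyC
  have hcomm : ∀ c : Subgroup.centralizer ({x} : Set G), (c : G) * x = x * (c : G) := fun c =>
    Subgroup.mem_centralizer_singleton_iff.mp c.2
  have hblock : ∀ ξ₀ : IrrCharacter (Subgroup.centralizer ({x} : Set G)),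
      ∑ k : Subgroup.centralizer ({x} : Set G),
        blockCoeff (blockOf M (ξ₀ : Subgroup.centralizer ({x} : Set G) → ℂ)) k
          * (χ : G → ℂ) ((k : G) * g) = 0 := by
    intro ξ₀
    obtain ⟨χ₁, hind⟩ := cent_induced hM x hxo ξ₀
    have hχ1 : χ ∉ blockOf M (χ₁ : G → ℂ) := by
      intro h
      have e1 : blockOf M (χ₁ : G → ℂ) = blockOf M (χ : G → ℂ) := blockOf_eq_of_sameBlock h
      obtain ⟨D, hD'⟩ : ∃ D : Subgroup (Subgroup.centralizer ({x} : Set G)),
          IsDefectGroup p M (blockOf M (ξ₀ : Subgroup.centralizer ({x} : Set G) → ℂ)) D := by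
        obtain ⟨g₀, hg₀⟩ := exists_defect_class (M := M) ξ₀
        obtain ⟨P⟩ := (inferInstance : Nonempty (Sylow p (Subgroup.centralizer ({g₀} : Set
          (Subgroup.centralizer ({x} : Set G))))))
        exact ⟨_, g₀, hg₀, P, rfl⟩
      have hxD : (⟨x, hxC⟩ : Subgroup.centralizer ({x} : Set G)) ∈ D := by
        have hn : (Subgroup.zpowers (⟨x, hxC⟩ : Subgroup.centralizer ({x} : Set G))).Normal := by
          refine ⟨fun n hn c => ?_⟩
          obtain ⟨j, rfl⟩ := Subgroup.mem_zpowers_iff.mp hn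
          have h1 : Commute c (⟨x, hxC⟩ : Subgroup.centralizer ({x} : Set G)) :=
            Subtype.ext (hcomm c)
          have h2 : Commute c ((⟨x, hxC⟩ : Subgroup.centralizer ({x} : Set G)) ^ j) :=
            Commute.zpow_right h1 j
          rw [h2.eq, mul_inv_cancel_right]
          exact Subgroup.zpow_mem _ (Subgroup.mem_zpowers _) j
        have hPp : IsPGroup p
            (Subgroup.zpowers (⟨x, hxC⟩ : Subgroup.centralizer ({x} : Set G))) := by
          obtain ⟨k, hk⟩ := hxo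
          refine IsPGroup.of_card (n := k) ?_
          rw [Nat.card_zpowers, ← hk, ← Subgroup.orderOf_coe]
        exact normal_pGroup_le_defect hM ξ₀ _ hPp D hD' (Subgroup.mem_zpowers _)
      obtain ⟨E, hE, hDE⟩ := induced_defect_le hM (Subgroup.centralizer ({x} : Set G)) ξ₀ χ₁
        hind D hD'
      rw [e1] at hE
      exact hD E hE (hDE ⟨⟨x, hxC⟩, hxD, rfl⟩)
    exact second_main_key hM (Subgroup.centralizer ({x} : Set G)) ξ₀ χ₁ hind ⟨g, hgC⟩
      (fun z hz => by rw [← isPPart_unique hp hx hz]) χ hχ1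
  obtain ⟨T, hT⟩ : ∃ T : IrrCharacter (Subgroup.centralizer ({x} : Set G)) → ℂ,
      T = fun ψ : IrrCharacter (Subgroup.centralizer ({x} : Set G)) =>
        ((Nat.card (Subgroup.centralizer ({x} : Set G)) : ℂ)⁻¹ *
          ∑ k : Subgroup.centralizer ({x} : Set G),
            (ψ : Subgroup.centralizer ({x} : Set G) → ℂ) 1
              * starRingEnd ℂ ((ψ : Subgroup.centralizer ({x} : Set G) → ℂ) k)
              * (χ : G → ℂ) ((k : G) * g)) := ⟨_, rfl⟩
  have hspec : ∀ c : IrrCharacter (Subgroup.centralizer ({x} : Set G)) → ℂ,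
      ∑ k : Subgroup.centralizer ({x} : Set G), specFun c k * (χ : G → ℂ) ((k : G) * g)
        = ∑ ψ : IrrCharacter (Subgroup.centralizer ({x} : Set G)), c ψ * T ψ := by
    intro c
    rw [hT]
    exact sum_specFun_mul c (fun k : Subgroup.centralizer ({x} : Set G) =>
      (χ : G → ℂ) ((k : G) * g))
  have h1 : (χ : G → ℂ) g = ∑ k : Subgroup.centralizer ({x} : Set G),
      specFun (1 : IrrCharacter (Subgroup.centralizer ({x} : Set G)) → ℂ) k
        * (χ : G → ℂ) ((k : G) * g) := by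
    rw [Finset.sum_eq_single (1 : Subgroup.centralizer ({x} : Set G))]
    · rw [specFun_one_one, one_mul, Subgroup.coe_one, one_mul]
    · intro k _ hk
      rw [specFun_one_ne hk, zero_mul]
    · intro h
      exact absurd (Finset.mem_univ _) h
  have h3 : ∀ ξ₀ : IrrCharacter (Subgroup.centralizer ({x} : Set G)),
      ∑ ψ ∈ Finset.univ.filter (fun ψ : IrrCharacter (Subgroup.centralizer ({x} : Set G)) =>
        blockOf M (ψ : Subgroup.centralizer ({x} : Set G) → ℂ)
          = blockOf M (ξ₀ : Subgroup.centralizer ({x} : Set G) → ℂ)), T ψ = 0 := by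
    intro ξ₀
    rw [← hblock ξ₀, Finset.sum_filter]
    obtain ⟨c, hc⟩ : ∃ c : IrrCharacter (Subgroup.centralizer ({x} : Set G)) → ℂ,
        c = fun ψ : IrrCharacter (Subgroup.centralizer ({x} : Set G)) =>
          if blockOf M (ψ : Subgroup.centralizer ({x} : Set G) → ℂ)
          = blockOf M (ξ₀ : Subgroup.centralizer ({x} : Set G) → ℂ) then (1 : ℂ) else 0 :=
      ⟨_, rfl⟩
    have hβ : ∀ k : Subgroup.centralizer ({x} : Set G),
        blockCoeff (blockOf M (ξ₀ : Subgroup.centralizer ({x} : Set G) → ℂ)) k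
          = specFun c k := fun k =>
      blockCoeff_eq_specFun _ c
        (fun ψ h => by
          rw [hc]
          exact if_pos (blockOf_eq_of_sameBlock h).symm)
        (fun ψ h => by
          rw [hc]
          refine if_neg (fun h' => h ?_)
          rw [← h']
          exact sameBlock_refl _) k
    have hR : ∑ k : Subgroup.centralizer ({x} : Set G),
        blockCoeff (blockOf M (ξ₀ : Subgroup.centralizer ({x} : Set G) → ℂ)) k
          * (χ : G → ℂ) ((k : G) * g)
        = ∑ k : Subgroup.centralizer ({x} : Set G), specFun c k * (χ : G → ℂ) ((k : G) * g) :=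
      Finset.sum_congr rfl (fun k _ => by rw [hβ k])
    rw [hR, hspec c]
    refine Finset.sum_congr rfl fun ψ _ => ?_
    rw [hc]
    by_cases h : blockOf M (ψ : Subgroup.centralizer ({x} : Set G) → ℂ)
          = blockOf M (ξ₀ : Subgroup.centralizer ({x} : Set G) → ℂ)
    · simp only [if_pos h, one_mul]
    · simp only [if_neg h, zero_mul]
  rw [h1, hspec 1]
  simp only [Pi.one_apply, one_mul]
  rw [← Finset.sum_fiberwise_of_maps_to
    (g := fun ψ : IrrCharacter (Subgroup.centralizer ({x} : Set G)) =>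
      blockOf M (ψ : Subgroup.centralizer ({x} : Set G) → ℂ))
    (t := Finset.univ.image (fun ψ : IrrCharacter (Subgroup.centralizer ({x} : Set G)) =>
      blockOf M (ψ : Subgroup.centralizer ({x} : Set G) → ℂ)))
    (fun ψ _ => Finset.mem_image_of_mem _ (Finset.mem_univ _))]
  refine Finset.sum_eq_zero fun b hb => ?_
  obtain ⟨ξ₀, -, rfl⟩ := Finset.mem_image.mp hb
  exact h3 ξ₀

end Blocks

end Cfsg.Agent.Helper5
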