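import Mathlib
import Cfsg.Agent.Helper5.BlkSMT2
import Cfsg.Agent.Helper5.BlkOrth
import Cfsg.Agent.Helper5.BlkCen

/-!
helper5: block orthogonality (S0925).
-/

set_option autoImplicit false

namespace Cfsg.Agent.Helper5

open Cfsg Cfsg.Agent.Helper24 Cfsg.Agent.Helper22

universe u

section Blocks

variable {G : Type u} [Group G] [Fintype G]

/-- a class function is the combination of the irreducible characters with its inner products. -/
theorem classFun_expand (ϑ : G → ℂ) (hϑ : IsClassFunction G ϑ) (g : G) :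
    ∑ χ : IrrCharacter G, classInner ϑ (χ : G → ℂ) * (χ : G → ℂ) g = ϑ g := by
  classical
  have hG0 : (Nat.card G : ℂ) ≠ 0 := Nat.cast_ne_zero.mpr Nat.card_pos.ne'
  unfold classInner
  have h1 : ∀ χ : IrrCharacter G,
      ((Nat.card G : ℂ)⁻¹ * ∑ h : G, ϑ h * starRingEnd ℂ ((χ : G → ℂ) h)) * (χ : G → ℂ) g
        = (Nat.card G : ℂ)⁻¹ * ∑ h : G, ϑ h *
          ((χ : G → ℂ) g * starRingEnd ℂ ((χ : G → ℂ) h)) := by
    intro χ
    rw [mul_assoc, Finset.sum_mul]
    congr 1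
    refine Finset.sum_congr rfl fun h _ => ?_
    ring
  rw [Finset.sum_congr rfl (fun χ _ => h1 χ), ← Finset.mul_sum, Finset.sum_comm]
  have h2 : ∀ h : G, ∑ χ : IrrCharacter G, ϑ h *
      ((χ : G → ℂ) g * starRingEnd ℂ ((χ : G → ℂ) h))
        = ∑ x : G, if x * g * x⁻¹ = h then ϑ (x * g * x⁻¹) else 0 := by
    intro h
    rw [← Finset.mul_sum, sum_irr_mul_conj_eq_card g h, Finset.card_filter, Nat.cast_sum,
      Finset.mul_sum]
    refine Finset.sum_congr rfl fun x _ => ?_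
    by_cases hx : x * g * x⁻¹ = h
    · rw [if_pos hx, if_pos hx, hx, Nat.cast_one, mul_one]
    · rw [if_neg hx, if_neg hx, Nat.cast_zero, mul_zero]
  rw [Finset.sum_congr rfl (fun h _ => h2 h), Finset.sum_comm]
  have h3 : ∀ x : G, ∑ h : G, (if x * g * x⁻¹ = h then ϑ (x * g * x⁻¹) else 0) = ϑ g := by
    intro x
    rw [Finset.sum_ite_eq, if_pos (Finset.mem_univ _), hϑ g x]
  rw [Finset.sum_congr rfl (fun x _ => h3 x), Finset.sum_const, Finset.card_univ, nsmul_eq_mul,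
    ← Nat.card_eq_fintype_card, ← mul_assoc, inv_mul_cancel₀ hG0, one_mul]

/-- sums over irreducible characters, blockwise. -/
theorem sum_blockwise {M : Ideal AlgInt} [hMp : M.IsPrime] (c F : IrrCharacter G → ℂ)
    (hc : ∀ ψ ψ' : IrrCharacter G, SameBlock M (ψ : G → ℂ) (ψ' : G → ℂ) → c ψ = c ψ')
    (h : ∀ ξ₀ : IrrCharacter G, c ξ₀ ≠ 0 → ∑ᶠ ψ ∈ blockOf M (ξ₀ : G → ℂ), F ψ = 0) :
    ∑ ψ : IrrCharacter G, c ψ * F ψ = 0 := by
  classical
  rw [← Finset.sum_fiberwise_of_maps_to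
    (g := fun ψ : IrrCharacter G => blockOf M (ψ : G → ℂ))
    (t := Finset.univ.image (fun ψ : IrrCharacter G => blockOf M (ψ : G → ℂ)))
    (fun ψ _ => Finset.mem_image_of_mem _ (Finset.mem_univ _))]
  refine Finset.sum_eq_zero fun b hb => ?_
  obtain ⟨ξ₀, -, rfl⟩ := Finset.mem_image.mp hb
  have hfil : Finset.univ.filter (fun ψ : IrrCharacter G =>
      blockOf M (ψ : G → ℂ) = blockOf M (ξ₀ : G → ℂ))
      = Finset.univ.filter (fun ψ : IrrCharacter G =>
          SameBlock M (ξ₀ : G → ℂ) (ψ : G → ℂ)) := by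
    ext ψ
    simp only [Finset.mem_filter, Finset.mem_univ, true_and]
    constructor
    · intro h'
      have h1 : ψ ∈ blockOf M (ψ : G → ℂ) := sameBlock_refl _
      rw [h'] at h1
      exact h1
    · intro h'
      exact (blockOf_eq_of_sameBlock h').symm
  rw [hfil]
  have e : ∑ ψ ∈ Finset.univ.filter (fun ψ : IrrCharacter G =>
      SameBlock M (ξ₀ : G → ℂ) (ψ : G → ℂ)), c ψ * F ψ
      = c ξ₀ * ∑ ψ ∈ Finset.univ.filter (fun ψ : IrrCharacter G =>
          SameBlock M (ξ₀ : G → ℂ) (ψ : G → ℂ)), F ψ := by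
    rw [Finset.mul_sum]
    refine Finset.sum_congr rfl fun ψ hψ => ?_
    rw [hc ξ₀ ψ (Finset.mem_filter.mp hψ).2]
  rw [e]
  by_cases h0 : c ξ₀ = 0
  · rw [h0, zero_mul]
  · have h1 := h ξ₀ h0
    have h2 : ∑ᶠ ψ ∈ blockOf M (ξ₀ : G → ℂ), F ψ
        = ∑ ψ ∈ Finset.univ.filter (fun ψ : IrrCharacter G =>
          SameBlock M (ξ₀ : G → ℂ) (ψ : G → ℂ)), F ψ := by
      rw [Finset.sum_filter]
      exact finsum_setOf_eq_sum' (fun ψ : IrrCharacter G =>
          SameBlock M (ξ₀ : G → ℂ) (ψ : G → ℂ)) F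
    rw [← h2, h1, mul_zero]

theorem finsum_block_T (b : Set (IrrCharacter G)) (Φ : G → ℂ) :
    ∑ᶠ ψ ∈ b, ((Nat.card G : ℂ)⁻¹ *
        ∑ k : G, (ψ : G → ℂ) 1 * starRingEnd ℂ ((ψ : G → ℂ) k) * Φ k)
      = ∑ k : G, blockCoeff b k * Φ k := by
  classical
  obtain ⟨c, hc⟩ : ∃ c : IrrCharacter G → ℂ, c = fun ψ => if ψ ∈ b then (1 : ℂ) else 0 :=
    ⟨_, rfl⟩
  have hβ : ∀ k : G, blockCoeff b k = specFun c k := fun k =>
    blockCoeff_eq_specFun b c (fun ψ h => by rw [hc]; exact if_pos h)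
      (fun ψ h => by rw [hc]; exact if_neg h) k
  have hR : ∑ k : G, blockCoeff b k * Φ k = ∑ k : G, specFun c k * Φ k :=
    Finset.sum_congr rfl (fun k _ => by rw [hβ k])
  rw [hR, sum_specFun_mul c Φ, finsum_mem_def, finsum_eq_sum_of_fintype]
  refine Finset.sum_congr rfl fun ψ _ => ?_
  by_cases h : ψ ∈ b
  · rw [Set.indicator_of_mem h, hc]
    simp only [if_pos h, one_mul]
  · rw [Set.indicator_of_notMem h, hc]
    simp only [if_neg h, zero_mul]

theorem blockPart_eq_spec (b : Set (IrrCharacter G)) (c : IrrCharacter G → ℂ)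
    (hc1 : ∀ ψ ∈ b, c ψ = 1) (hc0 : ∀ ψ, ψ ∉ b → c ψ = 0) (ϑ : G → ℂ) (y : G) :
    blockPart b ϑ y
      = ∑ ψ : IrrCharacter G, c ψ * (classInner ϑ (ψ : G → ℂ) * (ψ : G → ℂ) y) := by
  classical
  unfold blockPart
  rw [finsum_mem_def, finsum_eq_sum_of_fintype]
  refine Finset.sum_congr rfl fun ψ _ => ?_
  by_cases h : ψ ∈ b
  · rw [Set.indicator_of_mem h, hc1 ψ h, one_mul]
    congr!
  · rw [Set.indicator_of_notMem h, hc0 ψ h, zero_mul]

/-- the sum of the block idempotents of `C_G(z)` over the blocks inducing `B` acts on `χ` at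
elements of the `p`-section of `z` as the projection to `B`. -/
theorem smt_idem {p : ℕ} [Fact p.Prime] {M : Ideal AlgInt} (hM : IsPModular p M)
    [hMp : M.IsPrime] (z : G) (hz : ∃ k : ℕ, orderOf z = p ^ k)
    [Fintype (Subgroup.centralizer ({z} : Set G))]
    (χ₀ χ : IrrCharacter G) (y : Subgroup.centralizer ({z} : Set G)) (hy : ¬ p ∣ orderOf y)
    (c : IrrCharacter (Subgroup.centralizer ({z} : Set G)) → ℂ)
    (hc1 : ∀ ψ : IrrCharacter (Subgroup.centralizer ({z} : Set G)),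
      IsInducedBlock M (Subgroup.centralizer ({z} : Set G))
        (blockOf M (ψ : Subgroup.centralizer ({z} : Set G) → ℂ)) (blockOf M (χ₀ : G → ℂ)) →
        c ψ = 1)
    (hc0 : ∀ ψ : IrrCharacter (Subgroup.centralizer ({z} : Set G)),
      ¬ IsInducedBlock M (Subgroup.centralizer ({z} : Set G))
        (blockOf M (ψ : Subgroup.centralizer ({z} : Set G) → ℂ)) (blockOf M (χ₀ : G → ℂ)) →
        c ψ = 0)
    (d : ℂ) (hd1 : χ ∈ blockOf M (χ₀ : G → ℂ) → d = 1)
    (hd0 : χ ∉ blockOf M (χ₀ : G → ℂ) → d = 0) :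
    ∑ k : Subgroup.centralizer ({z} : Set G), specFun c k * (χ : G → ℂ) ((k : G) * (z * (y : G)))
      = d * (χ : G → ℂ) (z * (y : G)) := by
  classical
  have hp := hM.1
  have hzC : z ∈ Subgroup.centralizer ({z} : Set G) :=
    Subgroup.mem_centralizer_singleton_iff.mpr rfl
  have hcomm : ∀ c : Subgroup.centralizer ({z} : Set G), (c : G) * z = z * (c : G) := fun c =>
    Subgroup.mem_centralizer_singleton_iff.mp c.2
  have hgC : z * (y : G) ∈ Subgroup.centralizer ({z} : Set G) := Subgroup.mul_mem _ hzC y.2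
  have hpp : IsPPart p (z * (y : G)) z :=
    ⟨(y : G), rfl, (hcomm y).symm, hz, by rwa [Subgroup.orderOf_coe]⟩
  obtain ⟨T, hT⟩ : ∃ T : IrrCharacter (Subgroup.centralizer ({z} : Set G)) → ℂ,
      T = fun ψ : IrrCharacter (Subgroup.centralizer ({z} : Set G)) =>
        ((Nat.card (Subgroup.centralizer ({z} : Set G)) : ℂ)⁻¹ *
          ∑ k : Subgroup.centralizer ({z} : Set G),
            (ψ : Subgroup.centralizer ({z} : Set G) → ℂ) 1
              * starRingEnd ℂ ((ψ : Subgroup.centralizer ({z} : Set G) → ℂ) k)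
              * (χ : G → ℂ) ((k : G) * (z * (y : G)))) := ⟨_, rfl⟩
  have hspec : ∀ c' : IrrCharacter (Subgroup.centralizer ({z} : Set G)) → ℂ,
      ∑ k : Subgroup.centralizer ({z} : Set G),
          specFun c' k * (χ : G → ℂ) ((k : G) * (z * (y : G)))
        = ∑ ψ : IrrCharacter (Subgroup.centralizer ({z} : Set G)), c' ψ * T ψ := by
    intro c'
    rw [hT]
    exact sum_specFun_mul c' (fun k : Subgroup.centralizer ({z} : Set G) =>
      (χ : G → ℂ) ((k : G) * (z * (y : G))))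
  have h1 : (χ : G → ℂ) (z * (y : G))
      = ∑ ψ : IrrCharacter (Subgroup.centralizer ({z} : Set G)), T ψ := by
    have h2 := hspec 1
    simp only [Pi.one_apply, one_mul] at h2
    rw [← h2, Finset.sum_eq_single (1 : Subgroup.centralizer ({z} : Set G))]
    · rw [specFun_one_one, one_mul, Subgroup.coe_one, one_mul]
    · intro k _ hk
      rw [specFun_one_ne hk, zero_mul]
    · intro h
      exact absurd (Finset.mem_univ _) h
  have hblockT : ∀ ξ₀ : IrrCharacter (Subgroup.centralizer ({z} : Set G)),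
      ∑ᶠ ψ ∈ blockOf M (ξ₀ : Subgroup.centralizer ({z} : Set G) → ℂ), T ψ
        = ∑ k : Subgroup.centralizer ({z} : Set G),
          blockCoeff (blockOf M (ξ₀ : Subgroup.centralizer ({z} : Set G) → ℂ)) k
            * (χ : G → ℂ) ((k : G) * (z * (y : G))) := by
    intro ξ₀
    rw [hT]
    exact finsum_block_T _ (fun k : Subgroup.centralizer ({z} : Set G) =>
      (χ : G → ℂ) ((k : G) * (z * (y : G))))
  have hmain : ∑ ψ : IrrCharacter (Subgroup.centralizer ({z} : Set G)), (c ψ - d) * T ψ = 0 := by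
    refine sum_blockwise (M := M) (fun ψ => c ψ - d) T ?_ ?_
    · intro ψ ψ' hsame
      show c ψ - d = c ψ' - d
      have e := blockOf_eq_of_sameBlock hsame
      by_cases hi : IsInducedBlock M (Subgroup.centralizer ({z} : Set G))
          (blockOf M (ψ : Subgroup.centralizer ({z} : Set G) → ℂ)) (blockOf M (χ₀ : G → ℂ))
      · rw [hc1 ψ hi, hc1 ψ' (e ▸ hi)]
      · rw [hc0 ψ hi, hc0 ψ' (e ▸ hi)]
    · intro ξ₀ hne
      rw [hblockT ξ₀]
      by_cases hi : IsInducedBlock M (Subgroup.centralizer ({z} : Set G))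
          (blockOf M (ξ₀ : Subgroup.centralizer ({z} : Set G) → ℂ)) (blockOf M (χ₀ : G → ℂ))
      · by_cases hχ : χ ∈ blockOf M (χ₀ : G → ℂ)
        · exfalso
          apply hne
          show c ξ₀ - d = 0
          rw [hc1 ξ₀ hi, hd1 hχ, sub_self]
        · exact second_main_key hM (Subgroup.centralizer ({z} : Set G)) ξ₀ χ₀ hi
            ⟨z * (y : G), hgC⟩ (fun w hw => by rw [← isPPart_unique hp hpp hw]) χ hχ
      · by_cases hχ : χ ∈ blockOf M (χ₀ : G → ℂ)
        · obtain ⟨χ₁, hind⟩ := cent_induced hM z hz ξ₀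
          have hχ1 : χ ∉ blockOf M (χ₁ : G → ℂ) := by
            intro h
            have e1 : blockOf M (χ₁ : G → ℂ) = blockOf M (χ : G → ℂ) :=
              blockOf_eq_of_sameBlock h
            have e2 : blockOf M (χ₀ : G → ℂ) = blockOf M (χ : G → ℂ) :=
              blockOf_eq_of_sameBlock hχ
            apply hi
            rw [e2, ← e1]
            exact hind
          exact second_main_key hM (Subgroup.centralizer ({z} : Set G)) ξ₀ χ₁ hind
            ⟨z * (y : G), hgC⟩ (fun w hw => by rw [← isPPart_unique hp hpp hw]) χ hχ1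
        · exfalso
          apply hne
          show c ξ₀ - d = 0
          rw [hc0 ξ₀ hi, hd0 hχ, sub_self]
  rw [hspec c, h1, Finset.mul_sum, ← sub_eq_zero, ← Finset.sum_sub_distrib, ← hmain]
  refine Finset.sum_congr rfl fun ψ _ => ?_
  ring

/-- S0925 (i), for `B = blockOf M χ₀`. -/
theorem block_section_vanish {p : ℕ} [Fact p.Prime] {M : Ideal AlgInt} (hM : IsPModular p M)
    [hMp : M.IsPrime] (ϑ : G → ℂ) (hϑ : IsClassFunction G ϑ) (x : G)
    (hvan : ∀ u z : G, IsPPart p u z → IsConj x z → ϑ u = 0) (χ₀ : IrrCharacter G)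
    (u z : G) (hu : IsPPart p u z) (hxz : IsConj x z) :
    blockPart (blockOf M (χ₀ : G → ℂ)) ϑ u = 0 := by
  classical
  have hp := hM.1
  obtain ⟨y, hzy, hcommzy, hzo, hyo⟩ := id hu
  haveI : Fintype (Subgroup.centralizer ({z} : Set G)) := Fintype.ofFinite _
  have hzC : z ∈ Subgroup.centralizer ({z} : Set G) :=
    Subgroup.mem_centralizer_singleton_iff.mpr rfl
  have hyC : y ∈ Subgroup.centralizer ({z} : Set G) :=
    Subgroup.mem_centralizer_singleton_iff.mpr hcommzy.eq.symm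
  have hcomm : ∀ c : Subgroup.centralizer ({z} : Set G), (c : G) * z = z * (c : G) := fun c =>
    Subgroup.mem_centralizer_singleton_iff.mp c.2
  have hyreg : ¬ p ∣ orderOf (⟨y, hyC⟩ : Subgroup.centralizer ({z} : Set G)) := by
    rw [Subgroup.orderOf_mk]
    exact hyo
  obtain ⟨c, hc⟩ : ∃ c : IrrCharacter (Subgroup.centralizer ({z} : Set G)) → ℂ,
      c = fun ψ : IrrCharacter (Subgroup.centralizer ({z} : Set G)) =>
        if IsInducedBlock M (Subgroup.centralizer ({z} : Set G))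
          (blockOf M (ψ : Subgroup.centralizer ({z} : Set G) → ℂ)) (blockOf M (χ₀ : G → ℂ))
        then (1 : ℂ) else 0 := ⟨_, rfl⟩
  have hc1 : ∀ ψ : IrrCharacter (Subgroup.centralizer ({z} : Set G)),
      IsInducedBlock M (Subgroup.centralizer ({z} : Set G))
        (blockOf M (ψ : Subgroup.centralizer ({z} : Set G) → ℂ)) (blockOf M (χ₀ : G → ℂ)) →
        c ψ = 1 := fun ψ h => by rw [hc]; exact if_pos h
  have hc0 : ∀ ψ : IrrCharacter (Subgroup.centralizer ({z} : Set G)),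
      ¬ IsInducedBlock M (Subgroup.centralizer ({z} : Set G))
        (blockOf M (ψ : Subgroup.centralizer ({z} : Set G) → ℂ)) (blockOf M (χ₀ : G → ℂ)) →
        c ψ = 0 := fun ψ h => by rw [hc]; exact if_neg h
  obtain ⟨cG, hcG⟩ : ∃ cG : IrrCharacter G → ℂ,
      cG = fun χ : IrrCharacter G => if χ ∈ blockOf M (χ₀ : G → ℂ) then (1 : ℂ) else 0 :=
    ⟨_, rfl⟩
  have hcG1 : ∀ χ ∈ blockOf M (χ₀ : G → ℂ), cG χ = 1 := fun χ h => by rw [hcG]; exact if_pos h
  have hcG0 : ∀ χ, χ ∉ blockOf M (χ₀ : G → ℂ) → cG χ = 0 := fun χ h => by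
    rw [hcG]; exact if_neg h
  have hL := blockPart_eq_spec (blockOf M (χ₀ : G → ℂ)) cG hcG1 hcG0 ϑ u
  have hclaim : ∀ χ : IrrCharacter G, cG χ * (χ : G → ℂ) u
      = ∑ k : Subgroup.centralizer ({z} : Set G), specFun c k * (χ : G → ℂ) ((k : G) * u) := by
    intro χ
    have h1 := smt_idem hM z hzo χ₀ χ ⟨y, hyC⟩ hyreg c hc1 hc0 (cG χ) (hcG1 χ) (hcG0 χ)
    rw [← hzy]
    exact h1.symm
  have h2 : blockPart (blockOf M (χ₀ : G → ℂ)) ϑ u
      = ∑ k : Subgroup.centralizer ({z} : Set G), specFun c k * ϑ ((k : G) * u) := by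
    rw [hL]
    have h3 : ∀ χ : IrrCharacter G, cG χ * (classInner ϑ (χ : G → ℂ) * (χ : G → ℂ) u)
        = ∑ k : Subgroup.centralizer ({z} : Set G),
          specFun c k * (classInner ϑ (χ : G → ℂ) * (χ : G → ℂ) ((k : G) * u)) := by
      intro χ
      rw [mul_left_comm, hclaim χ, Finset.mul_sum]
      refine Finset.sum_congr rfl fun k _ => ?_
      ring
    rw [Finset.sum_congr rfl (fun χ _ => h3 χ), Finset.sum_comm]
    refine Finset.sum_congr rfl fun k _ => ?_
    rw [← Finset.mul_sum, classFun_expand ϑ hϑ]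
  rw [h2]
  obtain ⟨ϑ', hϑ'⟩ : ∃ ϑ' : Subgroup.centralizer ({z} : Set G) → ℂ,
      ϑ' = fun c : Subgroup.centralizer ({z} : Set G) => ϑ (z * (c : G)) := ⟨_, rfl⟩
  have hϑ'cl : IsClassFunction (Subgroup.centralizer ({z} : Set G)) ϑ' := by
    intro g t
    rw [hϑ']
    show ϑ (z * ((t * g * t⁻¹ : Subgroup.centralizer ({z} : Set G)) : G)) = ϑ (z * (g : G))
    have e : z * ((t * g * t⁻¹ : Subgroup.centralizer ({z} : Set G)) : G)
        = (t : G) * (z * (g : G)) * (t : G)⁻¹ := by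
      push_cast
      rw [← mul_assoc, ← mul_assoc, ← mul_assoc, ← hcomm t]
    rw [e, hϑ]
  have hϑ'van : ∀ c' : Subgroup.centralizer ({z} : Set G), ¬ p ∣ orderOf c' → ϑ' c' = 0 := by
    intro c' hc'
    rw [hϑ']
    exact hvan (z * (c' : G)) z
      ⟨(c' : G), rfl, (hcomm c').symm, hzo, by rwa [Subgroup.orderOf_coe]⟩ hxz
  have h3 : ∑ k : Subgroup.centralizer ({z} : Set G), specFun c k * ϑ ((k : G) * u)
      = ∑ k : Subgroup.centralizer ({z} : Set G),
        specFun c k * ϑ' (k * ⟨y, hyC⟩) := by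
    refine Finset.sum_congr rfl fun k _ => ?_
    rw [hϑ']
    show specFun c k * ϑ ((k : G) * u)
      = specFun c k * ϑ (z * ((k * ⟨y, hyC⟩ : Subgroup.centralizer ({z} : Set G)) : G))
    have e : z * ((k * ⟨y, hyC⟩ : Subgroup.centralizer ({z} : Set G)) : G) = (k : G) * u := by
      rw [← hzy]
      push_cast
      rw [← mul_assoc, ← mul_assoc, ← hcomm k]
    rw [e]
  rw [h3, sum_specFun_mul c (fun k => ϑ' (k * ⟨y, hyC⟩))]
  have h4 : ∀ ψ : IrrCharacter (Subgroup.centralizer ({z} : Set G)),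
      ((Nat.card (Subgroup.centralizer ({z} : Set G)) : ℂ)⁻¹ *
        ∑ k : Subgroup.centralizer ({z} : Set G),
          (ψ : Subgroup.centralizer ({z} : Set G) → ℂ) 1
            * starRingEnd ℂ ((ψ : Subgroup.centralizer ({z} : Set G) → ℂ) k)
            * ϑ' (k * ⟨y, hyC⟩))
      = (Nat.card (Subgroup.centralizer ({z} : Set G)) : ℂ)⁻¹ *
        ∑ c' : Subgroup.centralizer ({z} : Set G), ϑ' c' *
          ((ψ : Subgroup.centralizer ({z} : Set G) → ℂ) ⟨y, hyC⟩
            * starRingEnd ℂ ((ψ : Subgroup.centralizer ({z} : Set G) → ℂ) c')) := by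
    intro ψ
    congr 1
    have key := class_inner_shift ϑ' hϑ'cl ψ ⟨y, hyC⟩
    have e : ∑ k : Subgroup.centralizer ({z} : Set G),
          (ψ : Subgroup.centralizer ({z} : Set G) → ℂ) 1
            * starRingEnd ℂ ((ψ : Subgroup.centralizer ({z} : Set G) → ℂ) k)
            * ϑ' (k * ⟨y, hyC⟩)
        = (ψ : Subgroup.centralizer ({z} : Set G) → ℂ) 1
          * ∑ c' : Subgroup.centralizer ({z} : Set G), ϑ' c' * starRingEnd ℂ
            ((ψ : Subgroup.centralizer ({z} : Set G) → ℂ)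
              (c' * (⟨y, hyC⟩ : Subgroup.centralizer ({z} : Set G))⁻¹)) := by
      rw [Finset.mul_sum]
      refine Fintype.sum_equiv (Equiv.mulRight (⟨y, hyC⟩ : Subgroup.centralizer ({z} : Set G)))
        _ _ (fun k => ?_)
      show (ψ : Subgroup.centralizer ({z} : Set G) → ℂ) 1
            * starRingEnd ℂ ((ψ : Subgroup.centralizer ({z} : Set G) → ℂ) k)
            * ϑ' (k * ⟨y, hyC⟩)
        = (ψ : Subgroup.centralizer ({z} : Set G) → ℂ) 1
          * (ϑ' (k * ⟨y, hyC⟩) * starRingEnd ℂ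
            ((ψ : Subgroup.centralizer ({z} : Set G) → ℂ)
              (k * ⟨y, hyC⟩ * (⟨y, hyC⟩ : Subgroup.centralizer ({z} : Set G))⁻¹)))
      rw [mul_inv_cancel_right]
      ring
    rw [e, key, Finset.mul_sum]
    refine Finset.sum_congr rfl fun c' _ => ?_
    ring
  rw [Finset.sum_congr rfl (fun ψ _ => by rw [h4 ψ])]
  have h5 : ∀ ψ : IrrCharacter (Subgroup.centralizer ({z} : Set G)),
      c ψ * ((Nat.card (Subgroup.centralizer ({z} : Set G)) : ℂ)⁻¹ *
        ∑ c' : Subgroup.centralizer ({z} : Set G), ϑ' c' *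
          ((ψ : Subgroup.centralizer ({z} : Set G) → ℂ) ⟨y, hyC⟩
            * starRingEnd ℂ ((ψ : Subgroup.centralizer ({z} : Set G) → ℂ) c')))
      = ∑ c' : Subgroup.centralizer ({z} : Set G),
        (Nat.card (Subgroup.centralizer ({z} : Set G)) : ℂ)⁻¹ * (ϑ' c' * (c ψ *
          ((ψ : Subgroup.centralizer ({z} : Set G) → ℂ) ⟨y, hyC⟩
            * starRingEnd ℂ ((ψ : Subgroup.centralizer ({z} : Set G) → ℂ) c')))) := by
    intro ψ
    rw [Finset.mul_sum, Finset.mul_sum]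
    refine Finset.sum_congr rfl fun c' _ => ?_
    ring
  rw [Finset.sum_congr rfl (fun ψ _ => h5 ψ), Finset.sum_comm]
  refine Finset.sum_eq_zero fun c' _ => ?_
  rw [← Finset.mul_sum, ← Finset.mul_sum]
  by_cases hreg : p ∣ orderOf c'
  · have h6 : ∑ ψ : IrrCharacter (Subgroup.centralizer ({z} : Set G)), c ψ *
          ((ψ : Subgroup.centralizer ({z} : Set G) → ℂ) ⟨y, hyC⟩
            * starRingEnd ℂ ((ψ : Subgroup.centralizer ({z} : Set G) → ℂ) c')) = 0 := by
      refine sum_blockwise (M := M) c (fun ψ =>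
        (ψ : Subgroup.centralizer ({z} : Set G) → ℂ) ⟨y, hyC⟩
            * starRingEnd ℂ ((ψ : Subgroup.centralizer ({z} : Set G) → ℂ) c')) ?_ ?_
      · intro ψ ψ' hsame
        have e := blockOf_eq_of_sameBlock hsame
        by_cases hi : IsInducedBlock M (Subgroup.centralizer ({z} : Set G))
            (blockOf M (ψ : Subgroup.centralizer ({z} : Set G) → ℂ)) (blockOf M (χ₀ : G → ℂ))
        · rw [hc1 ψ hi, hc1 ψ' (e ▸ hi)]
        · rw [hc0 ψ hi, hc0 ψ' (e ▸ hi)]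
      · intro ξ₀ _
        exact weak_block_orth hM ξ₀ ⟨y, hyC⟩ c' hyreg hreg
    rw [h6, mul_zero, mul_zero]
  · rw [hϑ'van c' hreg, zero_mul, mul_zero]

omit [Fintype G] in
theorem isPPart_conj {p : ℕ} (t : G) {g x : G} (h : IsPPart p g x) :
    IsPPart p (t * g * t⁻¹) (t * x * t⁻¹) := by
  obtain ⟨y, hxy, hcomm, ⟨k, hk⟩, hy⟩ := h
  refine ⟨t * y * t⁻¹, ?_, ?_, ⟨k, ?_⟩, ?_⟩
  · rw [← hxy]
    group
  · show t * x * t⁻¹ * (t * y * t⁻¹) = t * y * t⁻¹ * (t * x * t⁻¹)
    calc t * x * t⁻¹ * (t * y * t⁻¹) = t * (x * y) * t⁻¹ := by group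
      _ = t * (y * x) * t⁻¹ := by rw [hcomm.eq]
      _ = t * y * t⁻¹ * (t * x * t⁻¹) := by group
  · rw [orderOf_conj_h5, hk]
  · rw [orderOf_conj_h5]
    exact hy

/-- S0925 (ii), for `B = blockOf M χ₀`: block orthogonality. -/
theorem block_orth {p : ℕ} [Fact p.Prime] {M : Ideal AlgInt} (hM : IsPModular p M)
    [hMp : M.IsPrime] (g h x y : G) (hx : IsPPart p g x) (hy : IsPPart p h y)
    (hne : ¬ IsConj x y) (χ₀ : IrrCharacter G) :
    ∑ᶠ χ ∈ blockOf M (χ₀ : G → ℂ), (χ : G → ℂ) g * (χ : G → ℂ) h⁻¹ = 0 := by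
  classical
  have hp := hM.1
  have hG0 : (Nat.card G : ℂ) ≠ 0 := Nat.cast_ne_zero.mpr Nat.card_pos.ne'
  obtain ⟨ϑ, hϑdef⟩ : ∃ ϑ : G → ℂ, ϑ = fun u : G => if IsConj h u then (1 : ℂ) else 0 :=
    ⟨_, rfl⟩
  have hϑapp : ∀ u : G, ϑ u = if IsConj h u then (1 : ℂ) else 0 := fun u => by rw [hϑdef]
  have hϑ : IsClassFunction G ϑ := by
    intro u t
    rw [hϑapp, hϑapp]
    have e : IsConj h (t * u * t⁻¹) ↔ IsConj h u := by
      constructor
      · intro h1
        exact h1.trans (isConj_iff.mpr ⟨t⁻¹, by group⟩)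
      · intro h1
        exact h1.trans (isConj_iff.mpr ⟨t, rfl⟩)
    simp only [e]
  have hvan : ∀ u z : G, IsPPart p u z → IsConj x z → ϑ u = 0 := by
    intro u z hu hxz
    rw [hϑapp]
    refine if_neg (fun hhu => ?_)
    obtain ⟨t, ht⟩ := isConj_iff.mp hhu
    have h1 := isPPart_conj t hy
    rw [ht] at h1
    have h2 := isPPart_unique hp hu h1
    apply hne
    rw [h2] at hxz
    exact hxz.trans (isConj_iff.mpr ⟨t⁻¹, by group⟩)
  have h0 := block_section_vanish hM ϑ hϑ x hvan χ₀ g x hx (IsConj.refl x)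
  obtain ⟨cG, hcG⟩ : ∃ cG : IrrCharacter G → ℂ,
      cG = fun χ : IrrCharacter G => if χ ∈ blockOf M (χ₀ : G → ℂ) then (1 : ℂ) else 0 :=
    ⟨_, rfl⟩
  have hcG1 : ∀ χ ∈ blockOf M (χ₀ : G → ℂ), cG χ = 1 := fun χ h => by rw [hcG]; exact if_pos h
  have hcG0 : ∀ χ, χ ∉ blockOf M (χ₀ : G → ℂ) → cG χ = 0 := fun χ h => by
    rw [hcG]; exact if_neg h
  rw [blockPart_eq_spec (blockOf M (χ₀ : G → ℂ)) cG hcG1 hcG0 ϑ g] at h0
  have hinner : ∀ χ : IrrCharacter G, classInner ϑ (χ : G → ℂ)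
      = (Nat.card G : ℂ)⁻¹ * ((Subgroup.centralizer ({h} : Set G)).index : ℂ)
        * (χ : G → ℂ) h⁻¹ := by
    intro χ
    unfold classInner
    rw [mul_assoc]
    congr 1
    have e : ∀ u : G, ϑ u * starRingEnd ℂ ((χ : G → ℂ) u)
        = if IsConj h u then (χ : G → ℂ) h⁻¹ else 0 := by
      intro u
      rw [hϑapp]
      by_cases hu : IsConj h u
      · rw [if_pos hu, if_pos hu, one_mul, ← irr_inv]
        obtain ⟨t, ht⟩ := isConj_iff.mp hu
        have e1 : u⁻¹ = t * h⁻¹ * t⁻¹ := by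
          rw [← ht]
          group
        rw [e1, irr_conj]
      · rw [if_neg hu, if_neg hu, zero_mul]
    rw [Finset.sum_congr rfl (fun u _ => e u), ← Finset.sum_filter, Finset.sum_const,
      card_filter_isConj, nsmul_eq_mul]
  have hidx : ((Subgroup.centralizer ({h} : Set G)).index : ℂ) ≠ 0 :=
    Nat.cast_ne_zero.mpr Subgroup.index_ne_zero_of_finite
  rw [finsum_mem_def, finsum_eq_sum_of_fintype]
  have e : ∑ χ : IrrCharacter G, cG χ * (classInner ϑ (χ : G → ℂ) * (χ : G → ℂ) g)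
      = ((Nat.card G : ℂ)⁻¹ * ((Subgroup.centralizer ({h} : Set G)).index : ℂ))
        * ∑ χ : IrrCharacter G, Set.indicator (blockOf M (χ₀ : G → ℂ))
          (fun χ : IrrCharacter G => (χ : G → ℂ) g * (χ : G → ℂ) h⁻¹) χ := by
    rw [Finset.mul_sum]
    refine Finset.sum_congr rfl fun χ _ => ?_
    rw [hinner χ]
    by_cases hχ : χ ∈ blockOf M (χ₀ : G → ℂ)
    · rw [Set.indicator_of_mem hχ, hcG1 χ hχ]
      ring
    · rw [Set.indicator_of_notMem hχ, hcG0 χ hχ]
      ring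
  rw [e] at h0
  exact (mul_eq_zero.mp h0).resolve_left (mul_ne_zero (inv_ne_zero hG0) hidx)

end Blocks

end Cfsg.Agent.Helper5
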