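import Mathlib
import Cfsg.Agent.Helper5.BlkBO
import Cfsg.Agent.Helper5.BlkKer
import Cfsg.Agent.S0936

/-!
helper5: consequences of the Second and Third Main Theorems for the principal block
(S0942, S0947).
-/

set_option autoImplicit false

namespace Cfsg.Agent.Helper5

open Cfsg Cfsg.Agent.Helper24 Cfsg.Agent.Helper22

universe u

section Blocks

variable {G : Type u} [Group G] [Fintype G]

omit [Fintype G] in
theorem principalBlock_eq_blockOf (M : Ideal AlgInt) (t : IrrCharacter G)
    (ht : (t : G → ℂ) = fun _ => 1) : principalBlock M G = blockOf M (t : G → ℂ) := by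
  unfold principalBlock
  rw [ht]

/-- Third Main Theorem for centralizers of `p`-elements. -/
theorem principal_induced_iff {p : ℕ} [Fact p.Prime] {M : Ideal AlgInt} (hM : IsPModular p M)
    [hMp : M.IsPrime] (z : G) (hz : ∃ k : ℕ, orderOf z = p ^ k)
    [Fintype (Subgroup.centralizer ({z} : Set G))]
    (ψ : IrrCharacter (Subgroup.centralizer ({z} : Set G))) :
    IsInducedBlock M (Subgroup.centralizer ({z} : Set G))
        (blockOf M (ψ : Subgroup.centralizer ({z} : Set G) → ℂ)) (principalBlock M G)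
      ↔ ψ ∈ principalBlock M (Subgroup.centralizer ({z} : Set G)) := by
  obtain ⟨χ₁, hind⟩ := cent_induced hM z hz ψ
  have h1 := Cfsg.Agent.S0936.result p M hM (Subgroup.centralizer ({z} : Set G))
    (blockOf M (ψ : Subgroup.centralizer ({z} : Set G) → ℂ)) ⟨_, hind⟩
  rw [h1]
  obtain ⟨triv, htriv⟩ : ∃ t : IrrCharacter (Subgroup.centralizer ({z} : Set G)),
      (t : Subgroup.centralizer ({z} : Set G) → ℂ) = fun _ => 1 :=
    ⟨⟨_, Helper24.isIrrCharacter_one⟩, rfl⟩
  rw [principalBlock_eq_blockOf M triv htriv]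
  constructor
  · intro h
    have h2 : ψ ∈ blockOf M (ψ : Subgroup.centralizer ({z} : Set G) → ℂ) := sameBlock_refl _
    rw [h] at h2
    exact h2
  · intro h
    exact (blockOf_eq_of_sameBlock h).symm

/-- Second + Third Main Theorem: the principal block idempotent of `C_G(z)` acts on `χ` at
elements of the `p`-section of `z` as the projection to the principal block. -/
theorem smt_principal {p : ℕ} [Fact p.Prime] {M : Ideal AlgInt} (hM : IsPModular p M)
    [hMp : M.IsPrime] (z : G) (hz : ∃ k : ℕ, orderOf z = p ^ k)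
    [Fintype (Subgroup.centralizer ({z} : Set G))]
    (χ : IrrCharacter G) (y : Subgroup.centralizer ({z} : Set G)) (hy : ¬ p ∣ orderOf y)
    (d : ℂ) (hd1 : χ ∈ principalBlock M G → d = 1) (hd0 : χ ∉ principalBlock M G → d = 0) :
    ∑ k : Subgroup.centralizer ({z} : Set G),
        blockCoeff (principalBlock M (Subgroup.centralizer ({z} : Set G))) k
          * (χ : G → ℂ) ((k : G) * (z * (y : G)))
      = d * (χ : G → ℂ) (z * (y : G)) := by
  classical
  obtain ⟨triv, htriv⟩ : ∃ t : IrrCharacter G, (t : G → ℂ) = fun _ => 1 :=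
    ⟨⟨_, Helper24.isIrrCharacter_one⟩, rfl⟩
  have hPB := principalBlock_eq_blockOf M triv htriv
  obtain ⟨c, hc⟩ : ∃ c : IrrCharacter (Subgroup.centralizer ({z} : Set G)) → ℂ,
      c = fun ψ : IrrCharacter (Subgroup.centralizer ({z} : Set G)) =>
        if ψ ∈ principalBlock M (Subgroup.centralizer ({z} : Set G)) then (1 : ℂ) else 0 :=
    ⟨_, rfl⟩
  have hβ : ∀ k : Subgroup.centralizer ({z} : Set G),
      blockCoeff (principalBlock M (Subgroup.centralizer ({z} : Set G))) k = specFun c k :=
    fun k => blockCoeff_eq_specFun _ c (fun ψ h => by rw [hc]; exact if_pos h)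
      (fun ψ h => by rw [hc]; exact if_neg h) k
  have hiff := principal_induced_iff hM z hz
  rw [hPB] at hiff hd1 hd0
  have h1 := smt_idem hM z hz triv χ y hy c
    (fun ψ hi => by rw [hc]; exact if_pos ((hiff ψ).mp hi))
    (fun ψ hi => by rw [hc]; exact if_neg (fun h => hi ((hiff ψ).mpr h))) d hd1 hd0
  rw [← h1]
  exact Finset.sum_congr rfl (fun k _ => by rw [hβ k])

/-- S0942. -/
theorem principal_core_const {p : ℕ} [Fact p.Prime] {M : Ideal AlgInt} (hM : IsPModular p M)
    [hMp : M.IsPrime] (u : G) (hu : ∃ k : ℕ, orderOf u = p ^ k) (v : G)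
    (hv : v ∈ centralizerPPrimeCore p u) (χ : IrrCharacter G) (hχ : χ ∈ principalBlock M G) :
    (χ : G → ℂ) (u * v) = (χ : G → ℂ) u := by
  classical
  have hp := hM.1
  haveI : Fintype (Subgroup.centralizer ({u} : Set G)) := Fintype.ofFinite _
  obtain ⟨w, hw, rfl⟩ := hv
  have hcomm : ∀ c : Subgroup.centralizer ({u} : Set G), (c : G) * u = u * (c : G) := fun c =>
    Subgroup.mem_centralizer_singleton_iff.mp c.2
  have hKcop := Cfsg.Agent.Helper9.pPrimeCore_coprime p (Subgroup.centralizer ({u} : Set G))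
  have hpN : ¬ p ∣ Nat.card (pPrimeCore p (Subgroup.centralizer ({u} : Set G))) := fun hd =>
    hp.one_lt.ne' (Nat.Coprime.eq_one_of_dvd hKcop.symm hd)
  have hchar := Cfsg.Agent.Helper9.pPrimeCore_characteristic p
    (Subgroup.centralizer ({u} : Set G))
  have hNn : (pPrimeCore p (Subgroup.centralizer ({u} : Set G))).Normal := inferInstance
  have hwreg : ¬ p ∣ orderOf w := by
    intro hd
    have h1 : orderOf w ∣ Nat.card (pPrimeCore p (Subgroup.centralizer ({u} : Set G))) := by
      have h2 := orderOf_dvd_natCard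
        (⟨w, hw⟩ : pPrimeCore p (Subgroup.centralizer ({u} : Set G)))
      rwa [Subgroup.orderOf_mk] at h2
    exact hpN (hd.trans h1)
  have h1reg : ¬ p ∣ orderOf (1 : Subgroup.centralizer ({u} : Set G)) := by
    rw [orderOf_one]
    exact hp.not_dvd_one
  have hϑ : IsClassFunction (Subgroup.centralizer ({u} : Set G))
      (fun c : Subgroup.centralizer ({u} : Set G) => (χ : G → ℂ) (u * (c : G))) := by
    intro g t
    show (χ : G → ℂ) (u * ((t * g * t⁻¹ : Subgroup.centralizer ({u} : Set G)) : G))
      = (χ : G → ℂ) (u * (g : G))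
    have e : u * ((t * g * t⁻¹ : Subgroup.centralizer ({u} : Set G)) : G)
        = (t : G) * (u * (g : G)) * (t : G)⁻¹ := by
      push_cast
      rw [← mul_assoc, ← mul_assoc, ← mul_assoc, ← hcomm t]
    rw [e, irr_conj]
  have key : ∀ y : Subgroup.centralizer ({u} : Set G), ¬ p ∣ orderOf y →
      (χ : G → ℂ) (u * (y : G))
        = blockPart (principalBlock M (Subgroup.centralizer ({u} : Set G)))
          (fun c : Subgroup.centralizer ({u} : Set G) => (χ : G → ℂ) (u * (c : G))) y := by
    intro y hy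
    rw [blockPart_eq_sum _ _ hϑ y]
    have h1 := smt_principal hM u hu χ y hy 1 (fun _ => rfl) (fun h => absurd hχ h)
    rw [one_mul] at h1
    rw [← h1]
    refine Finset.sum_congr rfl fun k _ => ?_
    congr 1
    show (χ : G → ℂ) ((k : G) * (u * (y : G)))
      = (χ : G → ℂ) (u * ((k * y : Subgroup.centralizer ({u} : Set G)) : G))
    push_cast
    rw [← mul_assoc, ← mul_assoc, ← hcomm k]
  obtain ⟨triv, htriv⟩ : ∃ t : IrrCharacter (Subgroup.centralizer ({u} : Set G)),
      (t : Subgroup.centralizer ({u} : Set G) → ℂ) = fun _ => 1 :=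
    ⟨⟨_, Helper24.isIrrCharacter_one⟩, rfl⟩
  have hPB := principalBlock_eq_blockOf M triv htriv
  have e1 := key w hwreg
  have e2 := key 1 h1reg
  have e3 : blockPart (principalBlock M (Subgroup.centralizer ({u} : Set G)))
        (fun c : Subgroup.centralizer ({u} : Set G) => (χ : G → ℂ) (u * (c : G))) w
      = blockPart (principalBlock M (Subgroup.centralizer ({u} : Set G)))
        (fun c : Subgroup.centralizer ({u} : Set G) => (χ : G → ℂ) (u * (c : G))) 1 := by
    unfold blockPart
    refine finsum_mem_congr rfl fun ψ hψ => ?_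
    congr 1
    rw [hPB] at hψ
    exact ker_of_sameBlock hM (pPrimeCore p (Subgroup.centralizer ({u} : Set G))) hpN triv ψ
      hψ (fun g _ => by rw [htriv]) w hw
  show (χ : G → ℂ) (u * (w : G)) = (χ : G → ℂ) u
  rw [e1, e3, ← e2, Subgroup.coe_one, mul_one]

end Blocks

end Cfsg.Agent.Helper5
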