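import Mathlib
import Cfsg.Agent.Helper5.BlkSec2

/-!
helper5: the pairing of the `B`-part on a `p`-section with blocks of the centralizer (S0947).
-/

set_option autoImplicit false

namespace Cfsg.Agent.Helper5

open Cfsg Cfsg.Agent.Helper24 Cfsg.Agent.Helper22

universe u

section Blocks

variable {G : Type u} [Group G] [Fintype G]

/-- for `p`-regular `y, y'` in `C = C_G(z)`, the sum over `χ ∈ B` of `χ (z y) conj (χ (z y'))`
equals the sum over the `ψ` in blocks of `C` inducing `B` of `ψ y conj (ψ y')`. -/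
theorem section_pairing {p : ℕ} [Fact p.Prime] {M : Ideal AlgInt} (hM : IsPModular p M)
    [hMp : M.IsPrime] (z : G) (hz : ∃ k : ℕ, orderOf z = p ^ k)
    [Fintype (Subgroup.centralizer ({z} : Set G))]
    (χ₀ : IrrCharacter G) (y y' : Subgroup.centralizer ({z} : Set G)) (hy : ¬ p ∣ orderOf y)
    (hy' : ¬ p ∣ orderOf y')
    (c : IrrCharacter (Subgroup.centralizer ({z} : Set G)) → ℂ)
    (hc1 : ∀ ψ : IrrCharacter (Subgroup.centralizer ({z} : Set G)),
      IsInducedBlock M (Subgroup.centralizer ({z} : Set G))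
        (blockOf M (ψ : Subgroup.centralizer ({z} : Set G) → ℂ)) (blockOf M (χ₀ : G → ℂ)) →
        c ψ = 1)
    (hc0 : ∀ ψ : IrrCharacter (Subgroup.centralizer ({z} : Set G)),
      ¬ IsInducedBlock M (Subgroup.centralizer ({z} : Set G))
        (blockOf M (ψ : Subgroup.centralizer ({z} : Set G) → ℂ)) (blockOf M (χ₀ : G → ℂ)) →
        c ψ = 0)
    (cG : IrrCharacter G → ℂ) (hcG1 : ∀ χ ∈ blockOf M (χ₀ : G → ℂ), cG χ = 1)
    (hcG0 : ∀ χ, χ ∉ blockOf M (χ₀ : G → ℂ) → cG χ = 0) :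
    ∑ χ : IrrCharacter G, cG χ * ((χ : G → ℂ) (z * (y : G))
        * starRingEnd ℂ ((χ : G → ℂ) (z * (y' : G))))
      = ∑ ψ : IrrCharacter (Subgroup.centralizer ({z} : Set G)), c ψ *
        ((ψ : Subgroup.centralizer ({z} : Set G) → ℂ) y
          * starRingEnd ℂ ((ψ : Subgroup.centralizer ({z} : Set G) → ℂ) y')) := by
  classical
  have hp := hM.1
  have hC0 : (Nat.card (Subgroup.centralizer ({z} : Set G)) : ℂ) ≠ 0 :=
    Nat.cast_ne_zero.mpr Nat.card_pos.ne'
  have hzC : z ∈ Subgroup.centralizer ({z} : Set G) :=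
    Subgroup.mem_centralizer_singleton_iff.mpr rfl
  have hcomm : ∀ c : Subgroup.centralizer ({z} : Set G), (c : G) * z = z * (c : G) := fun c =>
    Subgroup.mem_centralizer_singleton_iff.mp c.2
  have hclaim : ∀ χ : IrrCharacter G, cG χ * (χ : G → ℂ) (z * (y : G))
      = ∑ k : Subgroup.centralizer ({z} : Set G),
        specFun c k * (χ : G → ℂ) ((k : G) * (z * (y : G))) := fun χ =>
    (smt_idem hM z hz χ₀ χ y hy c hc1 hc0 (cG χ) (hcG1 χ) (hcG0 χ)).symm
  obtain ⟨ϑ', hϑ'⟩ : ∃ ϑ' : Subgroup.centralizer ({z} : Set G) → ℂ,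
      ϑ' = fun c' : Subgroup.centralizer ({z} : Set G) =>
        ∑ χ : IrrCharacter G, (χ : G → ℂ) (z * (c' : G))
          * starRingEnd ℂ ((χ : G → ℂ) (z * (y' : G))) := ⟨_, rfl⟩
  have hϑ'app : ∀ c' : Subgroup.centralizer ({z} : Set G), ϑ' c'
      = ∑ χ : IrrCharacter G, (χ : G → ℂ) (z * (c' : G))
          * starRingEnd ℂ ((χ : G → ℂ) (z * (y' : G))) := fun c' => by rw [hϑ']
  have hϑ'cl : IsClassFunction (Subgroup.centralizer ({z} : Set G)) ϑ' := by
    intro g t
    rw [hϑ'app, hϑ'app]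
    refine Finset.sum_congr rfl fun χ _ => ?_
    congr 1
    have e : z * ((t * g * t⁻¹ : Subgroup.centralizer ({z} : Set G)) : G)
        = (t : G) * (z * (g : G)) * (t : G)⁻¹ := by
      push_cast
      rw [← mul_assoc, ← mul_assoc, ← mul_assoc, ← hcomm t]
    rw [e, irr_conj]
  have h1 : ∑ χ : IrrCharacter G, cG χ * ((χ : G → ℂ) (z * (y : G))
        * starRingEnd ℂ ((χ : G → ℂ) (z * (y' : G))))
      = ∑ k : Subgroup.centralizer ({z} : Set G), specFun c k * ϑ' (k * y) := by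
    have h3 : ∀ χ : IrrCharacter G, cG χ * ((χ : G → ℂ) (z * (y : G))
        * starRingEnd ℂ ((χ : G → ℂ) (z * (y' : G))))
        = ∑ k : Subgroup.centralizer ({z} : Set G), specFun c k *
          ((χ : G → ℂ) ((k : G) * (z * (y : G)))
            * starRingEnd ℂ ((χ : G → ℂ) (z * (y' : G)))) := by
      intro χ
      rw [← mul_assoc, hclaim χ, Finset.sum_mul]
      refine Finset.sum_congr rfl fun k _ => ?_
      ring
    rw [Finset.sum_congr rfl (fun χ _ => h3 χ), Finset.sum_comm]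
    refine Finset.sum_congr rfl fun k _ => ?_
    rw [← Finset.mul_sum, hϑ'app]
    congr 1
    refine Finset.sum_congr rfl fun χ _ => ?_
    congr 2
    push_cast
    rw [← mul_assoc, ← mul_assoc, hcomm k]
  rw [h1, sum_specFun_mul c (fun k => ϑ' (k * y))]
  have h4 : ∀ ψ : IrrCharacter (Subgroup.centralizer ({z} : Set G)),
      ((Nat.card (Subgroup.centralizer ({z} : Set G)) : ℂ)⁻¹ *
        ∑ k : Subgroup.centralizer ({z} : Set G),
          (ψ : Subgroup.centralizer ({z} : Set G) → ℂ) 1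
            * starRingEnd ℂ ((ψ : Subgroup.centralizer ({z} : Set G) → ℂ) k)
            * ϑ' (k * y))
      = (Nat.card (Subgroup.centralizer ({z} : Set G)) : ℂ)⁻¹ *
        ∑ c' : Subgroup.centralizer ({z} : Set G), ϑ' c' *
          ((ψ : Subgroup.centralizer ({z} : Set G) → ℂ) y
            * starRingEnd ℂ ((ψ : Subgroup.centralizer ({z} : Set G) → ℂ) c')) := by
    intro ψ
    congr 1
    have key := class_inner_shift ϑ' hϑ'cl ψ y
    have e : ∑ k : Subgroup.centralizer ({z} : Set G),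
          (ψ : Subgroup.centralizer ({z} : Set G) → ℂ) 1
            * starRingEnd ℂ ((ψ : Subgroup.centralizer ({z} : Set G) → ℂ) k)
            * ϑ' (k * y)
        = (ψ : Subgroup.centralizer ({z} : Set G) → ℂ) 1
          * ∑ c' : Subgroup.centralizer ({z} : Set G), ϑ' c' * starRingEnd ℂ
            ((ψ : Subgroup.centralizer ({z} : Set G) → ℂ) (c' * y⁻¹)) := by
      rw [Finset.mul_sum]
      refine Fintype.sum_equiv (Equiv.mulRight y) _ _ (fun k => ?_)
      show (ψ : Subgroup.centralizer ({z} : Set G) → ℂ) 1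
            * starRingEnd ℂ ((ψ : Subgroup.centralizer ({z} : Set G) → ℂ) k)
            * ϑ' (k * y)
        = (ψ : Subgroup.centralizer ({z} : Set G) → ℂ) 1
          * (ϑ' (k * y) * starRingEnd ℂ
            ((ψ : Subgroup.centralizer ({z} : Set G) → ℂ) (k * y * y⁻¹)))
      rw [mul_inv_cancel_right]
      ring
    rw [e, key, Finset.mul_sum]
    refine Finset.sum_congr rfl fun c' _ => ?_
    ring
  rw [Finset.sum_congr rfl (fun ψ _ => by rw [h4 ψ])]
  have h5 : ∀ ψ : IrrCharacter (Subgroup.centralizer ({z} : Set G)),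
      c ψ * ((Nat.card (Subgroup.centralizer ({z} : Set G)) : ℂ)⁻¹ *
        ∑ c' : Subgroup.centralizer ({z} : Set G), ϑ' c' *
          ((ψ : Subgroup.centralizer ({z} : Set G) → ℂ) y
            * starRingEnd ℂ ((ψ : Subgroup.centralizer ({z} : Set G) → ℂ) c')))
      = ∑ c' : Subgroup.centralizer ({z} : Set G),
        (Nat.card (Subgroup.centralizer ({z} : Set G)) : ℂ)⁻¹ * (ϑ' c' * (c ψ *
          ((ψ : Subgroup.centralizer ({z} : Set G) → ℂ) y
            * starRingEnd ℂ ((ψ : Subgroup.centralizer ({z} : Set G) → ℂ) c')))) := by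
    intro ψ
    rw [Finset.mul_sum, Finset.mul_sum]
    refine Finset.sum_congr rfl fun c' _ => ?_
    ring
  rw [Finset.sum_congr rfl (fun ψ _ => h5 ψ), Finset.sum_comm]
  obtain ⟨F, hF⟩ : ∃ F : Subgroup.centralizer ({z} : Set G) → ℂ,
      F = fun c' : Subgroup.centralizer ({z} : Set G) =>
        ∑ ψ : IrrCharacter (Subgroup.centralizer ({z} : Set G)), c ψ *
          ((ψ : Subgroup.centralizer ({z} : Set G) → ℂ) y
            * starRingEnd ℂ ((ψ : Subgroup.centralizer ({z} : Set G) → ℂ) c')) := ⟨_, rfl⟩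
  have hFapp : ∀ c' : Subgroup.centralizer ({z} : Set G), F c'
      = ∑ ψ : IrrCharacter (Subgroup.centralizer ({z} : Set G)), c ψ *
          ((ψ : Subgroup.centralizer ({z} : Set G) → ℂ) y
            * starRingEnd ℂ ((ψ : Subgroup.centralizer ({z} : Set G) → ℂ) c')) :=
    fun c' => by rw [hF]
  have hFcl : ∀ t c' : Subgroup.centralizer ({z} : Set G), F (t⁻¹ * c' * t) = F c' := by
    intro t c'
    rw [hFapp, hFapp]
    refine Finset.sum_congr rfl fun ψ _ => ?_
    have e : t⁻¹ * c' * t = t⁻¹ * c' * t⁻¹⁻¹ := by rw [inv_inv]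
    rw [e, irr_conj]
  have hFsing : ∀ c' : Subgroup.centralizer ({z} : Set G), p ∣ orderOf c' → F c' = 0 := by
    intro c' hreg
    rw [hFapp]
    refine sum_blockwise (M := M) c (fun ψ =>
      (ψ : Subgroup.centralizer ({z} : Set G) → ℂ) y
          * starRingEnd ℂ ((ψ : Subgroup.centralizer ({z} : Set G) → ℂ) c')) ?_ ?_
    · intro ψ ψ' hsame
      have e := blockOf_eq_of_sameBlock hsame
      by_cases hi : IsInducedBlock M (Subgroup.centralizer ({z} : Set G))
          (blockOf M (ψ : Subgroup.centralizer ({z} : Set G) → ℂ)) (blockOf M (χ₀ : G → ℂ))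
      · rw [hc1 ψ hi, hc1 ψ' (e ▸ hi)]
      · rw [hc0 ψ hi, hc0 ψ' (e ▸ hi)]
    · intro ξ₀ _
      exact weak_block_orth hM ξ₀ y c' hy hreg
  have hppy' : IsPPart p (z * (y' : G)) z :=
    ⟨(y' : G), rfl, (hcomm y').symm, hz, by rwa [Subgroup.orderOf_coe]⟩
  have hreg : ∀ c' : Subgroup.centralizer ({z} : Set G), ¬ p ∣ orderOf c' →
      ϑ' c' = ∑ x : Subgroup.centralizer ({z} : Set G),
        if x * c' * x⁻¹ = y' then (1 : ℂ) else 0 := by
    intro c' hc'
    have hppc' : IsPPart p (z * (c' : G)) z :=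
      ⟨(c' : G), rfl, (hcomm c').symm, hz, by rwa [Subgroup.orderOf_coe]⟩
    rw [hϑ'app, sum_irr_mul_conj_eq_card (z * (c' : G)) (z * (y' : G)), Finset.sum_boole]
    congr 1
    refine (Finset.card_bij (fun (x : Subgroup.centralizer ({z} : Set G)) _ => (x : G))
      ?_ ?_ ?_).symm
    · intro x hx
      simp only [Finset.mem_filter, Finset.mem_univ, true_and] at hx ⊢
      have hx' : (x : G) * (c' : G) * (x : G)⁻¹ = (y' : G) := by
        rw [← hx]
        push_cast
        rfl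
      rw [← hx', ← mul_assoc, hcomm x]
      group
    · intro a _ b _ hab
      exact Subtype.ext hab
    · intro x hx
      simp only [Finset.mem_filter, Finset.mem_univ, true_and] at hx
      have h2 := isPPart_conj x hppc'
      rw [hx] at h2
      have hxz : x * z * x⁻¹ = z := (isPPart_unique hp hppy' h2).symm
      have hxC : x ∈ Subgroup.centralizer ({z} : Set G) := by
        rw [Subgroup.mem_centralizer_singleton_iff]
        calc x * z = x * z * x⁻¹ * x := by group
          _ = z * x := by rw [hxz]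
      refine ⟨⟨x, hxC⟩, ?_, rfl⟩
      simp only [Finset.mem_filter, Finset.mem_univ, true_and]
      apply Subtype.ext
      push_cast
      show x * (c' : G) * x⁻¹ = (y' : G)
      have e : x * (c' : G) * x⁻¹ = (x * z * x⁻¹)⁻¹ * (x * (z * (c' : G)) * x⁻¹) := by group
      rw [e, hx, hxz, inv_mul_cancel_left]
  have hterm : ∀ c' : Subgroup.centralizer ({z} : Set G),
      ∑ ψ : IrrCharacter (Subgroup.centralizer ({z} : Set G)),
        (Nat.card (Subgroup.centralizer ({z} : Set G)) : ℂ)⁻¹ * (ϑ' c' * (c ψ *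
          ((ψ : Subgroup.centralizer ({z} : Set G) → ℂ) y
            * starRingEnd ℂ ((ψ : Subgroup.centralizer ({z} : Set G) → ℂ) c'))))
      = (Nat.card (Subgroup.centralizer ({z} : Set G)) : ℂ)⁻¹ *
        ∑ x : Subgroup.centralizer ({z} : Set G), if x * c' * x⁻¹ = y' then F c' else 0 := by
    intro c'
    rw [← Finset.mul_sum, ← Finset.mul_sum, ← hFapp]
    congr 1
    by_cases hc' : p ∣ orderOf c'
    · rw [hFsing c' hc', mul_zero]
      simp
    · rw [hreg c' hc', Finset.sum_mul]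
      refine Finset.sum_congr rfl fun x _ => ?_
      by_cases hx : x * c' * x⁻¹ = y'
      · rw [if_pos hx, if_pos hx, one_mul]
      · rw [if_neg hx, if_neg hx, zero_mul]
  rw [Finset.sum_congr rfl (fun c' _ => hterm c'), ← Finset.mul_sum, Finset.sum_comm]
  have hx : ∀ x : Subgroup.centralizer ({z} : Set G),
      ∑ c' : Subgroup.centralizer ({z} : Set G), (if x * c' * x⁻¹ = y' then F c' else 0)
        = F y' := by
    intro x
    rw [Finset.sum_eq_single (x⁻¹ * y' * x)]
    · rw [if_pos (by group), hFcl]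
    · intro b _ hb
      refine if_neg (fun h => hb ?_)
      rw [← h]
      group
    · intro h
      exact absurd (Finset.mem_univ _) h
  rw [Finset.sum_congr rfl (fun x _ => hx x), Finset.sum_const, Finset.card_univ, nsmul_eq_mul,
    ← Nat.card_eq_fintype_card, ← mul_assoc, inv_mul_cancel₀ hC0, one_mul, hFapp]

/-- S0947 (i). -/
theorem principal_section_norm {p : ℕ} [Fact p.Prime] {M : Ideal AlgInt} (hM : IsPModular p M)
    [hMp : M.IsPrime] (z : G) (hz : ∃ k : ℕ, orderOf z = p ^ k)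
    [Fintype (Subgroup.centralizer ({z} : Set G))]
    (y : Subgroup.centralizer ({z} : Set G)) (hy : ¬ p ∣ orderOf y) :
    ∑ᶠ ζ ∈ principalBlock M G, ‖(ζ : G → ℂ) (z * (y : G))‖ ^ 2
      = ∑ᶠ χ ∈ principalBlock M (Subgroup.centralizer ({z} : Set G)),
        ‖(χ : Subgroup.centralizer ({z} : Set G) → ℂ) y‖ ^ 2 := by
  classical
  obtain ⟨triv, htriv⟩ : ∃ t : IrrCharacter G, (t : G → ℂ) = fun _ => 1 :=
    ⟨⟨_, Helper24.isIrrCharacter_one⟩, rfl⟩
  have hPB := principalBlock_eq_blockOf M triv htriv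
  obtain ⟨c, hc⟩ : ∃ c : IrrCharacter (Subgroup.centralizer ({z} : Set G)) → ℂ,
      c = fun ψ : IrrCharacter (Subgroup.centralizer ({z} : Set G)) =>
        if ψ ∈ principalBlock M (Subgroup.centralizer ({z} : Set G)) then (1 : ℂ) else 0 :=
    ⟨_, rfl⟩
  have hc1' : ∀ ψ ∈ principalBlock M (Subgroup.centralizer ({z} : Set G)), c ψ = 1 :=
    fun ψ h => by rw [hc]; exact if_pos h
  have hc0' : ∀ ψ, ψ ∉ principalBlock M (Subgroup.centralizer ({z} : Set G)) → c ψ = 0 :=
    fun ψ h => by rw [hc]; exact if_neg h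
  obtain ⟨cG, hcG⟩ : ∃ cG : IrrCharacter G → ℂ,
      cG = fun χ : IrrCharacter G => if χ ∈ principalBlock M G then (1 : ℂ) else 0 :=
    ⟨_, rfl⟩
  have hcG1 : ∀ χ ∈ principalBlock M G, cG χ = 1 := fun χ h => by rw [hcG]; exact if_pos h
  have hcG0 : ∀ χ, χ ∉ principalBlock M G → cG χ = 0 := fun χ h => by
    rw [hcG]; exact if_neg h
  have hL : ((∑ᶠ ζ ∈ principalBlock M G, ‖(ζ : G → ℂ) (z * (y : G))‖ ^ 2 : ℝ) : ℂ)
      = ∑ ζ : IrrCharacter G, cG ζ * ((ζ : G → ℂ) (z * (y : G))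
        * starRingEnd ℂ ((ζ : G → ℂ) (z * (y : G)))) := by
    rw [finsum_mem_def, finsum_eq_sum_of_fintype, Complex.ofReal_sum]
    refine Finset.sum_congr rfl fun ζ _ => ?_
    by_cases h : ζ ∈ principalBlock M G
    · rw [Set.indicator_of_mem h, hcG1 ζ h, one_mul, Complex.mul_conj', Complex.ofReal_pow]
    · rw [Set.indicator_of_notMem h, hcG0 ζ h, zero_mul, Complex.ofReal_zero]
  have hR : ((∑ᶠ χ ∈ principalBlock M (Subgroup.centralizer ({z} : Set G)),
        ‖(χ : Subgroup.centralizer ({z} : Set G) → ℂ) y‖ ^ 2 : ℝ) : ℂ)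
      = ∑ ψ : IrrCharacter (Subgroup.centralizer ({z} : Set G)), c ψ *
        ((ψ : Subgroup.centralizer ({z} : Set G) → ℂ) y
          * starRingEnd ℂ ((ψ : Subgroup.centralizer ({z} : Set G) → ℂ) y)) := by
    rw [finsum_mem_def, finsum_eq_sum_of_fintype, Complex.ofReal_sum]
    refine Finset.sum_congr rfl fun ψ _ => ?_
    by_cases h : ψ ∈ principalBlock M (Subgroup.centralizer ({z} : Set G))
    · rw [Set.indicator_of_mem h, hc1' ψ h, one_mul, Complex.mul_conj', Complex.ofReal_pow]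
    · rw [Set.indicator_of_notMem h, hc0' ψ h, zero_mul, Complex.ofReal_zero]
  apply Complex.ofReal_injective
  rw [hL, hR]
  have hiff := principal_induced_iff hM z hz
  rw [hPB] at hiff hcG1 hcG0
  exact section_pairing hM z hz triv y y hy hy c
    (fun ψ hi => hc1' ψ ((hiff ψ).mp hi))
    (fun ψ hi => hc0' ψ (fun h => hi ((hiff ψ).mpr h))) cG hcG1 hcG0

/-- in a group with a normal `p`-complement, the squares of the degrees in the principal block
add up to the index of the complement. -/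
theorem principal_sum_sq {p : ℕ} [Fact p.Prime] {M : Ideal AlgInt} (hM : IsPModular p M)
    [hMp : M.IsPrime] (hnc : ∃ k : ℕ, (pPrimeCore p G).index = p ^ k) :
    ∑ᶠ χ ∈ principalBlock M G, ‖(χ : G → ℂ) 1‖ ^ 2 = ((pPrimeCore p G).index : ℝ) := by
  classical
  have hp := hM.1
  have hG0 : (Nat.card G : ℂ) ≠ 0 := Nat.cast_ne_zero.mpr Nat.card_pos.ne'
  have hchar := Cfsg.Agent.Helper9.pPrimeCore_characteristic p G
  have hNn : (pPrimeCore p G).Normal := inferInstance
  have hpN : ¬ p ∣ Nat.card (pPrimeCore p G) := fun hd =>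
    hp.one_lt.ne' (Nat.Coprime.eq_one_of_dvd (Cfsg.Agent.Helper9.pPrimeCore_coprime p G).symm hd)
  obtain ⟨triv, htriv⟩ : ∃ t : IrrCharacter G, (t : G → ℂ) = fun _ => 1 :=
    ⟨⟨_, Helper24.isIrrCharacter_one⟩, rfl⟩
  have hPB := principalBlock_eq_blockOf M triv htriv
  obtain ⟨cG, hcG⟩ : ∃ cG : IrrCharacter G → ℂ,
      cG = fun χ : IrrCharacter G => if χ ∈ principalBlock M G then (1 : ℂ) else 0 :=
    ⟨_, rfl⟩
  have hcG1 : ∀ χ ∈ principalBlock M G, cG χ = 1 := fun χ h => by rw [hcG]; exact if_pos h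
  have hcG0 : ∀ χ, χ ∉ principalBlock M G → cG χ = 0 := fun χ h => by
    rw [hcG]; exact if_neg h
  obtain ⟨S, hS⟩ : ∃ S : ℂ, S = ∑ ψ : IrrCharacter G, cG ψ *
      ((ψ : G → ℂ) 1 * starRingEnd ℂ ((ψ : G → ℂ) 1)) := ⟨_, rfl⟩
  have hL : ((∑ᶠ χ ∈ principalBlock M G, ‖(χ : G → ℂ) 1‖ ^ 2 : ℝ) : ℂ) = S := by
    rw [hS, finsum_mem_def, finsum_eq_sum_of_fintype, Complex.ofReal_sum]
    refine Finset.sum_congr rfl fun ζ _ => ?_
    by_cases h : ζ ∈ principalBlock M G
    · rw [Set.indicator_of_mem h, hcG1 ζ h, one_mul, Complex.mul_conj', Complex.ofReal_pow]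
    · rw [Set.indicator_of_notMem h, hcG0 ζ h, zero_mul, Complex.ofReal_zero]
  have hT1 : ∀ g : G, g ∈ pPrimeCore p G →
      ∑ ψ : IrrCharacter G, cG ψ * ((ψ : G → ℂ) 1 * starRingEnd ℂ ((ψ : G → ℂ) g)) = S := by
    intro g hg
    rw [hS]
    refine Finset.sum_congr rfl fun ψ _ => ?_
    by_cases h : ψ ∈ principalBlock M G
    · have h' := h
      rw [hPB] at h'
      rw [ker_of_sameBlock hM (pPrimeCore p G) hpN triv ψ h' (fun g _ => by rw [htriv]) g hg]
    · rw [hcG0 ψ h, zero_mul, zero_mul]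
  have hT0 : ∀ g : G, g ∉ pPrimeCore p G →
      ∑ ψ : IrrCharacter G, cG ψ * ((ψ : G → ℂ) 1 * starRingEnd ℂ ((ψ : G → ℂ) g)) = 0 := by
    intro g hg
    have hsing : p ∣ orderOf g := by
      by_contra hreg
      exact hg (mem_of_not_dvd_orderOf_of_index (pPrimeCore p G) hnc hp hreg)
    have h1 := weak_block_orth hM triv 1 g (by rw [orderOf_one]; exact hp.not_dvd_one) hsing
    rw [← hPB, finsum_mem_def, finsum_eq_sum_of_fintype] at h1
    rw [← h1]
    refine Finset.sum_congr rfl fun ψ _ => ?_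
    by_cases h : ψ ∈ principalBlock M G
    · rw [Set.indicator_of_mem h, hcG1 ψ h, one_mul]
    · rw [Set.indicator_of_notMem h, hcG0 ψ h, zero_mul]
  have hsum1 : ∑ g : G, ∑ ψ : IrrCharacter G,
      cG ψ * ((ψ : G → ℂ) 1 * starRingEnd ℂ ((ψ : G → ℂ) g))
        = (Nat.card (pPrimeCore p G) : ℂ) * S := by
    have e : ∀ g : G, ∑ ψ : IrrCharacter G,
        cG ψ * ((ψ : G → ℂ) 1 * starRingEnd ℂ ((ψ : G → ℂ) g))
          = if g ∈ pPrimeCore p G then S else 0 := by
      intro g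
      by_cases hg : g ∈ pPrimeCore p G
      · rw [if_pos hg, hT1 g hg]
      · rw [if_neg hg, hT0 g hg]
    rw [Finset.sum_congr rfl (fun g _ => e g), ← Finset.sum_filter, Finset.sum_const,
      nsmul_eq_mul]
    congr 1
    rw [Nat.card_eq_fintype_card, Fintype.card_subtype]
  have hsum2 : ∑ g : G, ∑ ψ : IrrCharacter G,
      cG ψ * ((ψ : G → ℂ) 1 * starRingEnd ℂ ((ψ : G → ℂ) g)) = (Nat.card G : ℂ) := by
    rw [Finset.sum_comm, Finset.sum_eq_single triv]
    · have htm : triv ∈ principalBlock M G := by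
        rw [hPB]
        exact sameBlock_refl _
      rw [hcG1 triv htm, htriv]
      simp [Nat.card_eq_fintype_card]
    · intro ψ _ hψ
      have hne : (ψ : G → ℂ) ≠ fun _ => 1 := by
        intro he
        apply hψ
        exact Subtype.ext (he.trans htriv.symm)
      rw [← Finset.mul_sum, ← Finset.mul_sum, ← map_sum, sum_irr_eq_zero ψ hne, map_zero,
        mul_zero, mul_zero]
    · intro h
      exact absurd (Finset.mem_univ _) h
  rw [hsum2] at hsum1
  apply Complex.ofReal_injective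
  rw [hL]
  have hK0 : (Nat.card (pPrimeCore p G) : ℂ) ≠ 0 := Nat.cast_ne_zero.mpr Nat.card_pos.ne'
  have hidx : (Nat.card G : ℂ) = (Nat.card (pPrimeCore p G) : ℂ) * ((pPrimeCore p G).index : ℂ) := by
    rw [← Nat.cast_mul, Subgroup.card_mul_index]
  rw [hidx] at hsum1
  have := mul_left_cancel₀ hK0 hsum1
  rw [← this]
  simp

/-- S0947 (ii). -/
theorem principal_section_norm_compl {p : ℕ} [Fact p.Prime] {M : Ideal AlgInt}
    (hM : IsPModular p M) [hMp : M.IsPrime] (z : G) (hz : ∃ k : ℕ, orderOf z = p ^ k)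
    [Fintype (Subgroup.centralizer ({z} : Set G))]
    (y : Subgroup.centralizer ({z} : Set G)) (hy : ¬ p ∣ orderOf y)
    (hnc : ∃ k : ℕ, (pPrimeCore p (Subgroup.centralizer ({z} : Set G))).index = p ^ k) :
    ∑ᶠ ζ ∈ principalBlock M G, ‖(ζ : G → ℂ) (z * (y : G))‖ ^ 2
      = ((p ^ (Nat.card (Subgroup.centralizer ({z} : Set G))).factorization p : ℕ) : ℝ) := by
  classical
  have hp := hM.1
  rw [principal_section_norm hM z hz y hy]
  have hchar := Cfsg.Agent.Helper9.pPrimeCore_characteristic p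
    (Subgroup.centralizer ({z} : Set G))
  have hNn : (pPrimeCore p (Subgroup.centralizer ({z} : Set G))).Normal := inferInstance
  have hpN : ¬ p ∣ Nat.card (pPrimeCore p (Subgroup.centralizer ({z} : Set G))) := fun hd =>
    hp.one_lt.ne' (Nat.Coprime.eq_one_of_dvd
      (Cfsg.Agent.Helper9.pPrimeCore_coprime p (Subgroup.centralizer ({z} : Set G))).symm hd)
  have hyK : y ∈ pPrimeCore p (Subgroup.centralizer ({z} : Set G)) :=
    mem_of_not_dvd_orderOf_of_index _ hnc hp hy
  obtain ⟨triv, htriv⟩ : ∃ t : IrrCharacter (Subgroup.centralizer ({z} : Set G)),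
      (t : Subgroup.centralizer ({z} : Set G) → ℂ) = fun _ => 1 :=
    ⟨⟨_, Helper24.isIrrCharacter_one⟩, rfl⟩
  have hPB := principalBlock_eq_blockOf M triv htriv
  have e1 : ∑ᶠ χ ∈ principalBlock M (Subgroup.centralizer ({z} : Set G)),
        ‖(χ : Subgroup.centralizer ({z} : Set G) → ℂ) y‖ ^ 2
      = ∑ᶠ χ ∈ principalBlock M (Subgroup.centralizer ({z} : Set G)),
        ‖(χ : Subgroup.centralizer ({z} : Set G) → ℂ) 1‖ ^ 2 := by
    refine finsum_mem_congr rfl fun ψ hψ => ?_
    rw [hPB] at hψ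
    rw [ker_of_sameBlock hM (pPrimeCore p (Subgroup.centralizer ({z} : Set G))) hpN triv ψ
      hψ (fun g _ => by rw [htriv]) y hyK]
  rw [e1, principal_sum_sq hM hnc]
  obtain ⟨k, hk⟩ := hnc
  have hcard := Subgroup.card_mul_index (pPrimeCore p (Subgroup.centralizer ({z} : Set G)))
  rw [hk] at hcard
  have hK0 : Nat.card (pPrimeCore p (Subgroup.centralizer ({z} : Set G))) ≠ 0 :=
    Nat.card_pos.ne'
  have hfac : (Nat.card (Subgroup.centralizer ({z} : Set G))).factorization p = k := by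
    rw [← hcard, Nat.factorization_mul hK0 (pow_ne_zero k hp.ne_zero), Finsupp.add_apply,
      Nat.factorization_eq_zero_of_not_dvd hpN, zero_add, hp.factorization_pow,
      Finsupp.single_eq_same]
  rw [hfac, hk]

end Blocks

end Cfsg.Agent.Helper5
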