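import Mathlib
import Cfsg.Agent.Helper5.BlkSec3
import Cfsg.Agent.Helper5.BlkOrth2
import Cfsg.Agent.Helper5.BlkVan
import Cfsg.Agent.Helper5.BlkHt
import Cfsg.Agent.Helper5.BlkDefect
import Cfsg.Agent.S0961

/-!
helper5: real-valued characters and `2`-blocks; the principal block of a `p'`-group.
-/

set_option autoImplicit false

namespace Cfsg.Agent.Helper5

open Cfsg Cfsg.Agent.Helper24 Cfsg.Agent.Helper22

universe u

/-- a sum over a finite set with a fixed-point-free involution, along which the summand is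
constant modulo the local ideal, lies in the local ideal (for the prime `2`). -/
theorem sum_invol_memLocalIdeal {M : Ideal AlgInt} (hM : IsPModular 2 M) [hMp : M.IsPrime]
    {α : Type*} [DecidableEq α] (σ : α → α) (f : α → ℂ) :
    ∀ (n : ℕ) (T : Finset α), T.card = n → (∀ x ∈ T, σ x ∈ T) → (∀ x ∈ T, σ (σ x) = x) →
      (∀ x ∈ T, σ x ≠ x) → (∀ x ∈ T, MemLocalIdeal M (f (σ x) - f x)) →
      (∀ x ∈ T, MemLocalRing M (f x)) → MemLocalIdeal M (∑ x ∈ T, f x) := by
  intro n
  induction n using Nat.strong_induction_on with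
  | _ n ih =>
    intro T hcard hσT hσσ hfix hf hint
    rcases T.eq_empty_or_nonempty with rfl | ⟨x, hx⟩
    · rw [Finset.sum_empty]
      exact memLocalIdeal_zero hMp.ne_top
    · have hsx : σ x ∈ T.erase x := Finset.mem_erase.mpr ⟨hfix x hx, hσT x hx⟩
      have h1 : ∑ y ∈ T, f y = f x + (f (σ x) + ∑ y ∈ (T.erase x).erase (σ x), f y) := by
        rw [Finset.add_sum_erase (T.erase x) f hsx, Finset.add_sum_erase T f hx]
      have hpos : 0 < T.card := Finset.card_pos.mpr ⟨x, hx⟩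
      have hT' : ((T.erase x).erase (σ x)).card < n := by
        rw [Finset.card_erase_of_mem hsx, Finset.card_erase_of_mem hx]
        omega
      have hmem : ∀ y, y ∈ (T.erase x).erase (σ x) ↔ y ≠ σ x ∧ y ≠ x ∧ y ∈ T := by
        intro y
        rw [Finset.mem_erase, Finset.mem_erase]
      have hrest := ih _ hT' ((T.erase x).erase (σ x)) rfl
        (fun y hy => by
          obtain ⟨hy1, hy2, hy3⟩ := (hmem y).mp hy
          refine (hmem _).mpr ⟨fun h => hy2 ?_, fun h => hy1 ?_, hσT y hy3⟩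
          · rw [← hσσ y hy3, h, hσσ x hx]
          · rw [← hσσ y hy3, h])
        (fun y hy => hσσ y ((hmem y).mp hy).2.2)
        (fun y hy => hfix y ((hmem y).mp hy).2.2)
        (fun y hy => hf y ((hmem y).mp hy).2.2)
        (fun y hy => hint y ((hmem y).mp hy).2.2)
      rw [h1, ← add_assoc]
      refine memLocalIdeal_add hMp ?_ hrest
      have h2 : f x + f (σ x) = f x * ((2 : ℕ) : ℂ) + (f (σ x) - f x) := by
        push_cast
        ring
      rw [h2]
      refine memLocalIdeal_add hMp ?_ (hf x hx)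
      exact memLocalIdeal_mul_left (hint x hx) (prime_memLocalIdeal hM)

/-- a sum over an inverse-closed set of `2`-regular elements is congruent to its term at `1`. -/
theorem sum_inv_closed_memLocalIdeal {G : Type u} [Group G] [DecidableEq G]
    {M : Ideal AlgInt} (hM : IsPModular 2 M) [hMp : M.IsPrime]
    (S : Finset G) (h1 : (1 : G) ∈ S) (hinv : ∀ x ∈ S, x⁻¹ ∈ S)
    (hreg : ∀ x ∈ S, ¬ 2 ∣ orderOf x) (f : G → ℂ)
    (hf : ∀ x ∈ S, MemLocalIdeal M (f x⁻¹ - f x)) (hint : ∀ x ∈ S, MemLocalRing M (f x)) :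
    MemLocalIdeal M (∑ x ∈ S, f x - f 1) := by
  have h2 : ∑ x ∈ S, f x - f 1 = ∑ x ∈ S.erase 1, f x := by
    rw [← Finset.add_sum_erase S f h1]
    ring
  rw [h2]
  have hmem : ∀ y, y ∈ S.erase 1 ↔ y ≠ 1 ∧ y ∈ S := fun y => Finset.mem_erase
  refine sum_invol_memLocalIdeal hM (fun x => x⁻¹) f _ (S.erase 1) rfl ?_ ?_ ?_ ?_ ?_
  · intro x hx
    obtain ⟨hx1, hxS⟩ := (hmem x).mp hx
    exact (hmem _).mpr ⟨fun h => hx1 (inv_eq_one.mp h), hinv x hxS⟩
  · intro x _
    exact inv_inv x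
  · intro x hx h
    obtain ⟨hx1, hxS⟩ := (hmem x).mp hx
    have h' : x⁻¹ = x := h
    have hsq : x ^ 2 = 1 := by
      rw [pow_two]
      nth_rewrite 1 [← h']
      exact inv_mul_cancel x
    have hdvd : orderOf x ∣ 2 := orderOf_dvd_of_pow_eq_one hsq
    rcases (Nat.dvd_prime Nat.prime_two).mp hdvd with h'' | h''
    · exact hx1 (orderOf_eq_one_iff.mp h'')
    · exact hreg x hxS (by rw [h''])
  · intro x hx
    exact hf x ((hmem x).mp hx).2
  · intro x hx
    exact hint x ((hmem x).mp hx).2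

section Real

variable {G : Type u} [Group G] [Fintype G]

/-- a real-valued irreducible character of odd degree: its sum over the `2`-regular elements
is a local unit. -/
theorem real_odd_reg_sum [DecidableEq G] {M : Ideal AlgInt} (hM : IsPModular 2 M)
    [hMp : M.IsPrime] (χ : IrrCharacter G) (hreal : ∀ g : G, ((χ : G → ℂ) g).im = 0)
    (hodd : Odd (charDegree (χ : G → ℂ))) :
    ¬ MemLocalIdeal M
      (∑ x ∈ Finset.univ.filter (fun x : G => ¬ 2 ∣ orderOf x), (χ : G → ℂ) x) := by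
  intro hmem
  obtain ⟨d, hd0, hd⟩ := irr_one_eq_natCast_pos χ
  have hdeg : charDegree (χ : G → ℂ) = d := charDegree_of_eq hd
  rw [hdeg] at hodd
  have hconj : ∀ g : G, starRingEnd ℂ ((χ : G → ℂ) g) = (χ : G → ℂ) g := fun g =>
    Complex.conj_eq_iff_im.mpr (hreal g)
  have h1 := sum_inv_closed_memLocalIdeal hM
    (Finset.univ.filter (fun x : G => ¬ 2 ∣ orderOf x))
    (by
      rw [Finset.mem_filter]
      exact ⟨Finset.mem_univ _, by rw [orderOf_one]; decide⟩)
    (fun x hx => by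
      rw [Finset.mem_filter] at hx ⊢
      exact ⟨Finset.mem_univ _, by rw [orderOf_inv]; exact hx.2⟩)
    (fun x hx => (Finset.mem_filter.mp hx).2)
    (χ : G → ℂ)
    (fun x _ => by
      rw [irr_inv χ x, hconj x, sub_self]
      exact memLocalIdeal_zero hMp.ne_top)
    (fun x _ => integral_mem_locRing (irr_isIntegral χ x))
  have h2 := memLocalIdeal_sub hmem h1
  rw [sub_sub_cancel, hd] at h2
  have hnd : ¬ 2 ∣ d := fun h => by
    have := Nat.odd_iff.mp hodd
    omega
  exact not_memLocalIdeal_natCast hM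
    (Nat.Coprime.symm ((Nat.Prime.coprime_iff_not_dvd Nat.prime_two).mpr hnd)) h2

/-- real-valued irreducible characters of odd degree lie in the principal `2`-block. -/
theorem real_odd_principal {M : Ideal AlgInt} (hM : IsPModular 2 M) [hMp : M.IsPrime]
    (χ : IrrCharacter G) (hreal : ∀ g : G, ((χ : G → ℂ) g).im = 0)
    (hodd : Odd (charDegree (χ : G → ℂ))) : χ ∈ principalBlock M G := by
  classical
  by_contra hne
  obtain ⟨t, ht⟩ : ∃ t : IrrCharacter G, (t : G → ℂ) = fun _ => (1 : ℂ) :=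
    ⟨⟨fun _ => 1, Cfsg.Agent.Helper24.isIrrCharacter_one⟩, rfl⟩
  have hns : ¬ SameBlock M (t : G → ℂ) (χ : G → ℂ) := by
    rw [ht]
    exact hne
  have h := block_reg_orth hM t χ hns
  rw [finsum_setOf_eq_sum'] at h
  have hconj : ∀ g : G, starRingEnd ℂ ((χ : G → ℂ) g) = (χ : G → ℂ) g := fun g =>
    Complex.conj_eq_iff_im.mpr (hreal g)
  apply real_odd_reg_sum hM χ hreal hodd
  rw [Finset.sum_filter]
  have h0 : ∑ x : G, (if ¬ 2 ∣ orderOf x then (χ : G → ℂ) x else 0) = 0 := by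
    refine Eq.trans (Finset.sum_congr rfl fun x _ => ?_) h
    by_cases hx : 2 ∣ orderOf x
    · rw [if_neg (not_not.mpr hx), if_neg (not_not.mpr hx)]
    · rw [if_pos hx, if_pos hx, hconj x, ht, one_mul]
  rw [h0]
  exact memLocalIdeal_zero hMp.ne_top

/-- there are at most `4 ^ n` real-valued irreducible characters of odd degree. -/
theorem real_odd_count {M : Ideal AlgInt} (hM : IsPModular 2 M) [hMp : M.IsPrime] :
    Nat.card {χ : IrrCharacter G // (∀ g : G, ((χ : G → ℂ) g).im = 0) ∧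
        Odd (charDegree (χ : G → ℂ))} ≤ 2 ^ (2 * (Nat.card G).factorization 2) := by
  classical
  have : Fact (Nat.Prime 2) := ⟨Nat.prime_two⟩
  obtain ⟨t, ht⟩ : ∃ t : IrrCharacter G, ∀ x : G, (t : G → ℂ) x = 1 :=
    ⟨⟨fun _ => 1, Cfsg.Agent.Helper24.isIrrCharacter_one⟩, fun _ => rfl⟩
  obtain ⟨n, hn⟩ : ∃ n : ℕ, n = (Nat.card G).factorization 2 := ⟨_, rfl⟩
  rw [← hn]
  obtain ⟨f, hf⟩ : ∃ f : G → ℂ, f = fun x =>
      if 2 ∣ orderOf x then 0 else ((2 ^ n : ℕ) : ℂ) * (t : G → ℂ) x := ⟨_, rfl⟩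
  have hgen : IsGeneralizedCharacter G f := by
    rw [hf, hn]
    exact Cfsg.Agent.S0961.result 2 t
  have hfg : ∀ g : G, f g = if 2 ∣ orderOf g then 0 else ((2 ^ n : ℕ) : ℂ) := by
    intro g
    rw [hf]
    show (if 2 ∣ orderOf g then (0 : ℂ) else ((2 ^ n : ℕ) : ℂ) * (t : G → ℂ) g) = _
    rw [ht g, mul_one]
  obtain ⟨α, β, hα, hβ, hfab⟩ := hgen
  have hint : ∀ ψ : IrrCharacter G, ∃ k : ℤ, classInner f (ψ : G → ℂ) = (k : ℂ) := by
    intro ψ
    obtain ⟨a, ha⟩ := classInner_isCharacter_natCast hα (isCharacter_of_isIrrCharacter ψ.2)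
    obtain ⟨b, hb⟩ := classInner_isCharacter_natCast hβ (isCharacter_of_isIrrCharacter ψ.2)
    refine ⟨(a : ℤ) - b, ?_⟩
    rw [hfab, classInner_sub_left, ha, hb]
    push_cast
    ring
  choose k hk using hint
  have hclass : IsClassFunction G f := by
    intro g h
    rw [hfg, hfg, orderOf_conj_h5]
  have hexp := classFun_expand f hclass
  have hG0 : (Nat.card G : ℂ) ≠ 0 := Nat.cast_ne_zero.mpr Nat.card_pos.ne'
  have hpars : ∑ ψ : IrrCharacter G, (k ψ : ℂ) * (k ψ : ℂ) = classInner f f := by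
    have h1 : classInner f f = (Nat.card G : ℂ)⁻¹ * ∑ g : G,
        (∑ ψ : IrrCharacter G, (k ψ : ℂ) * (ψ : G → ℂ) g) * starRingEnd ℂ (f g) := by
      unfold classInner
      congr 1
      refine Finset.sum_congr rfl fun g _ => ?_
      congr 1
      rw [← hexp g]
      exact Finset.sum_congr rfl fun ψ _ => by rw [hk ψ]
    rw [h1]
    have h2 : ∀ g : G, (∑ ψ : IrrCharacter G, (k ψ : ℂ) * (ψ : G → ℂ) g) * starRingEnd ℂ (f g)
        = ∑ ψ : IrrCharacter G, (k ψ : ℂ) * ((ψ : G → ℂ) g * starRingEnd ℂ (f g)) := fun g => by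
      rw [Finset.sum_mul]
      exact Finset.sum_congr rfl fun ψ _ => by ring
    rw [Finset.sum_congr rfl (fun g _ => h2 g), Finset.sum_comm, Finset.mul_sum]
    refine Finset.sum_congr rfl fun ψ _ => ?_
    rw [← Finset.mul_sum]
    have h3 : (Nat.card G : ℂ)⁻¹ * ∑ g : G, (ψ : G → ℂ) g * starRingEnd ℂ (f g)
        = (k ψ : ℂ) := by
      have h4 : starRingEnd ℂ (classInner f (ψ : G → ℂ)) = (k ψ : ℂ) := by
        rw [hk ψ]
        exact map_intCast (starRingEnd ℂ) _
      rw [← h4]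
      unfold classInner
      rw [map_mul, map_inv₀, Complex.conj_natCast, map_sum]
      congr 1
      refine Finset.sum_congr rfl fun g _ => ?_
      rw [map_mul, Complex.conj_conj, mul_comm]
    rw [mul_left_comm, h3]
  obtain ⟨R, hR⟩ : ∃ R : Finset G, R = Finset.univ.filter (fun x : G => ¬ 2 ∣ orderOf x) :=
    ⟨_, rfl⟩
  have hff : classInner f f * (Nat.card G : ℂ) = ((4 ^ n * R.card : ℕ) : ℂ) := by
    unfold classInner
    rw [mul_comm, ← mul_assoc, mul_inv_cancel₀ hG0, one_mul]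
    have h1 : ∀ g : G, f g * starRingEnd ℂ (f g)
        = if ¬ 2 ∣ orderOf g then ((4 ^ n : ℕ) : ℂ) else 0 := by
      intro g
      rw [hfg g]
      by_cases hg : 2 ∣ orderOf g
      · rw [if_neg (not_not.mpr hg), if_pos hg, zero_mul]
      · rw [if_pos hg, if_neg hg, Complex.conj_natCast, ← Nat.cast_mul, ← mul_pow]
        norm_num
    rw [Finset.sum_congr rfl (fun g _ => h1 g), ← Finset.sum_filter, ← hR, Finset.sum_const,
      nsmul_eq_mul]
    push_cast
    ring
  have hcast : ((∑ ψ : IrrCharacter G, k ψ * k ψ : ℤ) : ℂ)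
      = ∑ ψ : IrrCharacter G, (k ψ : ℂ) * (k ψ : ℂ) := by
    push_cast
    rfl
  have hsum : ((∑ ψ : IrrCharacter G, k ψ * k ψ : ℤ) : ℂ) * (Nat.card G : ℂ)
      = ((4 ^ n * R.card : ℕ) : ℂ) := by
    rw [hcast, hpars, hff]
  have hZ : (∑ ψ : IrrCharacter G, k ψ * k ψ) * (Nat.card G : ℤ) = ((4 ^ n * R.card : ℕ) : ℤ) := by
    exact_mod_cast hsum
  have hRle : R.card ≤ Nat.card G := by
    rw [hR, Nat.card_eq_fintype_card, ← Finset.card_univ]
    exact Finset.card_filter_le _ _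
  have hle : (∑ ψ : IrrCharacter G, k ψ * k ψ) * (Nat.card G : ℤ)
      ≤ (4 ^ n : ℤ) * (Nat.card G : ℤ) := by
    rw [hZ]
    push_cast
    exact mul_le_mul_of_nonneg_left (by exact_mod_cast hRle) (by positivity)
  have hGpos : (0 : ℤ) < (Nat.card G : ℤ) := by exact_mod_cast Nat.card_pos
  have hle' : ∑ ψ : IrrCharacter G, k ψ * k ψ ≤ (4 ^ n : ℤ) := le_of_mul_le_mul_right hle hGpos
  -- the nonvanishing of the multiplicities
  have hne : ∀ ψ : IrrCharacter G, (∀ g : G, ((ψ : G → ℂ) g).im = 0) →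
      Odd (charDegree (ψ : G → ℂ)) → k ψ ≠ 0 := by
    intro ψ hreal hodd h0
    have hconj : ∀ g : G, starRingEnd ℂ ((ψ : G → ℂ) g) = (ψ : G → ℂ) g := fun g =>
      Complex.conj_eq_iff_im.mpr (hreal g)
    have h1 : classInner f (ψ : G → ℂ) * (Nat.card G : ℂ)
        = ((2 ^ n : ℕ) : ℂ) * ∑ x ∈ R, (ψ : G → ℂ) x := by
      unfold classInner
      rw [mul_comm, ← mul_assoc, mul_inv_cancel₀ hG0, one_mul, Finset.mul_sum, hR,
        Finset.sum_filter]
      refine Finset.sum_congr rfl fun g _ => ?_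
      rw [hfg g, hconj g]
      by_cases hg : 2 ∣ orderOf g
      · rw [if_pos hg, if_neg (not_not.mpr hg), zero_mul]
      · rw [if_neg hg, if_pos hg]
    rw [hk ψ, h0, Int.cast_zero, zero_mul] at h1
    have h2 : ∑ x ∈ R, (ψ : G → ℂ) x = 0 := by
      rcases mul_eq_zero.mp h1.symm with h | h
      · exact absurd h (Nat.cast_ne_zero.mpr (pow_pos (by norm_num) n).ne')
      · exact h
    apply real_odd_reg_sum hM ψ hreal hodd
    rw [← hR, h2]
    exact memLocalIdeal_zero hMp.ne_top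
  have hcount : (Nat.card {χ : IrrCharacter G // (∀ g : G, ((χ : G → ℂ) g).im = 0) ∧
        Odd (charDegree (χ : G → ℂ))} : ℤ) ≤ ∑ ψ : IrrCharacter G, k ψ * k ψ := by
    rw [Nat.card_eq_fintype_card, Fintype.card_subtype, Finset.card_filter]
    push_cast
    refine Finset.sum_le_sum fun ψ _ => ?_
    by_cases hψ : (∀ g : G, ((ψ : G → ℂ) g).im = 0) ∧ Odd (charDegree (ψ : G → ℂ))
    · rw [if_pos hψ]
      have := hne ψ hψ.1 hψ.2
      have h1 : 0 < k ψ * k ψ := mul_self_pos.mpr this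
      omega
    · rw [if_neg hψ]
      exact mul_self_nonneg _
  have hfin : (Nat.card {χ : IrrCharacter G // (∀ g : G, ((χ : G → ℂ) g).im = 0) ∧
        Odd (charDegree (χ : G → ℂ))} : ℤ) ≤ (4 ^ n : ℤ) := hcount.trans hle'
  have h4 : (2 : ℕ) ^ (2 * n) = 4 ^ n := by
    rw [pow_mul]
    norm_num
  rw [h4]
  exact_mod_cast hfin

/-- the principal block contains a nonprincipal character of `p'`-degree unless `G` is a
`p'`-group. -/
theorem principal_only_trivial_iff {p : ℕ} [Fact p.Prime] {M : Ideal AlgInt}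
    (hM : IsPModular p M) [hMp : M.IsPrime] :
    (∀ χ : IrrCharacter G, χ ∈ principalBlock M G → ¬ p ∣ charDegree (χ : G → ℂ) →
      (χ : G → ℂ) = fun _ => (1 : ℂ)) ↔ ¬ p ∣ Nat.card G := by
  classical
  obtain ⟨t, ht⟩ : ∃ t : IrrCharacter G, (t : G → ℂ) = fun _ => (1 : ℂ) :=
    ⟨⟨fun _ => 1, Cfsg.Agent.Helper24.isIrrCharacter_one⟩, rfl⟩
  have hpb : principalBlock M G = blockOf M (t : G → ℂ) := principalBlock_eq_blockOf M t ht
  have htdeg : charDegree (t : G → ℂ) = 1 := charDegree_of_eq (by rw [ht]; simp)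
  constructor
  · intro H hdvd
    obtain ⟨g, hg⟩ := exists_prime_orderOf_dvd_card' p hdvd
    obtain ⟨S, hS⟩ : ∃ S : Finset (IrrCharacter G), S = Finset.univ.filter
        (fun χ : IrrCharacter G => SameBlock M (t : G → ℂ) (χ : G → ℂ)) := ⟨_, rfl⟩
    have hSmem : ∀ χ : IrrCharacter G, χ ∈ S ↔ SameBlock M (t : G → ℂ) (χ : G → ℂ) :=
      fun χ => by
        rw [hS, Finset.mem_filter]
        exact ⟨fun h => h.2, fun h => ⟨Finset.mem_univ _, h⟩⟩
    have hw : ∑ χ ∈ S, (χ : G → ℂ) 1 * starRingEnd ℂ ((χ : G → ℂ) g) = 0 := by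
      rw [hS]
      exact weak_block_orth_sum hM t 1 g
        (by rw [orderOf_one]; exact (Fact.out : p.Prime).not_dvd_one) (by rw [hg])
    have hcong : ∀ χ : IrrCharacter G, MemLocalIdeal M ((χ : G → ℂ) 1 * (χ : G → ℂ) 1 -
        (χ : G → ℂ) 1 * starRingEnd ℂ ((χ : G → ℂ) g)) := by
      intro χ
      have h1 := char_mul_ppow_congr hM (isCharacter_of_isIrrCharacter χ.2) g⁻¹ 1
        (by rw [mul_one, one_mul]) 1
        (by rw [pow_one, inv_pow, ← hg, pow_orderOf_eq_one, inv_one])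
      rw [mul_one, irr_inv χ g] at h1
      have h2 := memLocalIdeal_neg
        (memLocalIdeal_mul_left (integral_mem_locRing (irr_isIntegral χ 1)) h1)
      have e : -((χ : G → ℂ) 1 * (starRingEnd ℂ ((χ : G → ℂ) g) - (χ : G → ℂ) 1))
          = (χ : G → ℂ) 1 * (χ : G → ℂ) 1 -
            (χ : G → ℂ) 1 * starRingEnd ℂ ((χ : G → ℂ) g) := by ring
      rwa [e] at h2
    have htot : MemLocalIdeal M (∑ χ ∈ S, (χ : G → ℂ) 1 * (χ : G → ℂ) 1) := by
      have e : ∑ χ ∈ S, (χ : G → ℂ) 1 * (χ : G → ℂ) 1 = ∑ χ ∈ S, ((χ : G → ℂ) 1 * (χ : G → ℂ) 1 -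
          (χ : G → ℂ) 1 * starRingEnd ℂ ((χ : G → ℂ) g)) := by
        rw [Finset.sum_sub_distrib, hw, sub_zero]
      rw [e]
      exact memLocalIdeal_sum _ _ (fun χ _ => hcong χ)
    have htS : t ∈ S := (hSmem t).mpr (sameBlock_refl _)
    have hrest : MemLocalIdeal M (∑ χ ∈ S.erase t, (χ : G → ℂ) 1 * (χ : G → ℂ) 1) := by
      refine memLocalIdeal_sum _ _ fun χ hχ => ?_
      obtain ⟨hχt, hχS⟩ := Finset.mem_erase.mp hχ
      have hχB : χ ∈ principalBlock M G := by
        rw [hpb]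
        exact (hSmem χ).mp hχS
      obtain ⟨d, hd0, hd⟩ := irr_one_eq_natCast_pos χ
      have hdeg : charDegree (χ : G → ℂ) = d := charDegree_of_eq hd
      have hpd : p ∣ d := by
        by_contra hnd
        have := H χ hχB (by rw [hdeg]; exact hnd)
        exact hχt (Subtype.ext (this.trans ht.symm))
      obtain ⟨e, he⟩ := hpd
      have h3 := memLocalIdeal_mul_left (natCast_memLocalRing (M := M) (e * d))
        (prime_memLocalIdeal hM)
      have e3 : ((e * d : ℕ) : ℂ) * (p : ℂ) = (χ : G → ℂ) 1 * (χ : G → ℂ) 1 := by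
        rw [hd]
        nth_rewrite 2 [he]
        push_cast
        ring
      rwa [e3] at h3
    have h1 := memLocalIdeal_sub htot hrest
    rw [← Finset.add_sum_erase S _ htS, add_sub_cancel_right, ht, mul_one] at h1
    exact not_memLocalIdeal_one h1
  · intro hnd χ hχ _
    have h := (defect_zero_iff hM t).mp (by rw [htdeg, Nat.div_one]; exact hnd)
    rw [hpb, h] at hχ
    rw [Set.mem_singleton_iff.mp hχ, ht]

end Real

end Cfsg.Agent.Helper5
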