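import Mathlib
import Cfsg.Prelude.Def_BlockRank
import Cfsg.Agent.Helper5.BlkReal

/-!
helper5: restrictions of the characters of a block to the `p`-regular elements.
-/

set_option autoImplicit false

namespace Cfsg.Agent.Helper5

open Cfsg Cfsg.Agent.Helper24 Cfsg.Agent.Helper22

universe u

theorem pRegularPart_reg {G : Type u} [Group G] {p : ℕ} (χ : G → ℂ) {g : G}
    (h : ¬ p ∣ orderOf g) : pRegularPart p χ g = χ g := by
  unfold pRegularPart
  exact if_pos (show IsPRegular p g from h)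

theorem pRegularPart_sing {G : Type u} [Group G] {p : ℕ} (χ : G → ℂ) {g : G}
    (h : p ∣ orderOf g) : pRegularPart p χ g = 0 := by
  unfold pRegularPart
  exact if_neg (show ¬ IsPRegular p g from not_not.mpr h)

theorem finsum_mem_eq_sum_ite' {α : Type*} [Fintype α] (B : Set α) [DecidablePred (· ∈ B)]
    (f : α → ℂ) : ∑ᶠ x ∈ B, f x = ∑ x, if x ∈ B then f x else 0 :=
  finsum_setOf_eq_sum' (fun x => x ∈ B) f

theorem not_memLocalIdeal_intCast {p : ℕ} {M : Ideal AlgInt} (hM : IsPModular p M)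
    [hMp : M.IsPrime] {k : ℤ} (hk : ¬ (p : ℤ) ∣ k) : ¬ MemLocalIdeal M (k : ℂ) := by
  intro h
  have hcop : Nat.Coprime k.natAbs p :=
    Nat.Coprime.symm ((Nat.Prime.coprime_iff_not_dvd hM.1).mpr fun hd =>
      hk (Int.natCast_dvd.mpr hd))
  apply not_memLocalIdeal_natCast hM hcop
  rcases Int.natAbs_eq k with h1 | h1
  · have e : (k : ℂ) = ((k.natAbs : ℕ) : ℂ) := by
      rw [← Int.cast_natCast (R := ℂ) k.natAbs, ← h1]
    rwa [← e]
  · have e : (k : ℂ) = -((k.natAbs : ℕ) : ℂ) := by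
      rw [← Int.cast_natCast (R := ℂ) k.natAbs, ← Int.cast_neg, ← h1]
    have h2 := memLocalIdeal_neg h
    rwa [e, neg_neg] at h2

/-- a local integer which becomes a rational integer after multiplication by a power of `p`
is a rational integer. -/
theorem int_of_ppow_mul_local {p : ℕ} {M : Ideal AlgInt} (hM : IsPModular p M)
    [hMp : M.IsPrime] :
    ∀ (j : ℕ) (q : ℂ) (k : ℤ), MemLocalRing M q → (p : ℂ) ^ j * q = k → ∃ m : ℤ, q = m := by
  intro j
  induction j with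
  | zero =>
    intro q k _ h
    exact ⟨k, by rw [← h, pow_zero, one_mul]⟩
  | succ j ih =>
    intro q k hq h
    have hp0 : (p : ℂ) ≠ 0 := Nat.cast_ne_zero.mpr hM.1.ne_zero
    have hloc : MemLocalRing M ((p : ℂ) ^ j * q) :=
      (locRing M).mul_mem ((locRing M).pow_mem (natCast_memLocalRing p) j) hq
    have hdiv : (p : ℤ) ∣ k := by
      by_contra hnd
      apply not_memLocalIdeal_intCast hM hnd
      have e : (p : ℂ) ^ (j + 1) * q = ((p : ℂ) ^ j * q) * (p : ℂ) := by ring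
      rw [← h, e]
      exact memLocalIdeal_mul_left hloc (prime_memLocalIdeal hM)
    obtain ⟨k', rfl⟩ := hdiv
    refine ih q k' hq ?_
    have h' : (p : ℂ) * ((p : ℂ) ^ j * q) = (p : ℂ) * (k' : ℂ) := by
      rw [← mul_assoc, ← pow_succ', h]
      push_cast
      ring
    exact mul_left_cancel₀ hp0 h'

section Reg

variable {G : Type u} [Group G] [Fintype G]

theorem pRegularPart_isClassFunction {p : ℕ} (χ : IrrCharacter G) :
    IsClassFunction G (pRegularPart p (χ : G → ℂ)) := by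
  intro g h
  by_cases hg : p ∣ orderOf g
  · rw [pRegularPart_sing _ hg, pRegularPart_sing _ (by rw [orderOf_conj_h5]; exact hg)]
  · rw [pRegularPart_reg _ hg, pRegularPart_reg _ (by rw [orderOf_conj_h5]; exact hg),
      irr_conj χ g h]

theorem regPart_expand {p : ℕ} (χ : IrrCharacter G) (g : G) :
    ∑ ψ : IrrCharacter G, classInner (pRegularPart p (χ : G → ℂ)) (ψ : G → ℂ) * (ψ : G → ℂ) g
      = pRegularPart p (χ : G → ℂ) g :=
  classFun_expand _ (pRegularPart_isClassFunction χ) g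

/-- characters in different blocks have orthogonal `p`-regular parts. -/
theorem regInner_outside {p : ℕ} {M : Ideal AlgInt} (hM : IsPModular p M) [hMp : M.IsPrime]
    (χ ψ : IrrCharacter G) (h : ¬ SameBlock M (χ : G → ℂ) (ψ : G → ℂ)) :
    classInner (pRegularPart p (χ : G → ℂ)) (ψ : G → ℂ) = 0 := by
  classical
  have h1 := block_reg_orth hM χ ψ h
  rw [finsum_setOf_eq_sum'] at h1
  have h2 : ∑ g : G, pRegularPart p (χ : G → ℂ) g * starRingEnd ℂ ((ψ : G → ℂ) g) = 0 := by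
    refine Eq.trans (Finset.sum_congr rfl fun g _ => ?_) h1
    by_cases hg : p ∣ orderOf g
    · rw [pRegularPart_sing _ hg, zero_mul, if_neg (not_not.mpr hg)]
    · rw [pRegularPart_reg _ hg, if_pos hg]
  unfold classInner
  rw [h2, mul_zero]

theorem regInner_symm {p : ℕ} (χ ψ : IrrCharacter G) :
    classInner (pRegularPart p (ψ : G → ℂ)) (χ : G → ℂ)
      = starRingEnd ℂ (classInner (pRegularPart p (χ : G → ℂ)) (ψ : G → ℂ)) := by
  unfold classInner
  rw [map_mul, map_inv₀, Complex.conj_natCast, map_sum]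
  congr 1
  refine Finset.sum_congr rfl fun g _ => ?_
  rw [map_mul, Complex.conj_conj]
  by_cases hg : p ∣ orderOf g
  · rw [pRegularPart_sing _ hg, pRegularPart_sing _ hg, map_zero, zero_mul, zero_mul]
  · rw [pRegularPart_reg _ hg, pRegularPart_reg _ hg, mul_comm]

/-- the Gram matrix of the `p`-regular parts is idempotent. -/
theorem regInner_idem {p : ℕ} (χ ψ : IrrCharacter G) :
    ∑ ξ : IrrCharacter G, classInner (pRegularPart p (χ : G → ℂ)) (ξ : G → ℂ) *
        classInner (pRegularPart p (ξ : G → ℂ)) (ψ : G → ℂ)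
      = classInner (pRegularPart p (χ : G → ℂ)) (ψ : G → ℂ) := by
  obtain ⟨a, ha⟩ : ∃ a : IrrCharacter G → ℂ, a = fun ξ : IrrCharacter G =>
      classInner (pRegularPart p (χ : G → ℂ)) (ξ : G → ℂ) := ⟨_, rfl⟩
  have ha' : ∀ ξ : IrrCharacter G, classInner (pRegularPart p (χ : G → ℂ)) (ξ : G → ℂ) = a ξ :=
    fun ξ => by rw [ha]
  have h1 : ∀ g : G, pRegularPart p (χ : G → ℂ) g
      = ∑ ξ : IrrCharacter G, a ξ * pRegularPart p (ξ : G → ℂ) g := by
    intro g
    by_cases hg : p ∣ orderOf g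
    · rw [pRegularPart_sing _ hg]
      symm
      exact Finset.sum_eq_zero fun ξ _ => by rw [pRegularPart_sing _ hg, mul_zero]
    · rw [← regPart_expand χ g]
      exact Finset.sum_congr rfl fun ξ _ => by rw [pRegularPart_reg _ hg, ha' ξ]
  have h2 : classInner (pRegularPart p (χ : G → ℂ)) (ψ : G → ℂ)
      = (Nat.card G : ℂ)⁻¹ * ∑ g : G, (∑ ξ : IrrCharacter G,
          a ξ * pRegularPart p (ξ : G → ℂ) g) * starRingEnd ℂ ((ψ : G → ℂ) g) := by
    show (Nat.card G : ℂ)⁻¹ * ∑ g : G, pRegularPart p (χ : G → ℂ) g *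
      starRingEnd ℂ ((ψ : G → ℂ) g) = _
    congr 1
    exact Finset.sum_congr rfl fun g _ => by rw [← h1 g]
  have h3 : ∀ ξ : IrrCharacter G, a ξ * classInner (pRegularPart p (ξ : G → ℂ)) (ψ : G → ℂ)
      = (Nat.card G : ℂ)⁻¹ * ∑ g : G, a ξ * pRegularPart p (ξ : G → ℂ) g *
          starRingEnd ℂ ((ψ : G → ℂ) g) := by
    intro ξ
    show a ξ * ((Nat.card G : ℂ)⁻¹ * ∑ g : G, pRegularPart p (ξ : G → ℂ) g *
      starRingEnd ℂ ((ψ : G → ℂ) g)) = _
    rw [mul_left_comm, Finset.mul_sum]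
    congr 1
    exact Finset.sum_congr rfl fun g _ => by ring
  have hgoal : ∑ ξ : IrrCharacter G, a ξ * classInner (pRegularPart p (ξ : G → ℂ)) (ψ : G → ℂ)
      = classInner (pRegularPart p (χ : G → ℂ)) (ψ : G → ℂ) := by
    rw [h2, Finset.sum_congr rfl (fun ξ _ => h3 ξ), ← Finset.mul_sum, Finset.sum_comm]
    congr 1
    refine Finset.sum_congr rfl fun g _ => ?_
    rw [Finset.sum_mul]
  subst ha
  exact hgoal

/-- `p ^ d` times the inner product of the `p`-regular part of a member of a block of defect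
`d` with any irreducible character is an integer. -/
theorem regInner_int {p : ℕ} [Fact p.Prime] {M : Ideal AlgInt} (hM : IsPModular p M)
    [hMp : M.IsPrime] (χ₀ χ ψ : IrrCharacter G) (hχ : χ ∈ blockOf M (χ₀ : G → ℂ)) :
    ∃ k : ℤ, (p : ℂ) ^ blockDefect p (blockOf M (χ₀ : G → ℂ)) *
      classInner (pRegularPart p (χ : G → ℂ)) (ψ : G → ℂ) = k := by
  classical
  have hp := hM.1
  have hG0 : (Nat.card G : ℂ) ≠ 0 := Nat.cast_ne_zero.mpr Nat.card_pos.ne'
  obtain ⟨a, ha⟩ : ∃ a : ℕ, a = (Nat.card G).factorization p := ⟨_, rfl⟩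
  obtain ⟨d, hd⟩ : ∃ d : ℕ, d = blockDefect p (blockOf M (χ₀ : G → ℂ)) := ⟨_, rfl⟩
  rw [← hd]
  obtain ⟨I, hI⟩ : ∃ I : ℂ, I = classInner (pRegularPart p (χ : G → ℂ)) (ψ : G → ℂ) :=
    ⟨_, rfl⟩
  rw [← hI]
  have hIsum : I = (Nat.card G : ℂ)⁻¹ * ∑ g : G, pRegularPart p (χ : G → ℂ) g *
      starRingEnd ℂ ((ψ : G → ℂ) g) := hI
  -- (a) `p ^ a * I` is an integer
  have hA : ∃ k₁ : ℤ, (p : ℂ) ^ a * I = k₁ := by
    obtain ⟨α, β, hα, hβ, hfab⟩ := Cfsg.Agent.S0961.result p χ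
    obtain ⟨n1, hn1⟩ := classInner_isCharacter_natCast hα (isCharacter_of_isIrrCharacter ψ.2)
    obtain ⟨n2, hn2⟩ := classInner_isCharacter_natCast hβ (isCharacter_of_isIrrCharacter ψ.2)
    refine ⟨(n1 : ℤ) - n2, ?_⟩
    have hsum : ∑ g : G, (α - β) g * starRingEnd ℂ ((ψ : G → ℂ) g)
        = (p : ℂ) ^ a * ∑ g : G, pRegularPart p (χ : G → ℂ) g *
          starRingEnd ℂ ((ψ : G → ℂ) g) := by
      rw [Finset.mul_sum, ← hfab]
      refine Finset.sum_congr rfl fun g _ => ?_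
      beta_reduce
      by_cases hg : p ∣ orderOf g
      · rw [if_pos hg, pRegularPart_sing _ hg]
        ring
      · rw [if_neg hg, pRegularPart_reg _ hg, ha]
        push_cast
        ring
    have h1 : classInner (α - β) (ψ : G → ℂ) = (p : ℂ) ^ a * I := by
      rw [hIsum]
      show (Nat.card G : ℂ)⁻¹ * ∑ g : G, (α - β) g * starRingEnd ℂ ((ψ : G → ℂ) g) = _
      rw [hsum]
      ring
    rw [← h1, classInner_sub_left, hn1, hn2]
    push_cast
    ring
  -- (b) `p ^ d * I` is a local integer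
  obtain ⟨n, hn, hndvd⟩ := irr_degree_dvd_card χ
  have hn0 : n ≠ 0 := by
    rintro rfl
    exact Nat.card_pos.ne' (Nat.eq_zero_of_zero_dvd hndvd)
  have hnC : (n : ℂ) ≠ 0 := Nat.cast_ne_zero.mpr hn0
  obtain ⟨ι, hι⟩ := exists_class_reps G
  obtain ⟨θ, hθ⟩ : ∃ θ : G → ℂ, θ = fun g =>
      if ¬ p ∣ orderOf g then starRingEnd ℂ ((ψ : G → ℂ) g) else 0 := ⟨_, rfl⟩
  have hθreg : ∀ g : G, ¬ p ∣ orderOf g → θ g = starRingEnd ℂ ((ψ : G → ℂ) g) := fun g hg => by
    rw [hθ]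
    exact if_pos hg
  have hθsing : ∀ g : G, p ∣ orderOf g → θ g = 0 := fun g hg => by
    rw [hθ]
    exact if_neg (not_not.mpr hg)
  have hθcl : ∀ g h : G, θ (h * g * h⁻¹) = θ g := by
    intro g h
    by_cases hg : p ∣ orderOf g
    · rw [hθsing g hg, hθsing _ (by rw [orderOf_conj_h5]; exact hg)]
    · rw [hθreg g hg, hθreg _ (by rw [orderOf_conj_h5]; exact hg), irr_conj ψ g h]
  have hθint : ∀ g : G, IsIntegral ℤ (θ g) := by
    intro g
    by_cases hg : p ∣ orderOf g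
    · rw [hθsing g hg]
      exact isIntegral_zero
    · rw [hθreg g hg, ← irr_inv ψ g]
      exact irr_isIntegral ψ g⁻¹
  have hΦcl : IsClassFunction G (fun g => θ g * centralChar (χ : G → ℂ) g) := by
    intro g h
    show θ (h * g * h⁻¹) * centralChar (χ : G → ℂ) (h * g * h⁻¹) = _
    rw [hθcl g h, centralChar_isClassFunction χ g h]
  have hW : ∑ g : G, θ g * centralChar (χ : G → ℂ) g /
      ((Subgroup.centralizer ({g} : Set G)).index : ℂ)
      = ∑ r ∈ ι, θ r * centralChar (χ : G → ℂ) r := hι _ hΦcl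
  have hterm : ∀ g : G, (n : ℂ) * (θ g * centralChar (χ : G → ℂ) g /
      ((Subgroup.centralizer ({g} : Set G)).index : ℂ))
      = pRegularPart p (χ : G → ℂ) g * starRingEnd ℂ ((ψ : G → ℂ) g) := by
    intro g
    have hidx := index_centralizer_ne_zero g
    by_cases hg : p ∣ orderOf g
    · rw [hθsing g hg, pRegularPart_sing _ hg]
      ring
    · rw [hθreg g hg, pRegularPart_reg _ hg]
      unfold centralChar
      rw [hn]
      field_simp
  have hI' : I = (Nat.card G : ℂ)⁻¹ * ((n : ℂ) * ∑ r ∈ ι, θ r * centralChar (χ : G → ℂ) r) := by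
    rw [← hW, hIsum]
    congr 1
    rw [Finset.mul_sum]
    exact Finset.sum_congr rfl fun g _ => (hterm g).symm
  have hWint : IsIntegral ℤ (∑ r ∈ ι, θ r * centralChar (χ : G → ℂ) r) :=
    IsIntegral.sum _ fun r _ => IsIntegral.mul (hθint r) (centralChar_isIntegral χ r)
  have hdeg : charDegree (χ : G → ℂ) = n := charDegree_of_eq hn
  have hsInf : sInf ((fun χ : IrrCharacter G => (charDegree (χ : G → ℂ)).factorization p) ''
      blockOf M (χ₀ : G → ℂ)) ≤ (charDegree (χ : G → ℂ)).factorization p :=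
    Nat.sInf_le ⟨χ, hχ, rfl⟩
  have hda : a ≤ d + n.factorization p := by
    rw [hd, ha]
    unfold blockDefect
    rw [hdeg] at hsInf
    omega
  have hpa : p ^ a ∣ p ^ d * n := by
    have h1 : p ^ (n.factorization p) ∣ n := Nat.ordProj_dvd n p
    have h2 : p ^ a ∣ p ^ (d + n.factorization p) := pow_dvd_pow p hda
    rw [pow_add] at h2
    exact h2.trans (Nat.mul_dvd_mul_left _ h1)
  obtain ⟨t, ht⟩ := hpa
  obtain ⟨m, hm⟩ : ∃ m : ℕ, m = Nat.card G / p ^ a := ⟨_, rfl⟩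
  have hGm : Nat.card G = p ^ a * m := by
    rw [hm, ha]
    exact (Nat.ordProj_mul_ordCompl_eq_self _ p).symm
  have hpm : ¬ p ∣ m := by
    rw [hm, ha]
    exact Nat.not_dvd_ordCompl hp Nat.card_pos.ne'
  have hq : MemLocalRing M ((p : ℂ) ^ d * I) := by
    have hGc : (Nat.card G : ℂ) = (p : ℂ) ^ a * (m : ℂ) := by
      rw [hGm]
      push_cast
      ring
    have htc : (p : ℂ) ^ d * (n : ℂ) = (p : ℂ) ^ a * (t : ℂ) := by exact_mod_cast ht
    have hpa0 : (p : ℂ) ^ a ≠ 0 := pow_ne_zero _ (Nat.cast_ne_zero.mpr hp.ne_zero)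
    have hm0 : (m : ℂ) ≠ 0 := Nat.cast_ne_zero.mpr (fun h => hpm (h ▸ dvd_zero p))
    have e : (p : ℂ) ^ d * I
        = ((t : ℂ) * (m : ℂ)⁻¹) * ∑ r ∈ ι, θ r * centralChar (χ : G → ℂ) r := by
      rw [hI', hGc]
      have e1 : (p : ℂ) ^ d * (((p : ℂ) ^ a * (m : ℂ))⁻¹ *
          ((n : ℂ) * ∑ r ∈ ι, θ r * centralChar (χ : G → ℂ) r))
          = ((p : ℂ) ^ d * (n : ℂ)) * ((p : ℂ) ^ a * (m : ℂ))⁻¹ *
            ∑ r ∈ ι, θ r * centralChar (χ : G → ℂ) r := by ring
      rw [e1, htc]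
      congr 1
      field_simp
    rw [e]
    exact (locRing M).mul_mem ((locRing M).mul_mem (natCast_memLocalRing t)
      (natCast_inv_memLocalRing hM hpm)) (integral_mem_locRing hWint)
  obtain ⟨k₁, hk₁⟩ := hA
  refine int_of_ppow_mul_local hM a _ ((p : ℤ) ^ d * k₁) hq ?_
  push_cast
  rw [← hk₁]
  ring

/-- `p ^ d` times the `p`-regular part of an integer combination of the members of a block of
defect `d` is again such a combination. -/
theorem reg_combination {p : ℕ} [Fact p.Prime] {M : Ideal AlgInt} (hM : IsPModular p M)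
    [hMp : M.IsPrime] (χ₀ : IrrCharacter G) (χ : G → ℂ) (n : IrrCharacter G → ℤ)
    (hχ : ∀ g : G, χ g = ∑ᶠ ψ ∈ blockOf M (χ₀ : G → ℂ), (n ψ : ℂ) * (ψ : G → ℂ) g) :
    ∃ n' : IrrCharacter G → ℤ, ∀ g : G,
      (p : ℂ) ^ blockDefect p (blockOf M (χ₀ : G → ℂ)) * pRegularPart p χ g
        = ∑ᶠ ψ ∈ blockOf M (χ₀ : G → ℂ), (n' ψ : ℂ) * (ψ : G → ℂ) g := by
  classical
  obtain ⟨d, hd⟩ : ∃ d : ℕ, d = blockDefect p (blockOf M (χ₀ : G → ℂ)) := ⟨_, rfl⟩
  rw [← hd]
  obtain ⟨B, hB⟩ : ∃ B : Set (IrrCharacter G), B = blockOf M (χ₀ : G → ℂ) := ⟨_, rfl⟩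
  rw [← hB]
  rw [← hB] at hχ
  have hint : ∀ ψ ξ : IrrCharacter G, ∃ k : ℤ, ψ ∈ B →
      (p : ℂ) ^ d * classInner (pRegularPart p (ψ : G → ℂ)) (ξ : G → ℂ) = k := by
    intro ψ ξ
    by_cases hψ : ψ ∈ B
    · obtain ⟨k, hk⟩ := regInner_int hM χ₀ ψ ξ (hB ▸ hψ)
      exact ⟨k, fun _ => by rw [hd]; exact hk⟩
    · exact ⟨0, fun h => absurd h hψ⟩
  choose m hm using hint
  refine ⟨fun ξ => ∑ ψ : IrrCharacter G, if ψ ∈ B then n ψ * m ψ ξ else 0, fun g => ?_⟩
  rw [finsum_mem_eq_sum_ite']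
  have hkey : ∀ ψ : IrrCharacter G, ψ ∈ B → (p : ℂ) ^ d * pRegularPart p (ψ : G → ℂ) g
      = ∑ ξ : IrrCharacter G, if ξ ∈ B then (m ψ ξ : ℂ) * (ξ : G → ℂ) g else 0 := by
    intro ψ hψ
    rw [← regPart_expand ψ g, Finset.mul_sum]
    refine Finset.sum_congr rfl fun ξ _ => ?_
    by_cases hξ : ξ ∈ B
    · rw [if_pos hξ, ← hm ψ ξ hψ, mul_assoc]
    · rw [if_neg hξ, regInner_outside hM ψ ξ (fun h => hξ ?_), zero_mul, mul_zero]
      rw [hB]
      have hψ' : ψ ∈ blockOf M (χ₀ : G → ℂ) := by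
        rw [← hB]
        exact hψ
      exact sameBlock_trans hψ' h
  have hL : (p : ℂ) ^ d * pRegularPart p χ g = ∑ ψ : IrrCharacter G,
      if ψ ∈ B then (n ψ : ℂ) * ((p : ℂ) ^ d * pRegularPart p (ψ : G → ℂ) g) else 0 := by
    by_cases hg : p ∣ orderOf g
    · rw [pRegularPart_sing _ hg, mul_zero]
      symm
      refine Finset.sum_eq_zero fun ψ _ => ?_
      rw [pRegularPart_sing _ hg, mul_zero, mul_zero, ite_self]
    · rw [pRegularPart_reg _ hg, hχ g, finsum_mem_eq_sum_ite', Finset.mul_sum]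
      refine Finset.sum_congr rfl fun ψ _ => ?_
      by_cases hψ : ψ ∈ B
      · rw [if_pos hψ, if_pos hψ, pRegularPart_reg _ hg]
        ring
      · rw [if_neg hψ, if_neg hψ, mul_zero]
  rw [hL]
  have hL2 : ∀ ψ : IrrCharacter G,
      (if ψ ∈ B then (n ψ : ℂ) * ((p : ℂ) ^ d * pRegularPart p (ψ : G → ℂ) g) else 0)
        = ∑ ξ : IrrCharacter G, if ξ ∈ B then
            (((if ψ ∈ B then n ψ * m ψ ξ else 0 : ℤ)) : ℂ) * (ξ : G → ℂ) g else 0 := by
    intro ψ
    by_cases hψ : ψ ∈ B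
    · rw [if_pos hψ, hkey ψ hψ, Finset.mul_sum]
      refine Finset.sum_congr rfl fun ξ _ => ?_
      by_cases hξ : ξ ∈ B
      · rw [if_pos hξ, if_pos hξ, if_pos hψ]
        push_cast
        ring
      · rw [if_neg hξ, if_neg hξ, mul_zero]
    · rw [if_neg hψ]
      symm
      refine Finset.sum_eq_zero fun ξ _ => ?_
      rw [if_neg hψ]
      simp
  rw [Finset.sum_congr rfl (fun ψ _ => hL2 ψ), Finset.sum_comm]
  refine Finset.sum_congr rfl fun ξ _ => ?_
  by_cases hξ : ξ ∈ B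
  · rw [if_pos hξ, Finset.sum_congr rfl (fun ψ _ => if_pos hξ), ← Finset.sum_mul]
    push_cast
    rfl
  · rw [if_neg hξ]
    exact Finset.sum_eq_zero fun ψ _ => if_neg hξ

end Reg

end Cfsg.Agent.Helper5
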