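import Mathlib
import Cfsg.Agent.Helper5.BlkReg

/-!
helper5: the `p`-regular rank of a block as a trace.
-/

set_option autoImplicit false

namespace Cfsg.Agent.Helper5

open Cfsg Cfsg.Agent.Helper24 Cfsg.Agent.Helper22

universe u

variable {G : Type u} [Group G] [Fintype G]

/-- the irreducible characters are linearly independent. -/
theorem irr_linearCombination_injective :
    Function.Injective
      (Fintype.linearCombination ℂ (fun χ : IrrCharacter G => (χ : G → ℂ))) := by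
  classical
  rw [← LinearMap.ker_eq_bot, LinearMap.ker_eq_bot']
  intro c hc
  funext ξ
  have h1 : classInner (Fintype.linearCombination ℂ (fun χ : IrrCharacter G => (χ : G → ℂ)) c)
      (ξ : G → ℂ) = c ξ := by
    have e : ∀ g : G, (Fintype.linearCombination ℂ (fun χ : IrrCharacter G => (χ : G → ℂ)) c) g
        * starRingEnd ℂ ((ξ : G → ℂ) g)
        = ∑ χ : IrrCharacter G, c χ * ((χ : G → ℂ) g * starRingEnd ℂ ((ξ : G → ℂ) g)) := by
      intro g
      rw [Fintype.linearCombination_apply, Finset.sum_apply, Finset.sum_mul]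
      exact Finset.sum_congr rfl fun χ _ => by rw [Pi.smul_apply, smul_eq_mul, mul_assoc]
    have e2 : ∀ χ : IrrCharacter G, (Nat.card G : ℂ)⁻¹ * ∑ g : G,
        c χ * ((χ : G → ℂ) g * starRingEnd ℂ ((ξ : G → ℂ) g))
        = c χ * (if χ = ξ then 1 else 0) := by
      intro χ
      rw [← irr_orthonormal χ ξ, ← Finset.mul_sum, mul_left_comm]
      rfl
    show (Nat.card G : ℂ)⁻¹ * ∑ g : G,
      (Fintype.linearCombination ℂ (fun χ : IrrCharacter G => (χ : G → ℂ)) c) g
        * starRingEnd ℂ ((ξ : G → ℂ) g) = c ξ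
    rw [Finset.sum_congr rfl (fun g _ => e g), Finset.sum_comm, Finset.mul_sum,
      Finset.sum_congr rfl (fun χ _ => e2 χ),
      Finset.sum_eq_single ξ (fun χ _ hne => by rw [if_neg hne, mul_zero])
        (fun h => absurd (Finset.mem_univ ξ) h), if_pos rfl, mul_one]
  rw [hc] at h1
  rw [← h1]
  show (Nat.card G : ℂ)⁻¹ * ∑ g : G, (0 : G → ℂ) g * starRingEnd ℂ ((ξ : G → ℂ) g) = 0
  simp

/-- the `p`-regular rank of a block is the trace of the Gram matrix of the `p`-regular parts of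
its members. -/
theorem blockRank_trace {p : ℕ} [Fact p.Prime] {M : Ideal AlgInt} (hM : IsPModular p M)
    [hMp : M.IsPrime] (χ₀ : IrrCharacter G) :
    (Nat.card G : ℂ) * (blockRank p (blockOf M (χ₀ : G → ℂ)) : ℂ)
      = ∑ x : G, ∑ᶠ χ ∈ blockOf M (χ₀ : G → ℂ),
          pRegularPart p (χ : G → ℂ) x * (χ : G → ℂ) x⁻¹ := by
  classical
  obtain ⟨B, hB⟩ : ∃ B : Set (IrrCharacter G), B = blockOf M (χ₀ : G → ℂ) := ⟨_, rfl⟩
  rw [← hB]
  have hG0 : (Nat.card G : ℂ) ≠ 0 := Nat.cast_ne_zero.mpr Nat.card_pos.ne'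
  have hout : ∀ χ ψ : IrrCharacter G, χ ∈ B → ψ ∉ B →
      classInner (pRegularPart p (χ : G → ℂ)) (ψ : G → ℂ) = 0 := by
    intro χ ψ hχ hψ
    refine regInner_outside hM χ ψ (fun h => hψ ?_)
    rw [hB] at hχ ⊢
    exact sameBlock_trans hχ h
  obtain ⟨A, hA⟩ : ∃ A : Matrix (IrrCharacter G) (IrrCharacter G) ℂ,
      A = Matrix.of (fun ψ χ : IrrCharacter G =>
        if χ ∈ B then classInner (pRegularPart p (χ : G → ℂ)) (ψ : G → ℂ) else 0) := ⟨_, rfl⟩
  have hAapp : ∀ ψ χ : IrrCharacter G, A ψ χ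
      = if χ ∈ B then classInner (pRegularPart p (χ : G → ℂ)) (ψ : G → ℂ) else 0 :=
    fun ψ χ => by
      rw [hA]
      rfl
  have hAA : A * A = A := by
    ext ψ χ
    rw [Matrix.mul_apply]
    by_cases hχ : χ ∈ B
    · rw [hAapp ψ χ, if_pos hχ, ← regInner_idem χ ψ]
      refine Finset.sum_congr rfl fun ξ _ => ?_
      rw [hAapp ψ ξ, hAapp ξ χ, if_pos hχ]
      by_cases hξ : ξ ∈ B
      · rw [if_pos hξ, mul_comm]
      · rw [if_neg hξ, hout χ ξ hχ hξ, zero_mul, zero_mul]
    · rw [hAapp ψ χ, if_neg hχ]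
      refine Finset.sum_eq_zero fun ξ _ => ?_
      rw [hAapp ξ χ, if_neg hχ, mul_zero]
  obtain ⟨E, hE⟩ : ∃ E : (IrrCharacter G → ℂ) →ₗ[ℂ] (IrrCharacter G → ℂ),
      E = Matrix.toLin' A := ⟨_, rfl⟩
  have hEidem : IsIdempotentElem E := by
    show E * E = E
    rw [hE, Module.End.mul_eq_comp, ← Matrix.toLin'_mul, hAA]
  have htrace : LinearMap.trace ℂ (IrrCharacter G → ℂ) E
      = (Module.finrank ℂ (LinearMap.range E) : ℂ) :=
    ((LinearMap.isProj_range_iff_isIdempotentElem E).mpr hEidem).trace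
  have htr2 : LinearMap.trace ℂ (IrrCharacter G → ℂ) E = A.trace := by
    rw [hE]
    exact Matrix.trace_toLin'_eq A
  obtain ⟨v, hv⟩ : ∃ v : IrrCharacter G → (G → ℂ),
      v = fun χ => if χ ∈ B then pRegularPart p (χ : G → ℂ) else 0 := ⟨_, rfl⟩
  have hv1 : ∀ χ : IrrCharacter G, χ ∈ B → v χ = pRegularPart p (χ : G → ℂ) := fun χ hχ => by
    rw [hv]
    exact if_pos hχ
  have hv0 : ∀ χ : IrrCharacter G, χ ∉ B → v χ = 0 := fun χ hχ => by
    rw [hv]
    exact if_neg hχ
  have hspan : Submodule.span ℂ ((fun χ : IrrCharacter G => pRegularPart p (χ : G → ℂ)) '' B)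
      = Submodule.span ℂ (Set.range v) := by
    apply le_antisymm
    · refine Submodule.span_le.mpr ?_
      rintro _ ⟨χ, hχ, rfl⟩
      exact Submodule.subset_span ⟨χ, hv1 χ hχ⟩
    · refine Submodule.span_le.mpr ?_
      rintro _ ⟨χ, rfl⟩
      by_cases hχ : χ ∈ B
      · rw [hv1 χ hχ]
        exact Submodule.subset_span ⟨χ, hχ, rfl⟩
      · rw [hv0 χ hχ]
        exact Submodule.zero_mem _
  have hcomp : Fintype.linearCombination ℂ v
      = (Fintype.linearCombination ℂ (fun χ : IrrCharacter G => (χ : G → ℂ))).comp E := by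
    apply LinearMap.ext
    intro c
    funext g
    rw [LinearMap.comp_apply, Fintype.linearCombination_apply, Fintype.linearCombination_apply,
      Finset.sum_apply, Finset.sum_apply]
    have hL : ∀ χ : IrrCharacter G, (c χ • v χ) g
        = ∑ ψ : IrrCharacter G, A ψ χ * c χ * (ψ : G → ℂ) g := by
      intro χ
      rw [Pi.smul_apply, smul_eq_mul]
      by_cases hχ : χ ∈ B
      · rw [hv1 χ hχ, ← regPart_expand χ g, Finset.mul_sum]
        refine Finset.sum_congr rfl fun ψ _ => ?_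
        rw [hAapp ψ χ, if_pos hχ]
        ring
      · rw [hv0 χ hχ, Pi.zero_apply, mul_zero]
        symm
        refine Finset.sum_eq_zero fun ψ _ => ?_
        rw [hAapp ψ χ, if_neg hχ, zero_mul, zero_mul]
    have hR : ∀ ψ : IrrCharacter G, ((E c) ψ • (ψ : G → ℂ)) g
        = ∑ χ : IrrCharacter G, A ψ χ * c χ * (ψ : G → ℂ) g := by
      intro ψ
      rw [Pi.smul_apply, smul_eq_mul, hE, Matrix.toLin'_apply]
      show (∑ χ : IrrCharacter G, A ψ χ * c χ) * (ψ : G → ℂ) g = _
      rw [Finset.sum_mul]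
    rw [Finset.sum_congr rfl (fun χ _ => hL χ), Finset.sum_congr rfl (fun ψ _ => hR ψ),
      Finset.sum_comm]
  have hrank : blockRank p B = Module.finrank ℂ (LinearMap.range E) := by
    unfold blockRank
    rw [hspan, ← Fintype.range_linearCombination, hcomp, LinearMap.range_comp]
    exact (Submodule.equivMapOfInjective _ irr_linearCombination_injective
      (LinearMap.range E)).finrank_eq.symm
  have htrA : A.trace = ∑ χ : IrrCharacter G,
      if χ ∈ B then classInner (pRegularPart p (χ : G → ℂ)) (χ : G → ℂ) else 0 :=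
    Finset.sum_congr rfl fun χ _ => hAapp χ χ
  have hRHS : ∑ x : G, ∑ᶠ χ ∈ B, pRegularPart p (χ : G → ℂ) x * (χ : G → ℂ) x⁻¹
      = (Nat.card G : ℂ) * ∑ χ : IrrCharacter G,
          if χ ∈ B then classInner (pRegularPart p (χ : G → ℂ)) (χ : G → ℂ) else 0 := by
    have h1 : ∀ x : G, ∑ᶠ χ ∈ B, pRegularPart p (χ : G → ℂ) x * (χ : G → ℂ) x⁻¹
        = ∑ χ : IrrCharacter G, if χ ∈ B then
            pRegularPart p (χ : G → ℂ) x * starRingEnd ℂ ((χ : G → ℂ) x) else 0 := by
      intro x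
      rw [finsum_mem_eq_sum_ite']
      exact Finset.sum_congr rfl fun χ _ => by rw [irr_inv χ x]
    rw [Finset.sum_congr rfl (fun x _ => h1 x), Finset.sum_comm, Finset.mul_sum]
    refine Finset.sum_congr rfl fun χ _ => ?_
    by_cases hχ : χ ∈ B
    · rw [if_pos hχ, Finset.sum_congr rfl (fun x _ => if_pos hχ)]
      unfold classInner
      rw [← mul_assoc, mul_inv_cancel₀ hG0, one_mul]
    · rw [if_neg hχ, mul_zero]
      exact Finset.sum_eq_zero fun x _ => if_neg hχ
  rw [hRHS, hrank, ← htrace, htr2, htrA]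

end Cfsg.Agent.Helper5
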