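import Mathlib
import Cfsg.Prelude.Def_BlockRank
import Cfsg.Agent.Helper5.BlkRank
import Cfsg.Agent.Helper5.BlkDefect
import Cfsg.Agent.Helper22.BlkContrib

/-!
helper5: blocks of `p`-regular rank one: the single Cartan invariant is the order of a defect
group.
-/

set_option autoImplicit false

namespace Cfsg.Agent.Helper5

open Cfsg Cfsg.Agent.Helper24 Cfsg.Agent.Helper22

universe u

theorem finsum_mem_nat_eq_sum_ite {α : Type*} [Fintype α] (B : Set α) [DecidablePred (· ∈ B)]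
    (f : α → ℕ) : ∑ᶠ x ∈ B, f x = ∑ x, if x ∈ B then f x else 0 := by
  rw [finsum_mem_eq_finite_toFinset_sum _ (Set.toFinite _), ← Finset.sum_filter]
  refine Finset.sum_congr ?_ (fun _ _ => rfl)
  ext x; simp

/-- Bezout for the gcd of a finite family of natural numbers. -/
theorem exists_gcd_bezout {ι : Type*} [Fintype ι] (v : ι → ℕ) (i₀ : ι) (h0 : v i₀ ≠ 0) :
    ∃ g : ℕ, g ≠ 0 ∧ (∀ i, g ∣ v i) ∧ ∃ n : ι → ℤ, ∑ i, n i * (v i : ℤ) = g := by
  classical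
  obtain ⟨I, hI⟩ : ∃ I : Ideal ℤ, I = Ideal.span (Set.range fun i => (v i : ℤ)) := ⟨_, rfl⟩
  obtain ⟨g₀, hg₀⟩ : ∃ g₀ : ℤ, I = Ideal.span {g₀} :=
    (IsPrincipalIdealRing.principal I).principal
  have hmem : ∀ i, (v i : ℤ) ∈ I := fun i => by
    rw [hI]
    exact Ideal.subset_span ⟨i, rfl⟩
  have hdvd : ∀ i, g₀ ∣ (v i : ℤ) := fun i => by
    have h1 := hmem i
    rw [hg₀, Ideal.mem_span_singleton] at h1
    exact h1
  have hg₀mem : g₀ ∈ I := by
    rw [hg₀]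
    exact Ideal.mem_span_singleton_self g₀
  rw [hI, Ideal.mem_span_range_iff_exists_fun] at hg₀mem
  obtain ⟨c, hc⟩ := hg₀mem
  have hg₀ne : g₀ ≠ 0 := by
    rintro rfl
    have h1 := hdvd i₀
    rw [zero_dvd_iff] at h1
    exact h0 (by exact_mod_cast h1)
  refine ⟨g₀.natAbs, Int.natAbs_ne_zero.mpr hg₀ne, fun i => ?_, ?_⟩
  · have h1 := Int.natAbs_dvd_natAbs.mpr (hdvd i)
    simpa using h1
  · rcases Int.natAbs_eq g₀ with h | h
    · exact ⟨c, by rw [hc]; exact h⟩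
    · refine ⟨fun i => - c i, ?_⟩
      simp only [neg_mul, Finset.sum_neg_distrib]
      rw [hc]
      omega

variable {G : Type u} [Group G] [Fintype G]

/-- a block of `p`-regular rank one: all members are multiples of one function on the
`p`-regular elements and the sum of the squares of the multiplicities is the order of a defect
group. -/
theorem rank_one_cartan {p : ℕ} [Fact p.Prime] {M : Ideal AlgInt} (hM : IsPModular p M)
    [hMp : M.IsPrime] (χ₀ : IrrCharacter G) (P : Subgroup G)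
    (hP : IsDefectGroup p M (blockOf M (χ₀ : G → ℂ)) P)
    (hl : blockRank p (blockOf M (χ₀ : G → ℂ)) = 1) :
    ∃ φ : G → ℂ, ∃ d : IrrCharacter G → ℕ,
      (∃ n : IrrCharacter G → ℤ, ∀ x : G, IsPRegular p x →
        φ x = ∑ᶠ ψ ∈ blockOf M (χ₀ : G → ℂ), (n ψ : ℂ) * (ψ : G → ℂ) x) ∧
      (∀ χ ∈ blockOf M (χ₀ : G → ℂ), ∀ x : G, IsPRegular p x →
        (χ : G → ℂ) x = (d χ : ℂ) * φ x) ∧
      ∑ᶠ χ ∈ blockOf M (χ₀ : G → ℂ), d χ ^ 2 = Nat.card P := by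
  classical
  have hp : p.Prime := Fact.out
  have hcardP := card_defect_group hM χ₀ P hP
  obtain ⟨D, hD⟩ : ∃ D : ℕ, D = blockDefect p (blockOf M (χ₀ : G → ℂ)) := ⟨_, rfl⟩
  have hint0 := regInner_int hM χ₀
  rw [← hD] at hint0 hcardP
  obtain ⟨χ₁, hχ₁B, hχ₁h⟩ := exists_height_zero (M := M) p χ₀
  obtain ⟨hn0, hnval⟩ := tildeN_of_height_zero hM χ₀ χ₁ χ₁ hχ₁B hχ₁h hχ₁B
  have hval1 := block_val_eq (p := p) (M := M) χ₀ χ₁ hχ₁B
  rw [hχ₁h, add_zero] at hval1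
  have hval2 := block_defect_eq (M := M) p χ₀
  rw [← hD] at hval2
  have htrace := blockRank_trace hM χ₀
  obtain ⟨B, hB⟩ : ∃ B : Set (IrrCharacter G), B = blockOf M (χ₀ : G → ℂ) := ⟨_, rfl⟩
  rw [← hB] at hl hint0 hχ₁B htrace ⊢
  have hG0 : (Nat.card G : ℂ) ≠ 0 := Nat.cast_ne_zero.mpr Nat.card_pos.ne'
  have h1reg : ¬ p ∣ orderOf (1 : G) := by
    rw [orderOf_one]
    exact fun hd => hp.one_lt.ne' (Nat.dvd_one.mp hd)
  have hdeg : ∀ χ : IrrCharacter G, (χ : G → ℂ) 1 = (charDegree (χ : G → ℂ) : ℂ) ∧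
      charDegree (χ : G → ℂ) ≠ 0 := fun χ =>
    ⟨(irr_charDegree_spec χ).1, (irr_charDegree_spec χ).2.1⟩
  have hχ₁1 : (χ₁ : G → ℂ) 1 ≠ 0 := by
    rw [(hdeg χ₁).1]
    exact Nat.cast_ne_zero.mpr (hdeg χ₁).2
  -- rank one
  have hrank : ∀ χ ∈ B, ∀ x : G, pRegularPart p (χ : G → ℂ) x
      = (χ : G → ℂ) 1 / (χ₁ : G → ℂ) 1 * pRegularPart p (χ₁ : G → ℂ) x := by
    intro χ hχ x
    unfold blockRank at hl
    obtain ⟨S, hS⟩ : ∃ S : Submodule ℂ (G → ℂ), S = Submodule.span ℂ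
        ((fun χ : IrrCharacter G => pRegularPart p (χ : G → ℂ)) '' B) := ⟨_, rfl⟩
    rw [← hS] at hl
    have ht0 : pRegularPart p (χ₁ : G → ℂ) ∈ S := by
      rw [hS]
      exact Submodule.subset_span ⟨χ₁, hχ₁B, rfl⟩
    have hχ0 : pRegularPart p (χ : G → ℂ) ∈ S := by
      rw [hS]
      exact Submodule.subset_span ⟨χ, hχ, rfl⟩
    have hne : (⟨_, ht0⟩ : S) ≠ 0 := by
      intro h0
      have h0' : pRegularPart p (χ₁ : G → ℂ) = 0 := congrArg Subtype.val h0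
      have h2 := congrFun h0' 1
      rw [pRegularPart_reg _ h1reg] at h2
      exact hχ₁1 h2
    obtain ⟨c, hc⟩ := (finrank_eq_one_iff_of_nonzero' (⟨_, ht0⟩ : S) hne).mp hl ⟨_, hχ0⟩
    have hc' : c • pRegularPart p (χ₁ : G → ℂ) = pRegularPart p (χ : G → ℂ) :=
      congrArg Subtype.val hc
    have e1 := congrFun hc' 1
    have ex := congrFun hc' x
    rw [Pi.smul_apply, smul_eq_mul] at e1 ex
    rw [pRegularPart_reg _ h1reg, pRegularPart_reg _ h1reg] at e1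
    rw [← ex, ← e1]
    field_simp
  -- gcd and Bezout
  obtain ⟨v, hv⟩ : ∃ v : IrrCharacter G → ℕ,
      v = fun χ => if χ ∈ B then charDegree (χ : G → ℂ) else 0 := ⟨_, rfl⟩
  have hv1 : ∀ χ ∈ B, v χ = charDegree (χ : G → ℂ) := fun χ h => by rw [hv]; exact if_pos h
  have hv0 : ∀ χ, χ ∉ B → v χ = 0 := fun χ h => by rw [hv]; exact if_neg h
  obtain ⟨g, hg0, hgdvd, n, hn⟩ := exists_gcd_bezout v χ₁
    (by rw [hv1 χ₁ hχ₁B]; exact (hdeg χ₁).2)
  obtain ⟨d, hd⟩ : ∃ d : IrrCharacter G → ℕ, d = fun χ => v χ / g := ⟨_, rfl⟩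
  have hdv : ∀ χ, v χ = d χ * g := fun χ => by
    rw [hd]
    exact (Nat.div_mul_cancel (hgdvd χ)).symm
  have hgC : (g : ℂ) ≠ 0 := Nat.cast_ne_zero.mpr hg0
  have hdB : ∀ χ ∈ B, (χ : G → ℂ) 1 = (d χ : ℂ) * (g : ℂ) := fun χ h => by
    rw [(hdeg χ).1, ← hv1 χ h, hdv χ]
    push_cast
    ring
  obtain ⟨φ, hφ⟩ : ∃ φ : G → ℂ,
      φ = fun x => (g : ℂ) / (χ₁ : G → ℂ) 1 * pRegularPart p (χ₁ : G → ℂ) x := ⟨_, rfl⟩
  have hφx : ∀ x, φ x = (g : ℂ) / (χ₁ : G → ℂ) 1 * pRegularPart p (χ₁ : G → ℂ) x :=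
    fun x => by rw [hφ]
  have hkey : ∀ χ ∈ B, ∀ x : G, pRegularPart p (χ : G → ℂ) x = (d χ : ℂ) * φ x := by
    intro χ hχ x
    rw [hrank χ hχ x, hφx, hdB χ hχ]
    field_simp
  have hφsing : ∀ x : G, p ∣ orderOf x → φ x = 0 := fun x hx => by
    rw [hφx, pRegularPart_sing _ hx, mul_zero]
  obtain ⟨n', hn'⟩ : ∃ n' : IrrCharacter G → ℤ, n' = fun χ => if χ ∈ B then n χ else 0 :=
    ⟨_, rfl⟩
  have hn'1 : ∀ χ ∈ B, n' χ = n χ := fun χ h => by rw [hn']; exact if_pos h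
  have hn'0 : ∀ χ, χ ∉ B → n' χ = 0 := fun χ h => by rw [hn']; exact if_neg h
  have hbez : ∑ χ : IrrCharacter G, (n' χ : ℂ) * (d χ : ℂ) = 1 := by
    have h1 : (∑ χ : IrrCharacter G, (n χ : ℂ) * ((v χ : ℕ) : ℂ)) = (g : ℂ) := by
      have h2 := congrArg (Int.cast : ℤ → ℂ) hn
      push_cast at h2
      exact h2
    have h2 : (∑ χ : IrrCharacter G, (n' χ : ℂ) * (d χ : ℂ)) * (g : ℂ) = (g : ℂ) := by
      rw [Finset.sum_mul]
      refine Eq.trans (Finset.sum_congr rfl fun χ _ => ?_) h1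
      by_cases hχ : χ ∈ B
      · rw [hn'1 χ hχ, hdv χ]
        push_cast
        ring
      · rw [hn'0 χ hχ, hv0 χ hχ]
        simp
    exact mul_right_cancel₀ hgC (h2.trans (one_mul _).symm)
  refine ⟨φ, d, ⟨n', fun x hx => ?_⟩, fun χ hχ x hx => ?_, ?_⟩
  · rw [finsum_mem_eq_sum_ite']
    have h2 : ∑ ψ : IrrCharacter G, (if ψ ∈ B then (n' ψ : ℂ) * (ψ : G → ℂ) x else 0)
        = ∑ ψ : IrrCharacter G, (n' ψ : ℂ) * (d ψ : ℂ) * φ x := by
      refine Finset.sum_congr rfl fun ψ _ => ?_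
      by_cases hψ : ψ ∈ B
      · rw [if_pos hψ, ← pRegularPart_reg (p := p) (ψ : G → ℂ) hx, hkey ψ hψ x]
        ring
      · rw [if_neg hψ, hn'0 ψ hψ]
        simp
    rw [h2, ← Finset.sum_mul, hbez, one_mul]
  · rw [← pRegularPart_reg (p := p) (χ : G → ℂ) hx]
    exact hkey χ hχ x
  · obtain ⟨c, hc⟩ : ∃ c : ℕ, c = ∑ χ : IrrCharacter G, (if χ ∈ B then d χ ^ 2 else 0) :=
      ⟨_, rfl⟩
    have hfin : ∑ᶠ χ ∈ B, d χ ^ 2 = c := by
      rw [hc]
      exact finsum_mem_nat_eq_sum_ite B _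
    obtain ⟨N0, hN0⟩ : ∃ N0 : ℂ, N0 = ∑ x : G, φ x * starRingEnd ℂ (φ x) := ⟨_, rfl⟩
    have hinner : ∀ χ ∈ B, ∀ ψ ∈ B,
        ∑ x : G, pRegularPart p (χ : G → ℂ) x * starRingEnd ℂ ((ψ : G → ℂ) x)
          = (d χ : ℂ) * (d ψ : ℂ) * N0 := by
      intro χ hχ ψ hψ
      rw [hN0, Finset.mul_sum]
      refine Finset.sum_congr rfl fun x _ => ?_
      by_cases hx : p ∣ orderOf x
      · rw [pRegularPart_sing _ hx, hφsing x hx]
        simp
      · rw [hkey χ hχ x, ← pRegularPart_reg (p := p) (ψ : G → ℂ) hx, hkey ψ hψ x, map_mul,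
          Complex.conj_natCast]
        ring
    have htr : (Nat.card G : ℂ) = (c : ℂ) * N0 := by
      rw [hl, Nat.cast_one, mul_one] at htrace
      have h2 : ∑ x : G, ∑ᶠ χ ∈ B, pRegularPart p (χ : G → ℂ) x * (χ : G → ℂ) x⁻¹
          = ∑ x : G, ∑ χ : IrrCharacter G,
            (if χ ∈ B then pRegularPart p (χ : G → ℂ) x * (χ : G → ℂ) x⁻¹ else 0) :=
        Finset.sum_congr rfl fun x _ => finsum_mem_eq_sum_ite' B _
      rw [htrace, h2, Finset.sum_comm, hc, Nat.cast_sum, Finset.sum_mul]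
      refine Finset.sum_congr rfl fun χ _ => ?_
      by_cases hχ : χ ∈ B
      · simp only [if_pos hχ]
        have h3 := hinner χ hχ χ hχ
        have e5 : ((d χ ^ 2 : ℕ) : ℂ) * N0 = (d χ : ℂ) * (d χ : ℂ) * N0 := by
          push_cast
          ring
        rw [e5, ← h3]
        refine Finset.sum_congr rfl fun x _ => ?_
        rw [irr_inv]
      · simp only [if_neg hχ]
        simp
    have hcN : (c : ℂ) ≠ 0 := by
      intro h0
      rw [h0, zero_mul] at htr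
      exact hG0 htr
    have hN0' : N0 = (Nat.card G : ℂ) / (c : ℂ) := by
      rw [htr]
      field_simp
    have hint : ∀ χ ψ : IrrCharacter G, ∃ k : ℤ, χ ∈ B → ψ ∈ B →
        (p : ℂ) ^ D * ((d χ : ℂ) * (d ψ : ℂ)) = (k : ℂ) * (c : ℂ) := by
      intro χ ψ
      by_cases hχ : χ ∈ B
      · by_cases hψ : ψ ∈ B
        · obtain ⟨k, hk⟩ := hint0 χ ψ hχ
          refine ⟨k, fun _ _ => ?_⟩
          rw [classInner_def', hinner χ hχ ψ hψ, hN0'] at hk
          rw [← hk]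
          field_simp
        · exact ⟨0, fun _ h => absurd h hψ⟩
      · exact ⟨0, fun h _ => absurd h hχ⟩
    choose k hk using hint
    have hC : ((p : ℂ) ^ D) = (c : ℂ) * ∑ χ : IrrCharacter G, ∑ ψ : IrrCharacter G,
        (n' χ : ℂ) * (n' ψ : ℂ) * (k χ ψ : ℂ) := by
      have e1 : (p : ℂ) ^ D = (p : ℂ) ^ D *
          ((∑ χ : IrrCharacter G, (n' χ : ℂ) * (d χ : ℂ)) *
            (∑ ψ : IrrCharacter G, (n' ψ : ℂ) * (d ψ : ℂ))) := by
        rw [hbez]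
        ring
      rw [e1, Finset.sum_mul_sum, Finset.mul_sum]
      rw [Finset.mul_sum]
      refine Finset.sum_congr rfl fun χ _ => ?_
      rw [Finset.mul_sum, Finset.mul_sum]
      refine Finset.sum_congr rfl fun ψ _ => ?_
      by_cases hχ : χ ∈ B
      · by_cases hψ : ψ ∈ B
        · have h5 := hk χ ψ hχ hψ
          linear_combination (n' χ : ℂ) * (n' ψ : ℂ) * h5
        · rw [hn'0 ψ hψ]
          simp
      · rw [hn'0 χ hχ]
        simp
    have hdiv : (c : ℤ) ∣ (p : ℤ) ^ D :=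
      ⟨∑ χ : IrrCharacter G, ∑ ψ : IrrCharacter G, n' χ * n' ψ * k χ ψ, by exact_mod_cast hC⟩
    have hcdvd : c ∣ p ^ D := by exact_mod_cast hdiv
    obtain ⟨j, hjD, hcj⟩ := (Nat.dvd_prime_pow hp).mp hcdvd
    have hN11 : (tildeN p χ₁ χ₁ : ℂ) * (c : ℂ)
        = ((p ^ (Nat.card G).factorization p : ℕ) : ℂ) * (d χ₁ : ℂ) ^ 2 := by
      rw [← tildeN_spec, classInner_def']
      have h3 : ∑ x : G, tildeFun p (χ₁ : G → ℂ) x * starRingEnd ℂ ((χ₁ : G → ℂ) x)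
          = ((p ^ (Nat.card G).factorization p : ℕ) : ℂ)
            * ((d χ₁ : ℂ) * (d χ₁ : ℂ) * N0) := by
        rw [← hinner χ₁ hχ₁B χ₁ hχ₁B, Finset.mul_sum]
        refine Finset.sum_congr rfl fun x _ => ?_
        unfold tildeFun
        by_cases hx : p ∣ orderOf x
        · rw [if_pos hx, pRegularPart_sing _ hx]
          ring
        · rw [if_neg hx, pRegularPart_reg _ hx]
          ring
      rw [h3, hN0']
      field_simp
    have hN11' : tildeN p χ₁ χ₁ * (c : ℤ)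
        = ((p ^ (Nat.card G).factorization p : ℕ) : ℤ) * ((d χ₁ : ℕ) : ℤ) ^ 2 := by
      exact_mod_cast hN11
    have hd1 : d χ₁ ≠ 0 := by
      intro h0
      have h5 := hdv χ₁
      rw [h0, zero_mul, hv1 χ₁ hχ₁B] at h5
      exact (hdeg χ₁).2 h5
    have hnat : (tildeN p χ₁ χ₁).natAbs * c
        = p ^ (Nat.card G).factorization p * d χ₁ ^ 2 := by
      have h5 := congrArg Int.natAbs hN11'
      simpa [Int.natAbs_mul, Int.natAbs_pow] using h5
    have hv3 := congrArg (padicValNat p) hnat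
    rw [hcj, padicValNat.mul (Int.natAbs_ne_zero.mpr hn0) (pow_ne_zero _ hp.ne_zero),
      padicValNat.mul (pow_ne_zero _ hp.ne_zero) (pow_ne_zero _ hd1), padicValNat.prime_pow,
      padicValNat.prime_pow] at hv3
    have hnval' : padicValNat p (tildeN p χ₁ χ₁).natAbs
        = (charDegree (χ₁ : G → ℂ)).factorization p := hnval
    have hjD' : D ≤ j := by omega
    have hjeq : j = D := le_antisymm hjD hjD'
    rw [hfin, hcj, hjeq]
    exact hcardP.symm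

end Cfsg.Agent.Helper5
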