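import Mathlib
import Cfsg.Prelude.Def_BlockRank
import Cfsg.Agent.Helper5.BlkRank
import Cfsg.Agent.Helper5.BlkDefect
import Cfsg.Agent.Helper5.BlkBO
import Cfsg.Agent.Helper5.BlkOne
import Cfsg.Agent.Helper22.BlkContrib
import Cfsg.Agent.Helper22.Brauer4
import Cfsg.Agent.Helper24.CharDecomp

/-!
helper5: the exact power of `p` dividing the sum of the squares of the degrees in a block.
-/

set_option autoImplicit false

namespace Cfsg.Agent.Helper5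

open Cfsg Cfsg.Agent.Helper24 Cfsg.Agent.Helper22

universe u

variable {G : Type u} [Group G] [Fintype G]

/-- a class function constant on `p'`-sections with values in the local ring has inner
products with characters in the local ring. -/
theorem section_classInner_local {p : ℕ} [Fact p.Prime] {M : Ideal AlgInt} (hM : IsPModular p M)
    [hMp : M.IsPrime] {n a r : ℕ} (hcard : Nat.card G = n * p ^ a) (hnp : ¬ p ∣ n)
    (hr1 : r ≡ 1 [MOD n]) (hr0 : r ≡ 0 [MOD p ^ a])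
    (ϑ : G → ℂ) (hcf : IsClassFunction G ϑ) (hpow : ∀ x : G, ϑ (x ^ r) = ϑ x)
    (hloc : ∀ x : G, MemLocalRing M (ϑ x)) (χ : G → ℂ) (hχ : IsCharacter G χ) :
    MemLocalRing M (classInner ϑ χ) := by
  classical
  have hp : p.Prime := Fact.out
  have hn0 : n ≠ 0 := by
    rintro rfl
    exact hnp (dvd_zero p)
  have hnC : (n : ℂ) ≠ 0 := Nat.cast_ne_zero.mpr hn0
  have hcop : Nat.Coprime n (p ^ a) :=
    Nat.Coprime.pow_right a ((Nat.Prime.coprime_iff_not_dvd hp).mpr hnp).symm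
  have hex : ∀ x : G, ∃ a b : AlgInt, b ∉ M ∧ (a : ℂ) / (b : ℂ) = ϑ x := hloc
  choose α b hb hab using hex
  obtain ⟨c, hc⟩ : ∃ c : AlgInt, c = ∏ x : G, b x := ⟨_, rfl⟩
  have hcM : c ∉ M := by
    rw [hc]
    intro h
    obtain ⟨x, -, hx⟩ := (hMp.prod_mem_iff).mp h
    exact hb x hx
  have hcC : (c : ℂ) ≠ 0 := coe_ne_zero_of_notMem hcM
  have hcint : ∀ x : G, IsIntegral ℤ ((c : ℂ) * ϑ x) := by
    intro x
    have hb0 : (b x : ℂ) ≠ 0 := coe_ne_zero_of_notMem (hb x)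
    have e : (c : ℂ) * ϑ x = ((α x * ∏ y ∈ Finset.univ.erase x, b y : AlgInt) : ℂ) := by
      rw [hc, ← hab x, ← Finset.mul_prod_erase Finset.univ b (Finset.mem_univ x)]
      push_cast
      field_simp
    rw [e]
    exact (α x * ∏ y ∈ Finset.univ.erase x, b y).2
  have h1 := section_classInner_integral (dvd_of_eq hcard) hcop hn0 hr1 hr0
    (fun x => (n : ℂ) * ((c : ℂ) * ϑ x))
    (fun g h => by
      show (n : ℂ) * ((c : ℂ) * ϑ (h * g * h⁻¹)) = (n : ℂ) * ((c : ℂ) * ϑ g)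
      rw [hcf g h])
    (fun x => by
      show (n : ℂ) * ((c : ℂ) * ϑ (x ^ r)) = (n : ℂ) * ((c : ℂ) * ϑ x)
      rw [hpow x])
    (fun x => by
      show IsIntegral ℤ ((n : ℂ) * ((c : ℂ) * ϑ x) / (n : ℂ))
      rw [mul_div_cancel_left₀ _ hnC]
      exact hcint x) χ hχ
  have e2 : classInner (fun x => (n : ℂ) * ((c : ℂ) * ϑ x)) χ
      = (n : ℂ) * (c : ℂ) * classInner ϑ χ := by
    rw [classInner_def', classInner_def']
    have e3 : ∑ g : G, (n : ℂ) * ((c : ℂ) * ϑ g) * starRingEnd ℂ (χ g)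
        = (n : ℂ) * (c : ℂ) * ∑ g : G, ϑ g * starRingEnd ℂ (χ g) := by
      rw [Finset.mul_sum]
      exact Finset.sum_congr rfl fun g _ => by ring
    rw [e3]
    ring
  rw [e2] at h1
  have hz : classInner ϑ χ
      = ((n : ℂ) * (c : ℂ) * classInner ϑ χ) * ((n : ℂ)⁻¹ * (c : ℂ)⁻¹) := by
    field_simp
  rw [hz]
  exact (locRing M).mul_mem (integral_mem_locRing h1)
    ((locRing M).mul_mem (natCast_inv_memLocalRing hM hnp)
      (inv_mem_locRing (algInt_mem_locRing c)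
        (fun h => hcM ((algInt_memLocalIdeal_iff c).mp h))))

/-- the coefficients of a block idempotent are, on `p`-regular elements, a combination of the
members of the block with coefficients in the local ring. -/
theorem blockCoeff_inv_expand {p : ℕ} [Fact p.Prime] {M : Ideal AlgInt} (hM : IsPModular p M)
    [hMp : M.IsPrime] (χ₀ : IrrCharacter G) :
    ∃ w : IrrCharacter G → ℂ, (∀ ξ, MemLocalRing M (w ξ)) ∧
      (∀ ξ, ξ ∉ blockOf M (χ₀ : G → ℂ) → w ξ = 0) ∧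
      ∀ g : G, blockCoeff (blockOf M (χ₀ : G → ℂ)) g⁻¹
        = ∑ ξ : IrrCharacter G, w ξ * pRegularPart p (ξ : G → ℂ) g := by
  classical
  have hp : p.Prime := Fact.out
  have hG0 : Nat.card G ≠ 0 := Nat.card_pos.ne'
  have hGC : (Nat.card G : ℂ) ≠ 0 := Nat.cast_ne_zero.mpr hG0
  obtain ⟨a, ha⟩ : ∃ a : ℕ, a = (Nat.card G).factorization p := ⟨_, rfl⟩
  obtain ⟨n, hn⟩ : ∃ n : ℕ, n = Nat.card G / p ^ a := ⟨_, rfl⟩
  have hcard : Nat.card G = n * p ^ a := by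
    rw [hn, ha, Nat.div_mul_cancel (Nat.ordProj_dvd _ _)]
  have hnp : ¬ p ∣ n := by
    rw [hn, ha]
    exact Nat.not_dvd_ordCompl hp hG0
  have hcop : Nat.Coprime n (p ^ a) :=
    Nat.Coprime.pow_right a ((Nat.Prime.coprime_iff_not_dvd hp).mpr hnp).symm
  obtain ⟨r, hr1, hr0⟩ := Nat.chineseRemainder hcop 1 0
  obtain ⟨B, hB⟩ : ∃ B : Set (IrrCharacter G), B = blockOf M (χ₀ : G → ℂ) := ⟨_, rfl⟩
  have h1reg : ¬ p ∣ orderOf (1 : G) := by
    rw [orderOf_one]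
    exact fun hd => hp.one_lt.ne' (Nat.dvd_one.mp hd)
  -- γ
  obtain ⟨γ, hγ⟩ : ∃ γ : G → ℂ, γ = fun x => blockCoeff (blockOf M (χ₀ : G → ℂ)) x⁻¹ :=
    ⟨_, rfl⟩
  have hγx : ∀ x, γ x = blockCoeff (blockOf M (χ₀ : G → ℂ)) x⁻¹ := fun x => by rw [hγ]
  have hγsum : ∀ x, γ x = (Nat.card G : ℂ)⁻¹ *
      ∑ χ : IrrCharacter G, (if χ ∈ B then (χ : G → ℂ) 1 * (χ : G → ℂ) x else 0) := by
    intro x
    rw [hγx]
    unfold blockCoeff
    rw [← hB, finsum_mem_eq_sum_ite']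
    congr 1
    refine Finset.sum_congr rfl fun χ _ => ?_
    by_cases hχ : χ ∈ B
    · rw [if_pos hχ, if_pos hχ, irr_inv, Complex.conj_conj]
    · rw [if_neg hχ, if_neg hχ]
  have hγcf : IsClassFunction G γ := by
    intro g h
    rw [hγx, hγx]
    have e : (h * g * h⁻¹)⁻¹ = h * g⁻¹ * h⁻¹ := by group
    rw [e]
    exact blockCoeff_conj _ _ _
  have hγloc : ∀ x, MemLocalRing M (γ x) := fun x => by
    rw [hγx]
    exact blockCoeff_memLocalRing χ₀ _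
  have hγsing : ∀ x : G, p ∣ orderOf x → γ x = 0 := by
    intro x hx
    rw [hγx]
    have hx' : p ∣ orderOf x⁻¹ := by rw [orderOf_inv]; exact hx
    have h := weak_block_orth hM χ₀ 1 x⁻¹ h1reg hx'
    unfold blockCoeff
    rw [h, mul_zero]
  have hpowreg : ∀ x : G, ¬ p ∣ orderOf x → x ^ r = x := by
    intro x hx
    have h1 : orderOf x ∣ n * p ^ a := by
      rw [← hcard]
      exact orderOf_dvd_natCard x
    have h2 : Nat.Coprime (orderOf x) (p ^ a) :=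
      Nat.Coprime.pow_right a ((Nat.Prime.coprime_iff_not_dvd hp).mpr hx).symm
    have h3 : orderOf x ∣ n := h2.dvd_of_dvd_mul_right h1
    exact pow_eq_self_of_modEq hr1 (orderOf_dvd_iff_pow_eq_one.mp h3)
  -- ϑ
  obtain ⟨ϑ, hϑ⟩ : ∃ ϑ : G → ℂ, ϑ = fun x => γ (x ^ r) := ⟨_, rfl⟩
  have hϑx : ∀ x, ϑ x = γ (x ^ r) := fun x => by rw [hϑ]
  have hϑcf : IsClassFunction G ϑ := by
    intro g h
    rw [hϑx, hϑx, conj_pow]
    exact hγcf _ _
  have hϑpow : ∀ x : G, ϑ (x ^ r) = ϑ x := by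
    intro x
    rw [hϑx, hϑx]
    have h1 : (x ^ r) ^ n = 1 := pow_mul_eq_one_of_modEq (dvd_of_eq hcard) hr0 x
    rw [pow_eq_self_of_modEq hr1 h1]
  have hϑloc : ∀ x, MemLocalRing M (ϑ x) := fun x => by
    rw [hϑx]
    exact hγloc _
  obtain ⟨w, hw⟩ : ∃ w : IrrCharacter G → ℂ, w = fun ξ : IrrCharacter G => classInner ϑ (ξ : G → ℂ) :=
    ⟨_, rfl⟩
  have hwloc : ∀ ξ, MemLocalRing M (w ξ) := fun ξ => by
    rw [hw]
    exact section_classInner_local hM hcard hnp hr1 hr0 ϑ hϑcf hϑpow hϑloc _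
      (isCharacter_of_isIrrCharacter ξ.2)
  -- (a)
  have hA : ∀ g : G, γ g = ∑ ξ : IrrCharacter G, w ξ * pRegularPart p (ξ : G → ℂ) g := by
    intro g
    by_cases hg : p ∣ orderOf g
    · rw [hγsing g hg]
      symm
      refine Finset.sum_eq_zero fun ξ _ => ?_
      rw [pRegularPart_sing _ hg, mul_zero]
    · have h1 := classFun_expand ϑ hϑcf g
      rw [hϑx, hpowreg g hg] at h1
      rw [← h1]
      refine Finset.sum_congr rfl fun ξ _ => ?_
      rw [pRegularPart_reg _ hg, hw]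
  -- (b)
  have hBinner : ∀ ψ ∈ B, classInner γ (ψ : G → ℂ) = (ψ : G → ℂ) 1 / (Nat.card G : ℂ) := by
    intro ψ hψ
    have h1 : ∀ χ : IrrCharacter G,
        ∑ x : G, (χ : G → ℂ) x * starRingEnd ℂ ((ψ : G → ℂ) x)
          = (Nat.card G : ℂ) * (if χ = ψ then 1 else 0) := by
      intro χ
      have h2 := irr_orthonormal χ ψ
      rw [classInner_def'] at h2
      rw [← h2]
      field_simp
    rw [classInner_def']
    have h3 : ∑ x : G, γ x * starRingEnd ℂ ((ψ : G → ℂ) x)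
        = (Nat.card G : ℂ)⁻¹ * ∑ χ : IrrCharacter G, (if χ ∈ B then (χ : G → ℂ) 1 else 0) *
            ∑ x : G, (χ : G → ℂ) x * starRingEnd ℂ ((ψ : G → ℂ) x) := by
      have h4 : ∀ x : G, γ x * starRingEnd ℂ ((ψ : G → ℂ) x)
          = (Nat.card G : ℂ)⁻¹ * ∑ χ : IrrCharacter G, (if χ ∈ B then (χ : G → ℂ) 1 else 0) *
              ((χ : G → ℂ) x * starRingEnd ℂ ((ψ : G → ℂ) x)) := by
        intro x
        rw [hγsum x, mul_assoc, Finset.sum_mul]
        congr 1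
        refine Finset.sum_congr rfl fun χ _ => ?_
        by_cases hχ : χ ∈ B
        · rw [if_pos hχ, if_pos hχ]
          ring
        · rw [if_neg hχ, if_neg hχ, zero_mul, zero_mul]
      rw [Finset.sum_congr rfl fun x _ => h4 x, ← Finset.mul_sum, Finset.sum_comm]
      congr 1
      refine Finset.sum_congr rfl fun χ _ => ?_
      rw [Finset.mul_sum]
    rw [h3]
    have h5 : ∑ χ : IrrCharacter G, (if χ ∈ B then (χ : G → ℂ) 1 else 0) *
        ∑ x : G, (χ : G → ℂ) x * starRingEnd ℂ ((ψ : G → ℂ) x)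
          = (Nat.card G : ℂ) * (ψ : G → ℂ) 1 := by
      rw [Finset.sum_eq_single ψ]
      · rw [if_pos hψ, h1 ψ, if_pos rfl]
        ring
      · intro χ _ hχψ
        rw [h1 χ, if_neg hχψ]
        ring
      · intro h
        exact absurd (Finset.mem_univ ψ) h
    rw [h5]
    field_simp
  -- w restricted to the block
  obtain ⟨wB, hwB⟩ : ∃ wB : IrrCharacter G → ℂ, wB = fun ξ => if ξ ∈ B then w ξ else 0 :=
    ⟨_, rfl⟩
  have hwB1 : ∀ ξ ∈ B, wB ξ = w ξ := fun ξ h => by rw [hwB]; exact if_pos h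
  have hwB0 : ∀ ξ, ξ ∉ B → wB ξ = 0 := fun ξ h => by rw [hwB]; exact if_neg h
  have hout : ∀ ξ ψ : IrrCharacter G, ξ ∈ B → ψ ∉ B →
      classInner (pRegularPart p (ξ : G → ℂ)) (ψ : G → ℂ) = 0 := by
    intro ξ ψ hξ hψ
    refine regInner_outside hM ξ ψ fun h => hψ ?_
    rw [hB] at hξ ⊢
    exact sameBlock_trans hξ h
  have hout' : ∀ ξ ψ : IrrCharacter G, ξ ∉ B → ψ ∈ B →
      classInner (pRegularPart p (ξ : G → ℂ)) (ψ : G → ℂ) = 0 := by
    intro ξ ψ hξ hψ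
    refine regInner_outside hM ξ ψ fun h => hξ ?_
    rw [hB] at hψ ⊢
    exact sameBlock_trans hψ (sameBlock_symm h)
  -- (c)
  obtain ⟨c, hc⟩ : ∃ c : IrrCharacter G → ℂ, c = fun ψ : IrrCharacter G => ∑ ξ : IrrCharacter G,
      wB ξ * classInner (pRegularPart p (ξ : G → ℂ)) (ψ : G → ℂ) := ⟨_, rfl⟩
  have hcψ : ∀ ψ, c ψ = ∑ ξ : IrrCharacter G,
      wB ξ * classInner (pRegularPart p (ξ : G → ℂ)) (ψ : G → ℂ) := fun ψ => by rw [hc]
  have hc0 : ∀ ψ, ψ ∉ B → c ψ = 0 := by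
    intro ψ hψ
    rw [hcψ]
    refine Finset.sum_eq_zero fun ξ _ => ?_
    by_cases hξ : ξ ∈ B
    · rw [hout ξ ψ hξ hψ, mul_zero]
    · rw [hwB0 ξ hξ, zero_mul]
  have hc1 : ∀ ψ ∈ B, c ψ = (ψ : G → ℂ) 1 / (Nat.card G : ℂ) := by
    intro ψ hψ
    rw [hcψ, ← hBinner ψ hψ, classInner_def']
    have h1 : ∑ x : G, γ x * starRingEnd ℂ ((ψ : G → ℂ) x)
        = ∑ ξ : IrrCharacter G, w ξ *
            ∑ x : G, pRegularPart p (ξ : G → ℂ) x * starRingEnd ℂ ((ψ : G → ℂ) x) := by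
      have h2 : ∀ x : G, γ x * starRingEnd ℂ ((ψ : G → ℂ) x)
          = ∑ ξ : IrrCharacter G, w ξ *
              (pRegularPart p (ξ : G → ℂ) x * starRingEnd ℂ ((ψ : G → ℂ) x)) := by
        intro x
        rw [hA x, Finset.sum_mul]
        exact Finset.sum_congr rfl fun ξ _ => by ring
      rw [Finset.sum_congr rfl fun x _ => h2 x, Finset.sum_comm]
      refine Finset.sum_congr rfl fun ξ _ => ?_
      rw [Finset.mul_sum]
    rw [h1, Finset.mul_sum]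
    refine Finset.sum_congr rfl fun ξ _ => ?_
    by_cases hξ : ξ ∈ B
    · rw [hwB1 ξ hξ, classInner_def']
      ring
    · have h3 := hout' ξ ψ hξ hψ
      rw [classInner_def'] at h3
      rw [hwB0 ξ hξ, zero_mul]
      have h4 : ∑ x : G, pRegularPart p (ξ : G → ℂ) x * starRingEnd ℂ ((ψ : G → ℂ) x) = 0 := by
        have h5 := congrArg (fun z => (Nat.card G : ℂ) * z) h3
        simp only [mul_zero] at h5
        rw [← mul_assoc, mul_inv_cancel₀ hGC, one_mul] at h5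
        exact h5
      rw [h4]
      ring
  refine ⟨wB, fun ξ => ?_, fun ξ hξ => hwB0 ξ (hB ▸ hξ), fun g => ?_⟩
  · by_cases hξ : ξ ∈ B
    · rw [hwB1 ξ hξ]
      exact hwloc ξ
    · rw [hwB0 ξ hξ]
      exact (locRing M).zero_mem
  · rw [← hγx, hγsum g]
    have h1 : (Nat.card G : ℂ)⁻¹ *
        ∑ χ : IrrCharacter G, (if χ ∈ B then (χ : G → ℂ) 1 * (χ : G → ℂ) g else 0)
        = ∑ ψ : IrrCharacter G, c ψ * (ψ : G → ℂ) g := by
      rw [Finset.mul_sum]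
      refine Finset.sum_congr rfl fun ψ _ => ?_
      by_cases hψ : ψ ∈ B
      · rw [if_pos hψ, hc1 ψ hψ]
        field_simp
      · rw [if_neg hψ, hc0 ψ hψ]
        ring
    rw [h1]
    have h2 : ∀ ψ : IrrCharacter G, c ψ * (ψ : G → ℂ) g
        = ∑ ξ : IrrCharacter G, wB ξ *
          (classInner (pRegularPart p (ξ : G → ℂ)) (ψ : G → ℂ) * (ψ : G → ℂ) g) := by
      intro ψ
      rw [hcψ, Finset.sum_mul]
      exact Finset.sum_congr rfl fun ξ _ => by ring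
    rw [Finset.sum_congr rfl fun ψ _ => h2 ψ, Finset.sum_comm]
    refine Finset.sum_congr rfl fun ξ _ => ?_
    rw [← Finset.mul_sum, regPart_expand]

theorem centralizer_inv_eq (g : G) :
    Subgroup.centralizer ({g⁻¹} : Set G) = Subgroup.centralizer ({g} : Set G) := by
  ext x
  rw [Subgroup.mem_centralizer_singleton_iff, Subgroup.mem_centralizer_singleton_iff]
  constructor
  · intro h
    calc x * g = g * (g⁻¹ * x) * g := by group
      _ = g * (x * g⁻¹) * g := by rw [h]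
      _ = g * x := by group
  · intro h
    calc x * g⁻¹ = g⁻¹ * (g * x) * g⁻¹ := by group
      _ = g⁻¹ * (x * g) * g⁻¹ := by rw [h]
      _ = g⁻¹ * x := by group

/-- the exact power of `p` dividing the sum of the squares of the degrees of a block of defect
`d` is `p ^ (2 a - d)`. -/
theorem degree_sq_sum_val {p : ℕ} [Fact p.Prime] {M : Ideal AlgInt} (hM : IsPModular p M)
    [hMp : M.IsPrime] (χ₀ : IrrCharacter G) :
    (∑ᶠ χ ∈ blockOf M (χ₀ : G → ℂ), charDegree (χ : G → ℂ) ^ 2).factorization p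
      = 2 * (Nat.card G).factorization p - blockDefect p (blockOf M (χ₀ : G → ℂ)) := by
  classical
  have hp : p.Prime := Fact.out
  have hG0 : Nat.card G ≠ 0 := Nat.card_pos.ne'
  have hGC : (Nat.card G : ℂ) ≠ 0 := Nat.cast_ne_zero.mpr hG0
  obtain ⟨w, hwloc, hw0, hexp⟩ := blockCoeff_inv_expand (p := p) hM χ₀
  obtain ⟨g₀, hg₀⟩ := exists_defect_class (M := M) χ₀
  have hsInf := sInf_degree_eq hM χ₀ g₀ hg₀
  have hdef := block_defect_eq (M := M) p χ₀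
  obtain ⟨m, hm⟩ : ∃ m : ℕ, m = sInf ((fun χ : IrrCharacter G =>
      (charDegree (χ : G → ℂ)).factorization p) '' blockOf M (χ₀ : G → ℂ)) := ⟨_, rfl⟩
  rw [← hm] at hsInf hdef
  obtain ⟨a, ha⟩ : ∃ a : ℕ, a = (Nat.card G).factorization p := ⟨_, rfl⟩
  rw [← ha] at hdef ⊢
  have hreg₀ : ¬ p ∣ orderOf g₀ := pRegular_of_blockCoeff hM χ₀ g₀ hg₀.2.1
  have hreg₁ : ¬ p ∣ orderOf g₀⁻¹ := by
    rw [orderOf_inv]
    exact hreg₀
  have h1reg : ¬ p ∣ orderOf (1 : G) := by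
    rw [orderOf_one]
    exact fun hd => hp.one_lt.ne' (Nat.dvd_one.mp hd)
  obtain ⟨B, hB⟩ : ∃ B : Set (IrrCharacter G), B = blockOf M (χ₀ : G → ℂ) := ⟨_, rfl⟩
  have hdeg : ∀ χ : IrrCharacter G, (χ : G → ℂ) 1 = (charDegree (χ : G → ℂ) : ℂ) ∧
      charDegree (χ : G → ℂ) ≠ 0 := fun χ =>
    ⟨(irr_charDegree_spec χ).1, (irr_charDegree_spec χ).2.1⟩
  have hdvd : ∀ ξ ∈ B, p ^ m ∣ charDegree (ξ : G → ℂ) := by
    intro ξ hξ
    have h1 : m ≤ (charDegree (ξ : G → ℂ)).factorization p := by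
      rw [hm]
      exact Nat.sInf_le ⟨ξ, hB ▸ hξ, rfl⟩
    exact (pow_dvd_pow p h1).trans (Nat.ordProj_dvd _ _)
  obtain ⟨cdeg, hcdeg⟩ : ∃ cdeg : IrrCharacter G → ℕ,
      cdeg = fun ξ : IrrCharacter G => charDegree (ξ : G → ℂ) / p ^ m := ⟨_, rfl⟩
  have hcd : ∀ ξ ∈ B, (ξ : G → ℂ) 1 = (p : ℂ) ^ m * (cdeg ξ : ℂ) := by
    intro ξ hξ
    rw [(hdeg ξ).1, hcdeg]
    have h1 := Nat.mul_div_cancel' (hdvd ξ hξ)
    exact_mod_cast h1.symm
  obtain ⟨S, hS⟩ : ∃ S : ℕ, S = ∑ χ : IrrCharacter G,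
      (if χ ∈ B then charDegree (χ : G → ℂ) ^ 2 else 0) := ⟨_, rfl⟩
  have hfin : ∑ᶠ χ ∈ blockOf M (χ₀ : G → ℂ), charDegree (χ : G → ℂ) ^ 2 = S := by
    rw [hS, ← hB]
    exact finsum_mem_nat_eq_sum_ite B _
  have hχ₀B : χ₀ ∈ B := by
    rw [hB]
    exact sameBlock_refl _
  have hS0 : S ≠ 0 := by
    rw [hS]
    intro h0
    have h1 := (Finset.sum_eq_zero_iff.mp h0) χ₀ (Finset.mem_univ _)
    rw [if_pos hχ₀B] at h1
    exact (hdeg χ₀).2 (pow_eq_zero_iff two_ne_zero |>.mp h1)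
  have hβ1 : blockCoeff (blockOf M (χ₀ : G → ℂ)) 1 = (S : ℂ) / (Nat.card G : ℂ) := by
    unfold blockCoeff
    rw [← hB, finsum_mem_eq_sum_ite', hS]
    push_cast
    rw [inv_mul_eq_div]
    congr 1
    refine Finset.sum_congr rfl fun χ _ => ?_
    by_cases hχ : χ ∈ B
    · rw [if_pos hχ, if_pos hχ, (hdeg χ).1, Complex.conj_natCast]
      ring
    · rw [if_neg hχ, if_neg hχ]
  have hpm : ((p : ℂ) ^ m) ≠ 0 := pow_ne_zero _ (Nat.cast_ne_zero.mpr hp.ne_zero)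
  -- evaluation at 1
  have he1 := hexp 1
  rw [inv_one, hβ1] at he1
  obtain ⟨σ, hσdef⟩ : ∃ σ : ℂ, σ = ∑ ξ : IrrCharacter G, w ξ * (cdeg ξ : ℂ) := ⟨_, rfl⟩
  have hσ : (S : ℂ) / (Nat.card G : ℂ) = (p : ℂ) ^ m * σ := by
    rw [he1, hσdef, Finset.mul_sum]
    refine Finset.sum_congr rfl fun ξ _ => ?_
    by_cases hξ : ξ ∈ B
    · rw [pRegularPart_reg _ h1reg, hcd ξ hξ]
      ring
    · rw [hw0 ξ (hB ▸ hξ)]
      ring
  have hσloc : MemLocalRing M σ := by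
    rw [hσdef]
    exact Subring.sum_mem (locRing M) fun ξ _ =>
      (locRing M).mul_mem (hwloc ξ) (natCast_memLocalRing _)
  -- evaluation at the inverse of a defect class
  have he2 := hexp g₀⁻¹
  rw [inv_inv] at he2
  obtain ⟨idx, hidx⟩ : ∃ idx : ℕ, idx = (Subgroup.centralizer ({g₀⁻¹} : Set G)).index :=
    ⟨_, rfl⟩
  have hidx0 : idx ≠ 0 := by
    rw [hidx]
    exact Subgroup.index_ne_zero_of_finite
  have hidxval : idx.factorization p = m := by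
    rw [hidx, centralizer_inv_eq, ← hsInf]
  obtain ⟨i₁, hi₁⟩ : ∃ i₁ : ℕ, i₁ = idx / p ^ m := ⟨_, rfl⟩
  have hidxmul : idx = p ^ m * i₁ := by
    rw [hi₁, ← hidxval]
    exact (Nat.ordProj_mul_ordCompl_eq_self idx p).symm
  have hi₁p : ¬ p ∣ i₁ := by
    rw [hi₁, ← hidxval]
    exact Nat.not_dvd_ordCompl hp hidx0
  obtain ⟨ω, hω⟩ : ∃ ω : IrrCharacter G → ℂ,
      ω = fun ξ : IrrCharacter G => centralChar (ξ : G → ℂ) g₀⁻¹ := ⟨_, rfl⟩
  have hωξ' : ∀ ξ : IrrCharacter G, ω ξ = centralChar (ξ : G → ℂ) g₀⁻¹ := fun ξ => by rw [hω]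
  have hωξ : ∀ ξ : IrrCharacter G,
      (idx : ℂ) * (ξ : G → ℂ) g₀⁻¹ = ω ξ * (ξ : G → ℂ) 1 := by
    intro ξ
    rw [hωξ']
    unfold centralChar
    rw [← hidx]
    have h1 : (ξ : G → ℂ) 1 ≠ 0 := by
      rw [(hdeg ξ).1]
      exact Nat.cast_ne_zero.mpr (hdeg ξ).2
    field_simp
  have hmain : (i₁ : ℂ) * blockCoeff (blockOf M (χ₀ : G → ℂ)) g₀
      = ∑ ξ : IrrCharacter G, w ξ * ω ξ * (cdeg ξ : ℂ) := by
    have h1 : (p : ℂ) ^ m * ((i₁ : ℂ) * blockCoeff (blockOf M (χ₀ : G → ℂ)) g₀)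
        = (p : ℂ) ^ m * ∑ ξ : IrrCharacter G, w ξ * ω ξ * (cdeg ξ : ℂ) := by
      have hidxC : (p : ℂ) ^ m * (i₁ : ℂ) = (idx : ℂ) := by
        rw [hidxmul]
        push_cast
        ring
      rw [← mul_assoc, hidxC, he2, Finset.mul_sum, Finset.mul_sum]
      refine Finset.sum_congr rfl fun ξ _ => ?_
      by_cases hξ : ξ ∈ B
      · rw [pRegularPart_reg _ hreg₁]
        have h2 := hωξ ξ
        rw [hcd ξ hξ] at h2
        linear_combination (w ξ) * h2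
      · rw [hw0 ξ (hB ▸ hξ)]
        ring
    exact mul_left_cancel₀ hpm h1
  have hδ : ∀ ξ ∈ B, MemLocalIdeal M (ω χ₀ - ω ξ) := by
    intro ξ hξ
    rw [hωξ', hωξ']
    exact (hB ▸ hξ : ξ ∈ blockOf M (χ₀ : G → ℂ)) g₀⁻¹
  have hdiff : MemLocalIdeal M
      (ω χ₀ * σ - (i₁ : ℂ) * blockCoeff (blockOf M (χ₀ : G → ℂ)) g₀) := by
    rw [hmain, hσdef, Finset.mul_sum, ← Finset.sum_sub_distrib]
    refine memLocalIdeal_sum _ _ fun ξ _ => ?_
    by_cases hξ : ξ ∈ B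
    · have e : ω χ₀ * (w ξ * (cdeg ξ : ℂ)) - w ξ * ω ξ * (cdeg ξ : ℂ)
          = (w ξ * (cdeg ξ : ℂ)) * (ω χ₀ - ω ξ) := by ring
      rw [e]
      exact memLocalIdeal_mul_left
        ((locRing M).mul_mem (hwloc ξ) (natCast_memLocalRing _)) (hδ ξ hξ)
    · rw [hw0 ξ (hB ▸ hξ)]
      have e : ω χ₀ * (0 * (cdeg ξ : ℂ)) - 0 * ω ξ * (cdeg ξ : ℂ) = 0 := by ring
      rw [e]
      exact memLocalIdeal_zero hMp.ne_top
  have hunit : ¬ MemLocalIdeal M ((i₁ : ℂ) * blockCoeff (blockOf M (χ₀ : G → ℂ)) g₀) :=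
    not_memLocalIdeal_mul (natCast_memLocalRing i₁)
      (not_memLocalIdeal_natCast hM ((Nat.Prime.coprime_iff_not_dvd hp).mpr hi₁p).symm)
      hg₀.2.1
  have hσnot : ¬ MemLocalIdeal M σ := by
    intro h
    have h1 := memLocalIdeal_mul_left
      (integral_mem_locRing (M := M) (centralChar_isIntegral χ₀ g₀⁻¹)) h
    rw [← hωξ'] at h1
    have h3 := memLocalIdeal_sub h1 hdiff
    rw [sub_sub_cancel] at h3
    exact hunit h3
  have hσeq : (S : ℂ) / ((Nat.card G * p ^ m : ℕ) : ℂ) = σ := by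
    have h1 : σ = (S : ℂ) / (Nat.card G : ℂ) / (p : ℂ) ^ m := by
      rw [hσ]
      field_simp
    rw [h1]
    push_cast
    field_simp
  have hnd := nat_div_mem hM hS0 (Nat.mul_ne_zero hG0 (pow_ne_zero m hp.ne_zero))
  rw [hσeq] at hnd
  have h1 := hnd.1.mp hσloc
  have h2 : ¬ ((Nat.card G * p ^ m).factorization p < S.factorization p) :=
    fun h => hσnot (hnd.2.mpr h)
  have hfac : (Nat.card G * p ^ m).factorization p = a + m := by
    rw [Nat.factorization_mul hG0 (pow_ne_zero m hp.ne_zero), Finsupp.add_apply,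
      Nat.Prime.factorization_pow hp, Finsupp.single_eq_same, ← ha]
  rw [hfin]
  omega

end Cfsg.Agent.Helper5
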