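import Mathlib
import Cfsg.Prelude.Def_BlockRank
import Cfsg.Agent.Helper5.BlkSq
import Cfsg.Agent.Helper5.BlkBr
import Cfsg.Agent.Helper5.BlkSec2

/-!
helper5: Külshammer's formula for the principal block idempotent.
-/

set_option autoImplicit false

namespace Cfsg.Agent.Helper5

open Cfsg Cfsg.Agent.Helper24 Cfsg.Agent.Helper22

universe u

variable {G : Type u} [Group G] [Fintype G]

/-- the convolution of the indicator of the `p`-elements with the indicator of the `p`-regular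
elements is congruent to the number of `p`-regular elements times the principal block
idempotent, at the inverse of every `p`-regular element. -/
theorem kul_congr {p : ℕ} [Fact p.Prime] {M : Ideal AlgInt} (hM : IsPModular p M)
    [hMp : M.IsPrime]
    (F : G → ℂ) (hF1 : ∀ x : G, (∃ k : ℕ, orderOf x = p ^ k) → F x = 1)
    (hF0 : ∀ x : G, ¬ (∃ k : ℕ, orderOf x = p ^ k) → F x = 0)
    (F' : G → ℂ) (hF'reg : ∀ y : G, ¬ p ∣ orderOf y → F' y = 1)
    (hF'sing : ∀ y : G, p ∣ orderOf y → F' y = 0)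
    (h : G) (hh : ¬ p ∣ orderOf h) :
    MemLocalIdeal M ((∑ x : G, F x * F' (x⁻¹ * h⁻¹))
      - (∑ y : G, F' y) * blockCoeff (principalBlock M G) h⁻¹) := by
  classical
  have hp : p.Prime := Fact.out
  have hG0 : Nat.card G ≠ 0 := Nat.card_pos.ne'
  have hGC : (Nat.card G : ℂ) ≠ 0 := Nat.cast_ne_zero.mpr hG0
  obtain ⟨triv, htriv⟩ : ∃ t : IrrCharacter G, (t : G → ℂ) = fun _ => 1 :=
    ⟨⟨_, Helper24.isIrrCharacter_one⟩, rfl⟩
  have hPB := principalBlock_eq_blockOf M triv htriv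
  rw [hPB]
  have hF'cf : IsClassFunction G F' := by
    intro g t
    have ho : orderOf (t * g * t⁻¹) = orderOf g := orderOf_conj' t g
    by_cases hg : p ∣ orderOf g
    · rw [hF'sing g hg, hF'sing _ (by rw [ho]; exact hg)]
    · rw [hF'reg g hg, hF'reg _ (by rw [ho]; exact hg)]
  have hF'loc : ∀ y, MemLocalRing M (F' y) := by
    intro y
    by_cases hy : p ∣ orderOf y
    · rw [hF'sing y hy]
      exact (locRing M).zero_mem
    · rw [hF'reg y hy]
      exact (locRing M).one_mem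
  have hFcf : IsClassFunction G F := by
    intro g t
    have ho : orderOf (t * g * t⁻¹) = orderOf g := orderOf_conj' t g
    by_cases hg : ∃ k : ℕ, orderOf g = p ^ k
    · rw [hF1 g hg, hF1 _ (by rw [ho]; exact hg)]
    · rw [hF0 g hg, hF0 _ (by rw [ho]; exact hg)]
  have hFloc : ∀ x, MemLocalRing M (F x) := by
    intro x
    by_cases hx : ∃ k : ℕ, orderOf x = p ^ k
    · rw [hF1 x hx]
      exact (locRing M).one_mem
    · rw [hF0 x hx]
      exact (locRing M).zero_mem
  obtain ⟨a, ha⟩ : ∃ a : ℕ, a = (Nat.card G).factorization p := ⟨_, rfl⟩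
  obtain ⟨n, hn⟩ : ∃ n : ℕ, n = Nat.card G / p ^ a := ⟨_, rfl⟩
  have hcard : Nat.card G = n * p ^ a := by
    rw [hn, ha, Nat.div_mul_cancel (Nat.ordProj_dvd _ _)]
  have hnp : ¬ p ∣ n := by
    rw [hn, ha]
    exact Nat.not_dvd_ordCompl hp hG0
  have hcop : Nat.Coprime n (p ^ a) :=
    Nat.Coprime.pow_right a ((Nat.Prime.coprime_iff_not_dvd hp).mpr hnp).symm
  obtain ⟨r, hr1, hr0⟩ := Nat.chineseRemainder hcop 1 0
  have hFpow : ∀ x : G, F (x ^ r) = F x := by
    intro x
    have hiff : (∃ k : ℕ, orderOf (x ^ r) = p ^ k) ↔ (∃ k : ℕ, orderOf x = p ^ k) := by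
      constructor
      · rintro ⟨k, hk⟩
        have h1 : (x ^ r) ^ n = 1 := pow_mul_eq_one_of_modEq (dvd_of_eq hcard) hr0 x
        have h2 : orderOf (x ^ r) ∣ n := orderOf_dvd_of_pow_eq_one h1
        have h3 : orderOf (x ^ r) = 1 := by
          rw [hk] at h2 ⊢
          cases k with
          | zero => rfl
          | succ k => exact absurd ((dvd_pow_self p (Nat.succ_ne_zero k)).trans h2) hnp
        have h4 : x ^ r = 1 := orderOf_eq_one_iff.mp h3
        have h5 : orderOf x ∣ r := orderOf_dvd_of_pow_eq_one h4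
        have h6 : orderOf x ∣ n * p ^ a := by
          rw [← hcard]
          exact orderOf_dvd_natCard x
        have h7 : Nat.Coprime r n := by
          show Nat.gcd r n = 1
          rw [Nat.ModEq.gcd_eq hr1]
          exact Nat.gcd_one_left n
        have h8 : Nat.Coprime (orderOf x) n := Nat.Coprime.coprime_dvd_left h5 h7
        have h9 : orderOf x ∣ p ^ a := h8.dvd_of_dvd_mul_left h6
        obtain ⟨j, -, hj⟩ := (Nat.dvd_prime_pow hp).mp h9
        exact ⟨j, hj⟩
      · rintro ⟨k, hk⟩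
        have h1 : p ^ k ∣ Nat.card G := by
          rw [← hk]
          exact orderOf_dvd_natCard x
        have h2 : k ≤ a := by
          rw [ha]
          exact (hp.pow_dvd_iff_le_factorization hG0).mp h1
        have h3 : p ^ a ∣ r := (Nat.modEq_zero_iff_dvd).mp hr0
        have h4 : x ^ r = 1 := orderOf_dvd_iff_pow_eq_one.mp (by
          rw [hk]
          exact (pow_dvd_pow p h2).trans h3)
        exact ⟨0, by rw [h4, orderOf_one, pow_zero]⟩
    by_cases hx : ∃ k : ℕ, orderOf x = p ^ k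
    · rw [hF1 x hx, hF1 _ (hiff.mpr hx)]
    · rw [hF0 x hx, hF0 _ (fun h' => hx (hiff.mp h'))]
  obtain ⟨a', ha'⟩ : ∃ a' : IrrCharacter G → ℂ, a' = fun χ : IrrCharacter G =>
      (Nat.card G : ℂ)⁻¹ * ∑ x : G, F x * (χ : G → ℂ) x := ⟨_, rfl⟩
  have ha'χ : ∀ χ : IrrCharacter G,
      a' χ = (Nat.card G : ℂ)⁻¹ * ∑ x : G, F x * (χ : G → ℂ) x := fun χ => by rw [ha']
  have ha'loc : ∀ χ : IrrCharacter G, MemLocalRing M (a' χ) := by
    intro χ
    have h1 := section_classInner_local hM hcard hnp hr1 hr0 F hFcf hFpow hFloc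
      (fun g => starRingEnd ℂ ((χ : G → ℂ) g))
      (isCharacter_star (isCharacter_of_isIrrCharacter χ.2))
    rw [classInner_def'] at h1
    rw [ha'χ]
    have e : ∑ g : G, F g * starRingEnd ℂ (starRingEnd ℂ ((χ : G → ℂ) g))
        = ∑ x : G, F x * (χ : G → ℂ) x :=
      Finset.sum_congr rfl fun g _ => by rw [Complex.conj_conj]
    rw [e] at h1
    exact h1
  obtain ⟨Ω, hΩ⟩ : ∃ Ω : IrrCharacter G → ℂ, Ω = fun χ : IrrCharacter G =>
      ((χ : G → ℂ) 1)⁻¹ * ∑ y : G, F' y * (χ : G → ℂ) y := ⟨_, rfl⟩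
  have hΩχ : ∀ χ : IrrCharacter G,
      Ω χ = ((χ : G → ℂ) 1)⁻¹ * ∑ y : G, F' y * (χ : G → ℂ) y := fun χ => by rw [hΩ]
  obtain ⟨R, hR⟩ : ∃ R : ℂ, R = ∑ y : G, F' y := ⟨_, rfl⟩
  rw [← hR]
  obtain ⟨B, hB⟩ : ∃ B : Set (IrrCharacter G), B = blockOf M (triv : G → ℂ) := ⟨_, rfl⟩
  have hΩB : ∀ χ ∈ B, MemLocalIdeal M (Ω χ - R) := by
    intro χ hχ
    have h1 := classFun_congr hF'cf hF'loc
      (sameBlock_symm (hB ▸ hχ : χ ∈ blockOf M (triv : G → ℂ)))
    have e : ((triv : G → ℂ) 1)⁻¹ * ∑ g : G, F' g * (triv : G → ℂ) g = R := by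
      rw [hR, htriv]
      simp
    rw [e, ← hΩχ] at h1
    exact h1
  have hΩout : ∀ χ : IrrCharacter G, χ ∉ B → Ω χ = 0 := by
    intro χ hχ
    have h1 := regInner_outside (p := p) hM χ triv
      (fun h' => hχ (by rw [hB]; exact sameBlock_symm h'))
    rw [classInner_def'] at h1
    have h2 : ∑ g : G, pRegularPart p (χ : G → ℂ) g * starRingEnd ℂ ((triv : G → ℂ) g)
        = ∑ y : G, F' y * (χ : G → ℂ) y := by
      refine Finset.sum_congr rfl fun y _ => ?_
      rw [htriv]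
      by_cases hy : p ∣ orderOf y
      · rw [pRegularPart_sing _ hy, hF'sing y hy]
        simp
      · rw [pRegularPart_reg _ hy, hF'reg y hy]
        simp
    rw [h2] at h1
    rw [hΩχ]
    have h3 : ∑ y : G, F' y * (χ : G → ℂ) y = 0 := by
      have h5 := congrArg (fun z => (Nat.card G : ℂ) * z) h1
      simp only [mul_zero] at h5
      rw [← mul_assoc, mul_inv_cancel₀ hGC, one_mul] at h5
      exact h5
    rw [h3, mul_zero]
  obtain ⟨Nf, hNf⟩ : ∃ Nf : G → ℂ, Nf = fun g => ∑ x : G, F x * F' (x⁻¹ * g) := ⟨_, rfl⟩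
  have hNfx : ∀ g, Nf g = ∑ x : G, F x * F' (x⁻¹ * g) := fun g => by rw [hNf]
  have hNfcf : IsClassFunction G Nf := by
    rw [hNf]
    exact conv_isClassFunction F F' hFcf hF'cf
  have hNfinv : IsClassFunction G (fun g => Nf g⁻¹) := by
    intro g t
    show Nf (t * g * t⁻¹)⁻¹ = Nf g⁻¹
    have e : (t * g * t⁻¹)⁻¹ = t * g⁻¹ * t⁻¹ := by group
    rw [e]
    exact hNfcf _ _
  have hP4 : ∀ χ : IrrCharacter G,
      classInner (fun g => Nf g⁻¹) (χ : G → ℂ) = a' χ * Ω χ := by
    intro χ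
    rw [classInner_def']
    have h1 : ∑ g : G, Nf g⁻¹ * starRingEnd ℂ ((χ : G → ℂ) g)
        = ∑ g : G, Nf g * (χ : G → ℂ) g := by
      rw [← Equiv.sum_comp (Equiv.inv G) (fun g => Nf g * (χ : G → ℂ) g)]
      refine Finset.sum_congr rfl fun g _ => ?_
      show _ = Nf g⁻¹ * (χ : G → ℂ) g⁻¹
      rw [irr_inv]
    rw [h1]
    have h2 := conv_char_sum F F' hF'cf χ
    have h3 : ∑ g : G, Nf g * (χ : G → ℂ) g
        = ∑ h : G, (∑ x : G, F x * F' (x⁻¹ * h)) * (χ : G → ℂ) h :=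
      Finset.sum_congr rfl fun g _ => by rw [hNfx]
    rw [h3, h2, ha'χ, hΩχ]
    ring
  have hE1 : Nf h⁻¹ = ∑ χ : IrrCharacter G, a' χ * Ω χ * (χ : G → ℂ) h := by
    have h1 := classFun_expand (fun g => Nf g⁻¹) hNfinv h
    rw [← h1]
    exact Finset.sum_congr rfl fun χ _ => by rw [hP4]
  have hE2 : blockCoeff (blockOf M (triv : G → ℂ)) h⁻¹
      = ∑ χ : IrrCharacter G, (if χ ∈ B then a' χ * (χ : G → ℂ) h else 0) := by
    obtain ⟨T, hT⟩ : ∃ T : ℂ, T = ∑ χ : IrrCharacter G,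
        (if χ ∈ B then (χ : G → ℂ) 1 * (χ : G → ℂ) h else 0) := ⟨_, rfl⟩
    have hTx : ∀ x : G, F x * ∑ χ : IrrCharacter G,
        (if χ ∈ B then (χ : G → ℂ) x * (χ : G → ℂ) h else 0) = if x = 1 then T else 0 := by
      intro x
      by_cases hx1 : x = 1
      · rw [if_pos hx1, hx1, hF1 1 ⟨0, by rw [orderOf_one, pow_zero]⟩, one_mul, hT]
      · rw [if_neg hx1]
        by_cases hx : ∃ k : ℕ, orderOf x = p ^ k
        · obtain ⟨k, hk⟩ := hx
          have hk0 : k ≠ 0 := by
            rintro rfl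
            rw [pow_zero] at hk
            exact hx1 (orderOf_eq_one_iff.mp hk)
          have hxs : p ∣ orderOf x⁻¹ := by
            rw [orderOf_inv, hk]
            exact dvd_pow_self p hk0
          have hw := weak_block_orth hM triv h x⁻¹ hh hxs
          rw [← hB, finsum_mem_eq_sum_ite'] at hw
          have e : ∑ χ : IrrCharacter G,
              (if χ ∈ B then (χ : G → ℂ) x * (χ : G → ℂ) h else 0) = 0 := by
            refine Eq.trans (Finset.sum_congr rfl fun χ _ => ?_) hw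
            by_cases hχ : χ ∈ B
            · rw [if_pos hχ, if_pos hχ, irr_inv, Complex.conj_conj]
              ring
            · rw [if_neg hχ, if_neg hχ]
          rw [e, mul_zero]
        · rw [hF0 x hx, zero_mul]
    have h1 : ∑ χ : IrrCharacter G, (if χ ∈ B then a' χ * (χ : G → ℂ) h else 0)
        = (Nat.card G : ℂ)⁻¹ * ∑ x : G, F x * ∑ χ : IrrCharacter G,
            (if χ ∈ B then (χ : G → ℂ) x * (χ : G → ℂ) h else 0) := by
      have h2 : ∀ x : G, F x * ∑ χ : IrrCharacter G,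
          (if χ ∈ B then (χ : G → ℂ) x * (χ : G → ℂ) h else 0)
          = ∑ χ : IrrCharacter G,
            (if χ ∈ B then F x * (χ : G → ℂ) x * (χ : G → ℂ) h else 0) := by
        intro x
        rw [Finset.mul_sum]
        refine Finset.sum_congr rfl fun χ _ => ?_
        by_cases hχ : χ ∈ B
        · rw [if_pos hχ, if_pos hχ]
          ring
        · rw [if_neg hχ, if_neg hχ, mul_zero]
      rw [Finset.sum_congr rfl fun x _ => h2 x, Finset.sum_comm, Finset.mul_sum]
      refine Finset.sum_congr rfl fun χ _ => ?_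
      by_cases hχ : χ ∈ B
      · simp only [if_pos hχ]
        rw [ha'χ, mul_assoc, Finset.sum_mul]
      · simp only [if_neg hχ]
        simp
    have h4 : ∑ x : G, (if x = 1 then T else 0) = T := by
      rw [Finset.sum_eq_single (1 : G)]
      · rw [if_pos rfl]
      · intro b _ hb
        rw [if_neg hb]
      · intro hne
        exact absurd (Finset.mem_univ _) hne
    rw [h1, Finset.sum_congr rfl fun x _ => hTx x, h4]
    unfold blockCoeff
    rw [← hB, finsum_mem_eq_sum_ite', hT]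
    congr 1
    refine Finset.sum_congr rfl fun χ _ => ?_
    by_cases hχ : χ ∈ B
    · rw [if_pos hχ, if_pos hχ, irr_inv, Complex.conj_conj]
    · rw [if_neg hχ, if_neg hχ]
  have hmain : (∑ x : G, F x * F' (x⁻¹ * h⁻¹))
      - R * blockCoeff (blockOf M (triv : G → ℂ)) h⁻¹
      = ∑ χ : IrrCharacter G,
        (if χ ∈ B then a' χ * (Ω χ - R) * (χ : G → ℂ) h else 0) := by
    rw [← hNfx, hE1, hE2, Finset.mul_sum, ← Finset.sum_sub_distrib]
    refine Finset.sum_congr rfl fun χ _ => ?_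
    by_cases hχ : χ ∈ B
    · rw [if_pos hχ, if_pos hχ]
      ring
    · rw [if_neg hχ, if_neg hχ, hΩout χ hχ]
      ring
  rw [hmain]
  refine memLocalIdeal_sum _ _ fun χ _ => ?_
  by_cases hχ : χ ∈ B
  · rw [if_pos hχ]
    have e : a' χ * (Ω χ - R) * (χ : G → ℂ) h = (a' χ * (χ : G → ℂ) h) * (Ω χ - R) := by ring
    rw [e]
    exact memLocalIdeal_mul_left
      ((locRing M).mul_mem (ha'loc χ) (integral_mem_locRing (irr_isIntegral χ h))) (hΩB χ hχ)
  · rw [if_neg hχ]
    exact memLocalIdeal_zero hMp.ne_top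

/-- **Külshammer's formula** for the principal block idempotent. -/
theorem kulshammer {p : ℕ} [Fact p.Prime] {M : Ideal AlgInt} (hM : IsPModular p M)
    [hMp : M.IsPrime] (g : G) (hg : ¬ p ∣ orderOf g) :
    MemLocalIdeal M (blockCoeff (principalBlock M G) g
      - (Nat.card {xy : G × G // (∃ k : ℕ, orderOf xy.1 = p ^ k) ∧ ¬ p ∣ orderOf xy.2 ∧
          xy.1 * xy.2 = g} : ℂ) / (Nat.card {y : G // ¬ p ∣ orderOf y} : ℂ)) := by
  classical
  have hp : p.Prime := Fact.out
  obtain ⟨triv, htriv⟩ : ∃ t : IrrCharacter G, (t : G → ℂ) = fun _ => 1 :=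
    ⟨⟨_, Helper24.isIrrCharacter_one⟩, rfl⟩
  have hPB := principalBlock_eq_blockOf M triv htriv
  have hβloc : ∀ g' : G, MemLocalRing M (blockCoeff (principalBlock M G) g') := fun g' => by
    rw [hPB]
    exact blockCoeff_memLocalRing triv g'
  obtain ⟨F, hF⟩ : ∃ F : G → ℂ,
      F = fun x => if (∃ k : ℕ, orderOf x = p ^ k) then 1 else 0 := ⟨_, rfl⟩
  have hF1 : ∀ x : G, (∃ k : ℕ, orderOf x = p ^ k) → F x = 1 := fun x h => by
    rw [hF]
    exact if_pos h
  have hF0 : ∀ x : G, ¬ (∃ k : ℕ, orderOf x = p ^ k) → F x = 0 := fun x h => by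
    rw [hF]
    exact if_neg h
  obtain ⟨F', hF'⟩ : ∃ F' : G → ℂ, F' = fun y => if p ∣ orderOf y then 0 else 1 := ⟨_, rfl⟩
  have hF'1 : ∀ y : G, ¬ p ∣ orderOf y → F' y = 1 := fun y h => by
    rw [hF']
    exact if_neg h
  have hF'0 : ∀ y : G, p ∣ orderOf y → F' y = 0 := fun y h => by
    rw [hF']
    exact if_pos h
  have hR : (Nat.card {y : G // ¬ p ∣ orderOf y} : ℂ) = ∑ y : G, F' y := by
    rw [Nat.card_eq_fintype_card, Fintype.card_subtype, Finset.card_filter]
    push_cast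
    refine Finset.sum_congr rfl fun y _ => ?_
    by_cases hy : p ∣ orderOf y
    · rw [if_neg (not_not.mpr hy), hF'0 y hy]
    · rw [if_pos hy, hF'1 y hy]
  have hN : ∀ g' : G, (Nat.card {xy : G × G // (∃ k : ℕ, orderOf xy.1 = p ^ k) ∧
      ¬ p ∣ orderOf xy.2 ∧ xy.1 * xy.2 = g'} : ℂ) = ∑ x : G, F x * F' (x⁻¹ * g') := by
    intro g'
    rw [Nat.card_eq_fintype_card, Fintype.card_subtype, Finset.card_filter]
    push_cast
    rw [Fintype.sum_prod_type]
    refine Finset.sum_congr rfl fun x _ => ?_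
    rw [Finset.sum_eq_single (x⁻¹ * g')]
    · by_cases hx : ∃ k : ℕ, orderOf x = p ^ k
      · by_cases hy : p ∣ orderOf (x⁻¹ * g')
        · rw [hF1 x hx, hF'0 _ hy, if_neg (fun h => h.2.1 hy)]
          simp
        · rw [hF1 x hx, hF'1 _ hy, if_pos ⟨hx, hy, mul_inv_cancel_left x g'⟩]
          simp
      · rw [hF0 x hx, if_neg (fun h => hx h.1)]
        simp
    · intro y _ hy
      rw [if_neg]
      rintro ⟨-, -, h3⟩
      apply hy
      have h4 : x * y = g' := h3
      rw [← h4]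
      group
    · intro h
      exact absurd (Finset.mem_univ _) h
  have h1reg : ¬ p ∣ orderOf (1 : G) := by
    rw [orderOf_one]
    exact fun hd => hp.one_lt.ne' (Nat.dvd_one.mp hd)
  have hc1 := kul_congr hM F hF1 hF0 F' hF'1 hF'0 1 h1reg
  rw [inv_one] at hc1
  have hN1 : ∑ x : G, F x * F' (x⁻¹ * 1) = 1 := by
    rw [Finset.sum_eq_single (1 : G)]
    · rw [hF1 1 ⟨0, by rw [orderOf_one, pow_zero]⟩, inv_one, one_mul, one_mul, hF'1 1 h1reg]
    · intro x _ hx1
      by_cases hx : ∃ k : ℕ, orderOf x = p ^ k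
      · obtain ⟨k, hk⟩ := hx
        have hk0 : k ≠ 0 := by
          rintro rfl
          rw [pow_zero] at hk
          exact hx1 (orderOf_eq_one_iff.mp hk)
        have hxs : p ∣ orderOf (x⁻¹ * 1) := by
          rw [mul_one, orderOf_inv, hk]
          exact dvd_pow_self p hk0
        rw [hF'0 _ hxs, mul_zero]
      · rw [hF0 x hx, zero_mul]
    · intro h
      exact absurd (Finset.mem_univ _) h
  rw [hN1] at hc1
  obtain ⟨Rn, hRn⟩ : ∃ Rn : ℕ, Rn = Nat.card {y : G // ¬ p ∣ orderOf y} := ⟨_, rfl⟩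
  rw [← hRn] at hR
  have hRnp : ¬ p ∣ Rn := by
    intro hd
    obtain ⟨q, hq⟩ := hd
    have h2 : MemLocalIdeal M ((Rn : ℂ)) := by
      rw [hq]
      push_cast
      have h5 := memLocalIdeal_mul_left (natCast_memLocalRing (M := M) q)
        (prime_memLocalIdeal hM)
      rwa [mul_comm] at h5
    have h3 : MemLocalIdeal M ((∑ y : G, F' y) * blockCoeff (principalBlock M G) 1) := by
      rw [← hR, mul_comm]
      exact memLocalIdeal_mul_left (hβloc 1) h2
    have h4 := memLocalIdeal_add hMp hc1 h3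
    rw [sub_add_cancel] at h4
    exact not_memLocalIdeal_one h4
  have hc := kul_congr hM F hF1 hF0 F' hF'1 hF'0 g⁻¹ (by rw [orderOf_inv]; exact hg)
  rw [inv_inv] at hc
  rw [hN g, ← hRn, hR]
  have hRC : (∑ y : G, F' y) ≠ 0 := by
    rw [← hR]
    exact Nat.cast_ne_zero.mpr (fun h0 => hRnp (h0 ▸ dvd_zero p))
  have e : blockCoeff (principalBlock M G) g
        - (∑ x : G, F x * F' (x⁻¹ * g)) / (∑ y : G, F' y)
      = (-(∑ y : G, F' y)⁻¹) * ((∑ x : G, F x * F' (x⁻¹ * g))
          - (∑ y : G, F' y) * blockCoeff (principalBlock M G) g) := by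
    field_simp
    ring
  rw [e]
  refine memLocalIdeal_mul_left ?_ hc
  rw [← hR]
  exact (locRing M).neg_mem (natCast_inv_memLocalRing hM hRnp)

end Cfsg.Agent.Helper5
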