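import Mathlib
import Cfsg.Agent.Helper5.BlkRoot
import Cfsg.Agent.Helper5.BlkCount
import Cfsg.Agent.Helper22.BlkNil

/-!
helper5: Brauer's First Main Theorem (S0920).
-/

set_option autoImplicit false

namespace Cfsg.Agent.Helper5

open Cfsg Cfsg.Agent.Helper24 Cfsg.Agent.Helper22

universe u

section Grp

variable {G : Type u} [Group G]

/-- the normalizer condition in `p`-groups, elementwise. -/
theorem exists_normalizing_of_lt [Finite G] {p : ℕ} [Fact p.Prime] (D S : Subgroup G)
    (hS : IsPGroup p S) (hDS : D < S) :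
    ∃ x ∈ S, x ∉ D ∧ x ∈ Subgroup.normalizer (D : Set G) := by
  have hnil : Group.IsNilpotent S := hS.isNilpotent
  have hnc := Group.normalizerCondition_of_isNilpotent (G := S)
  have hlt : D.subgroupOf S < ⊤ := by
    rw [lt_top_iff_ne_top]
    intro h
    rw [Subgroup.subgroupOf_eq_top] at h
    exact (not_le_of_gt hDS) h
  obtain ⟨x, hxN, hxD⟩ := SetLike.exists_of_lt (hnc _ hlt)
  refine ⟨x, x.2, fun h => hxD (Subgroup.mem_subgroupOf.mpr h), ?_⟩
  apply mem_normalizer_of_conj_mem
  intro q hq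
  have h1 := (Subgroup.mem_normalizer_iff.mp hxN ⟨q, hDS.le hq⟩).mp
    (Subgroup.mem_subgroupOf.mpr hq)
  exact Subgroup.mem_subgroupOf.mp h1

/-- Key lemma: if `D` is a maximal `p`-subgroup of `C_G(y) ∩ N_G(D)`, every `p`-subgroup of
`C_G(y)` is conjugate into `D` under `C_G(y)`. -/
theorem sylow_like_of_max [Finite G] {p : ℕ} [Fact p.Prime] (D : Subgroup G) (hD : IsPGroup p D)
    (y : G) (hDy : D ≤ Subgroup.centralizer ({y} : Set G))
    (hmax : ∀ S : Subgroup G, IsPGroup p S → D ≤ S → S ≤ Subgroup.centralizer ({y} : Set G) →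
      S ≤ Subgroup.normalizer (D : Set G) → S ≤ D)
    (S' : Subgroup G) (hS' : IsPGroup p S') (hS'y : S' ≤ Subgroup.centralizer ({y} : Set G)) :
    ∃ z ∈ Subgroup.centralizer ({y} : Set G), ∀ s ∈ S', z * s * z⁻¹ ∈ D := by
  obtain ⟨T⟩ := (inferInstance : Nonempty (Sylow p (Subgroup.centralizer ({y} : Set G))))
  obtain ⟨z₁, hz₁C, hz₁⟩ := exists_conj_mem_of_sylow_map _ T D hD hDy
  obtain ⟨S, hSdef⟩ : ∃ S : Subgroup G, S = ((T : Subgroup (Subgroup.centralizer
      ({y} : Set G))).map (Subgroup.centralizer ({y} : Set G)).subtype).map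
        (MulAut.conj z₁⁻¹).toMonoidHom := ⟨_, rfl⟩
  have hSmem : ∀ x, x ∈ S ↔ z₁ * x * z₁⁻¹ ∈ (T : Subgroup (Subgroup.centralizer
      ({y} : Set G))).map (Subgroup.centralizer ({y} : Set G)).subtype := by
    intro x
    rw [hSdef]
    constructor
    · rintro ⟨t, ht, rfl⟩
      simp only [MulEquiv.toMonoidHom_eq_coe, MonoidHom.coe_coe, MulAut.conj_apply, inv_inv]
      have e : z₁ * (z₁⁻¹ * t * z₁) * z₁⁻¹ = t := by group
      rw [e]
      exact ht
    · intro h
      refine ⟨z₁ * x * z₁⁻¹, h, ?_⟩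
      simp only [MulEquiv.toMonoidHom_eq_coe, MonoidHom.coe_coe, MulAut.conj_apply, inv_inv]
      group
  have hSp : IsPGroup p S := by
    rw [hSdef]
    exact (T.2.map _).map _
  have hDS : D ≤ S := fun d hd => (hSmem d).mpr (hz₁ d hd)
  have hSC : S ≤ Subgroup.centralizer ({y} : Set G) := by
    intro x hx
    rw [hSmem] at hx
    obtain ⟨t, -, ht⟩ := hx
    have h1 : z₁ * x * z₁⁻¹ ∈ Subgroup.centralizer ({y} : Set G) := by
      rw [← ht]
      exact t.2
    have h2 := mul_mem (mul_mem (inv_mem hz₁C) h1) hz₁C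
    have e : z₁⁻¹ * (z₁ * x * z₁⁻¹) * z₁ = x := by group
    rwa [e] at h2
  have hSD : S ≤ D := by
    by_contra hnot
    have hlt : D < S := lt_of_le_of_ne hDS (fun h => hnot (le_of_eq h.symm))
    obtain ⟨x, hxS, hxD, hxN⟩ := exists_normalizing_of_lt D S hSp hlt
    have h1 := hmax (Subgroup.normalizer (D : Set G) ⊓ S) (hSp.to_le inf_le_right)
      (le_inf Subgroup.le_normalizer hDS) (inf_le_right.trans hSC) inf_le_left
    exact hxD (h1 ⟨hxN, hxS⟩)
  obtain ⟨z₂, hz₂C, hz₂⟩ := exists_conj_mem_of_sylow_map _ T S' hS' hS'y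
  refine ⟨z₁⁻¹ * z₂, mul_mem (inv_mem hz₁C) hz₂C, fun s hs => ?_⟩
  apply hSD
  rw [hSmem]
  have e : z₁ * (z₁⁻¹ * z₂ * s * (z₁⁻¹ * z₂)⁻¹) * z₁⁻¹ = z₂ * s * z₂⁻¹ := by group
  rw [e]
  exact hz₂ s hs

/-- under the hypothesis of the key lemma, `G`-conjugates of `y` in `C_G(D)` are
`N_G(D)`-conjugates. -/
theorem conj_normalizer_of_max [Finite G] {p : ℕ} [Fact p.Prime] (D : Subgroup G)
    (hD : IsPGroup p D) (y : G) (hDy : D ≤ Subgroup.centralizer ({y} : Set G))
    (hmax : ∀ S : Subgroup G, IsPGroup p S → D ≤ S → S ≤ Subgroup.centralizer ({y} : Set G) →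
      S ≤ Subgroup.normalizer (D : Set G) → S ≤ D)
    (g : G) (hg : g * y * g⁻¹ ∈ Subgroup.centralizer (D : Set G)) :
    ∃ n ∈ Subgroup.normalizer (D : Set G), n * y * n⁻¹ = g * y * g⁻¹ := by
  have hS'y : D.map (MulAut.conj g⁻¹).toMonoidHom ≤ Subgroup.centralizer ({y} : Set G) := by
    rintro _ ⟨d, hd, rfl⟩
    rw [Subgroup.mem_centralizer_singleton_iff]
    simp only [MulEquiv.toMonoidHom_eq_coe, MonoidHom.coe_coe, MulAut.conj_apply, inv_inv]
    have h1 : d * (g * y * g⁻¹) = (g * y * g⁻¹) * d := Subgroup.mem_centralizer_iff.mp hg d hd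
    calc g⁻¹ * d * g * y = g⁻¹ * (d * (g * y * g⁻¹)) * g := by group
      _ = g⁻¹ * ((g * y * g⁻¹) * d) * g := by rw [h1]
      _ = y * (g⁻¹ * d * g) := by group
  obtain ⟨z, hzC, hz⟩ := sylow_like_of_max D hD y hDy hmax _ (hD.map _) hS'y
  have hm : z * g⁻¹ ∈ Subgroup.normalizer (D : Set G) := by
    apply mem_normalizer_of_conj_mem
    intro q hq
    have h1 := hz (g⁻¹ * q * g) ⟨q, hq, by simp⟩
    have e : z * g⁻¹ * q * (z * g⁻¹)⁻¹ = z * (g⁻¹ * q * g) * z⁻¹ := by group
    rw [e]
    exact h1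
  refine ⟨g * z⁻¹, ?_, ?_⟩
  · have h2 := inv_mem hm
    have e : (z * g⁻¹)⁻¹ = g * z⁻¹ := by group
    rwa [e] at h2
  · have h1 : z * y = y * z := Subgroup.mem_centralizer_singleton_iff.mp hzC
    calc g * z⁻¹ * y * (g * z⁻¹)⁻¹ = g * (z⁻¹ * (y * z)) * g⁻¹ := by group
      _ = g * (z⁻¹ * (z * y)) * g⁻¹ := by rw [h1]
      _ = g * y * g⁻¹ := by group

/-- under the hypothesis of the key lemma, `D` is at least as large as a Sylow `p`-subgroup of
`C_G(y)`. -/
theorem pow_le_card_of_max [Finite G] {p : ℕ} [Fact p.Prime] (D : Subgroup G)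
    (hD : IsPGroup p D) (y : G) (hDy : D ≤ Subgroup.centralizer ({y} : Set G))
    (hmax : ∀ S : Subgroup G, IsPGroup p S → D ≤ S → S ≤ Subgroup.centralizer ({y} : Set G) →
      S ≤ Subgroup.normalizer (D : Set G) → S ≤ D) :
    p ^ (Nat.card (Subgroup.centralizer ({y} : Set G))).factorization p ≤ Nat.card D := by
  obtain ⟨T⟩ := (inferInstance : Nonempty (Sylow p (Subgroup.centralizer ({y} : Set G))))
  have hTC : (T : Subgroup (Subgroup.centralizer ({y} : Set G))).map
      (Subgroup.centralizer ({y} : Set G)).subtype ≤ Subgroup.centralizer ({y} : Set G) := by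
    rintro _ ⟨t, -, rfl⟩
    exact t.2
  obtain ⟨z, -, hz⟩ := sylow_like_of_max D hD y hDy hmax _ (T.2.map _) hTC
  have hle : ((T : Subgroup (Subgroup.centralizer ({y} : Set G))).map
      (Subgroup.centralizer ({y} : Set G)).subtype).map (MulAut.conj z).toMonoidHom ≤ D := by
    rintro _ ⟨s, hs, rfl⟩
    simpa [MulAut.conj_apply] using hz s hs
  have hcard := Subgroup.card_le_of_le hle
  rw [Subgroup.card_map_of_injective (MulAut.conj z).injective,
    Subgroup.card_map_of_injective (Subgroup.subtype_injective _),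
    Sylow.card_eq_multiplicity T] at hcard
  exact hcard

/-- from `DefLe` in the normalizer to the maximality hypothesis of the key lemma. -/
theorem max_of_defLe {p : ℕ} (D : Subgroup G) (r : Subgroup.normalizer (D : Set G))
    (hdl : DefLe p (D.subgroupOf (Subgroup.normalizer (D : Set G))) r) :
    ∀ S : Subgroup G, IsPGroup p S → D ≤ S → S ≤ Subgroup.centralizer ({(r : G)} : Set G) →
      S ≤ Subgroup.normalizer (D : Set G) → S ≤ D := by
  have hDN : D ≤ Subgroup.normalizer (D : Set G) := Subgroup.le_normalizer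
  have hD'n : (D.subgroupOf (Subgroup.normalizer (D : Set G))).Normal :=
    (Subgroup.normal_subgroupOf_iff_le_normalizer hDN).mpr le_rfl
  intro S hSp _ hSC hSN
  have hS'C : S.subgroupOf (Subgroup.normalizer (D : Set G))
      ≤ Subgroup.centralizer ({r} : Set (Subgroup.normalizer (D : Set G))) := by
    intro x hx
    rw [Subgroup.mem_centralizer_singleton_iff]
    apply Subtype.ext
    exact Subgroup.mem_centralizer_singleton_iff.mp (hSC (Subgroup.mem_subgroupOf.mp hx))
  obtain ⟨x, hx⟩ := hdl _ hSp.comap_subtype hS'C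
  intro s hs
  have h3 := hx (Subgroup.mem_subgroupOf.mpr
    (show ((⟨s, hSN hs⟩ : Subgroup.normalizer (D : Set G)) : G) ∈ S from hs))
  obtain ⟨d, hd, hds⟩ := h3
  have h4 : (⟨s, hSN hs⟩ : Subgroup.normalizer (D : Set G))
      ∈ D.subgroupOf (Subgroup.normalizer (D : Set G)) := by
    rw [← hds]
    exact hD'n.conj_mem d hd x
  exact Subgroup.mem_subgroupOf.mp h4

theorem coe_mem_centralizer_of_subgroupOf (D : Subgroup G) (r : Subgroup.normalizer (D : Set G))
    (hrC : r ∈ Subgroup.centralizer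
      ((D.subgroupOf (Subgroup.normalizer (D : Set G)) : Subgroup _) : Set _)) :
    (r : G) ∈ Subgroup.centralizer (D : Set G) := by
  have hDN : D ≤ Subgroup.normalizer (D : Set G) := Subgroup.le_normalizer
  rw [Subgroup.mem_centralizer_iff]
  intro d hd
  have h1 := Subgroup.mem_centralizer_iff.mp hrC ⟨d, hDN hd⟩ (Subgroup.mem_subgroupOf.mpr hd)
  exact congrArg Subtype.val h1

theorem le_centralizer_singleton_of_mem (D : Subgroup G) (r : G)
    (hrD : r ∈ Subgroup.centralizer (D : Set G)) :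
    D ≤ Subgroup.centralizer ({r} : Set G) := by
  intro d hd
  rw [Subgroup.mem_centralizer_singleton_iff]
  exact Subgroup.mem_centralizer_iff.mp hrD d hd

end Grp

section Blocks

variable {G : Type u} [Group G] [Fintype G]

/-- when `G`-conjugates of `y` in `C_G(D)` are `N_G(D)`-conjugate, the Brauer central character at
`y` is the central character. -/
theorem brauerCentralChar_eq_centralChar (D : Subgroup G)
    [Fintype (Subgroup.normalizer (D : Set G))]
    (ξ : IrrCharacter (Subgroup.normalizer (D : Set G))) (y : Subgroup.normalizer (D : Set G))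
    (hα : ∀ g : G, g * (y : G) * g⁻¹ ∈ Subgroup.centralizer (D : Set G) →
      ∃ n ∈ Subgroup.normalizer (D : Set G), n * (y : G) * n⁻¹ = g * (y : G) * g⁻¹)
    (hy : (y : G) ∈ Subgroup.centralizer (D : Set G)) :
    brauerCentralChar D (Subgroup.normalizer (D : Set G))
      (ξ : Subgroup.normalizer (D : Set G) → ℂ) (y : G)
      = centralChar (ξ : Subgroup.normalizer (D : Set G) → ℂ) y := by
  classical
  rw [brauerCentralChar_eq]
  have hiff : ∀ h : Subgroup.normalizer (D : Set G),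
      (IsConj (y : G) (h : G) ∧ (h : G) ∈ Subgroup.centralizer (D : Set G)) ↔ IsConj y h := by
    intro h
    constructor
    · rintro ⟨hc, hh⟩
      obtain ⟨g, hg⟩ := isConj_iff.mp hc
      rw [← hg] at hh
      obtain ⟨n, hn, hny⟩ := hα g hh
      refine isConj_iff.mpr ⟨⟨n, hn⟩, Subtype.ext ?_⟩
      show n * (y : G) * n⁻¹ = h
      rw [hny, hg]
    · intro hc
      obtain ⟨n, hn⟩ := isConj_iff.mp hc
      have e : (n : G) * y * (n : G)⁻¹ = h := by
        rw [← hn]
        simp
      refine ⟨isConj_iff.mpr ⟨n, e⟩, ?_⟩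
      rw [← e]
      exact conj_mem_centralizer_of_normalizer D n.2 hy
  have h1 : ∑ h : Subgroup.normalizer (D : Set G),
      (if IsConj (y : G) (h : G) ∧ (h : G) ∈ Subgroup.centralizer (D : Set G)
        then (1 : ℂ) else 0) * (ξ : Subgroup.normalizer (D : Set G) → ℂ) h
      = ∑ h ∈ Finset.univ.filter (fun h : Subgroup.normalizer (D : Set G) => IsConj y h),
          (ξ : Subgroup.normalizer (D : Set G) → ℂ) y := by
    rw [Finset.sum_filter]
    refine Finset.sum_congr rfl fun h _ => ?_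
    by_cases hc : IsConj y h
    · rw [if_pos ((hiff h).mpr hc), if_pos hc, one_mul]
      obtain ⟨n, hn⟩ := isConj_iff.mp hc
      rw [← hn]
      exact irr_conj ξ _ _
    · rw [if_neg (fun h' => hc ((hiff h).mp h')), if_neg hc, zero_mul]
  rw [h1, Finset.sum_const, card_filter_isConj, nsmul_eq_mul]
  unfold centralChar
  ring

/-- **First Main Theorem, uniqueness**: two blocks of `N_G(D)` inducing the same block of `G`,
one of them with defect group `D`, coincide. -/
theorem fmt_unique {p : ℕ} [Fact p.Prime] {M : Ideal AlgInt} (hM : IsPModular p M)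
    [hMp : M.IsPrime] (D : Subgroup G) (hDp : IsPGroup p D)
    [Fintype (Subgroup.normalizer (D : Set G))]
    (ξ₁ ξ₂ : IrrCharacter (Subgroup.normalizer (D : Set G))) (χ₀ : IrrCharacter G)
    (hD₁ : IsDefectGroup p M (blockOf M (ξ₁ : Subgroup.normalizer (D : Set G) → ℂ))
      (D.subgroupOf (Subgroup.normalizer (D : Set G))))
    (hbr₁ : ∀ g : G, MemLocalIdeal M (brauerCentralChar D (Subgroup.normalizer (D : Set G))
      (ξ₁ : Subgroup.normalizer (D : Set G) → ℂ) g - centralChar (χ₀ : G → ℂ) g))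
    (hbr₂ : ∀ g : G, MemLocalIdeal M (brauerCentralChar D (Subgroup.normalizer (D : Set G))
      (ξ₂ : Subgroup.normalizer (D : Set G) → ℂ) g - centralChar (χ₀ : G → ℂ) g)) :
    SameBlock M (ξ₁ : Subgroup.normalizer (D : Set G) → ℂ)
      (ξ₂ : Subgroup.normalizer (D : Set G) → ℂ) := by
  classical
  have hDN : D ≤ Subgroup.normalizer (D : Set G) := Subgroup.le_normalizer
  have hD'n : (D.subgroupOf (Subgroup.normalizer (D : Set G))).Normal :=
    (Subgroup.normal_subgroupOf_iff_le_normalizer hDN).mpr le_rfl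
  have hD'p : IsPGroup p (D.subgroupOf (Subgroup.normalizer (D : Set G))) := hDp.comap_subtype
  obtain ⟨c, hc, hcv⟩ := osima (M := M) ξ₁
  obtain ⟨ι, hι⟩ := exists_class_reps (Subgroup.normalizer (D : Set G))
  by_contra hne
  have h1 : c ξ₁ = 1 := (hcv ξ₁).1 (sameBlock_refl _)
  have h2 : c ξ₂ = 0 := (hcv ξ₂).2 hne
  have hdefLe : ∀ r : Subgroup.normalizer (D : Set G), ¬ MemLocalIdeal M (specFun c r) →
      DefLe p (D.subgroupOf (Subgroup.normalizer (D : Set G))) r := by
    intro r hr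
    obtain ⟨y₁, hy₁, Q₁, hQ₁⟩ := hD₁
    have hdl := defLe_sylow y₁ Q₁
    rw [← hQ₁] at hdl
    refine blockCoeff_defLe hM ξ₁ y₁ _ hdl
      ⟨ξ₁, sameBlock_refl _, hy₁.2.2 ξ₁ (sameBlock_refl _)⟩ r ?_
    rw [blockCoeff_eq_specFun (blockOf M (ξ₁ : Subgroup.normalizer (D : Set G) → ℂ)) c
      (fun ψ hψ => (hcv ψ).1 hψ) (fun ψ hψ => (hcv ψ).2 hψ) r]
    exact hr
  have hsum : MemLocalIdeal M (∑ r ∈ ι, specFun c r *
      (centralChar (ξ₁ : Subgroup.normalizer (D : Set G) → ℂ) r
        - centralChar (ξ₂ : Subgroup.normalizer (D : Set G) → ℂ) r)) := by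
    refine memLocalIdeal_sum _ _ fun r _ => ?_
    have hω : MemLocalRing M (centralChar (ξ₁ : Subgroup.normalizer (D : Set G) → ℂ) r
        - centralChar (ξ₂ : Subgroup.normalizer (D : Set G) → ℂ) r) :=
      (locRing M).sub_mem (centralChar_memLocalRing ξ₁ r) (centralChar_memLocalRing ξ₂ r)
    by_cases hβ : MemLocalIdeal M (specFun c r)
    · rw [mul_comm]
      exact memLocalIdeal_mul_left hω hβ
    · apply memLocalIdeal_mul_left (hc r)
      have hdl := hdefLe r hβ
      by_cases hrC : r ∈ Subgroup.centralizer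
          ((D.subgroupOf (Subgroup.normalizer (D : Set G)) : Subgroup _) : Set _)
      · have hrD := coe_mem_centralizer_of_subgroupOf D r hrC
        have hDr := le_centralizer_singleton_of_mem D (r : G) hrD
        have hmax := max_of_defLe D r hdl
        have hα := conj_normalizer_of_max D hDp (r : G) hDr hmax
        have e1 := brauerCentralChar_eq_centralChar D ξ₁ r hα hrD
        have e2 := brauerCentralChar_eq_centralChar D ξ₂ r hα hrD
        have h5 := memLocalIdeal_sub (hbr₁ (r : G)) (hbr₂ (r : G))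
        rw [e1, e2] at h5
        have e : centralChar (ξ₁ : Subgroup.normalizer (D : Set G) → ℂ) r
            - centralChar (χ₀ : G → ℂ) r
            - (centralChar (ξ₂ : Subgroup.normalizer (D : Set G) → ℂ) r
              - centralChar (χ₀ : G → ℂ) r)
            = centralChar (ξ₁ : Subgroup.normalizer (D : Set G) → ℂ) r
              - centralChar (ξ₂ : Subgroup.normalizer (D : Set G) → ℂ) r := by ring
        rwa [e] at h5
      · exact memLocalIdeal_sub (centralChar_memLocalIdeal_of_normal hM _ hD'p ξ₁ r hrC)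
          (centralChar_memLocalIdeal_of_normal hM _ hD'p ξ₂ r hrC)
  have hone : (1 : ℂ) = ∑ r ∈ ι, specFun c r *
      (centralChar (ξ₁ : Subgroup.normalizer (D : Set G) → ℂ) r
        - centralChar (ξ₂ : Subgroup.normalizer (D : Set G) → ℂ) r) := by
    have e1 := spec_value c ι hι ξ₁
    have e2 := spec_value c ι hι ξ₂
    rw [h1] at e1
    rw [h2] at e2
    simp only [mul_sub, Finset.sum_sub_distrib]
    rw [← e1, ← e2, sub_zero]
  rw [← hone] at hsum
  exact not_memLocalIdeal_one hsum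

/-- **First Main Theorem, existence**: a block of `N_G(D)` with defect group `D` induces a block
of `G` with defect group `D`. -/
theorem fmt_exists {p : ℕ} [Fact p.Prime] {M : Ideal AlgInt} (hM : IsPModular p M)
    [hMp : M.IsPrime] (D : Subgroup G) (hDp : IsPGroup p D)
    [Fintype (Subgroup.normalizer (D : Set G))]
    (ξ₀ : IrrCharacter (Subgroup.normalizer (D : Set G)))
    (hD : IsDefectGroup p M (blockOf M (ξ₀ : Subgroup.normalizer (D : Set G) → ℂ))
      (D.subgroupOf (Subgroup.normalizer (D : Set G)))) :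
    ∃ χ₀ : IrrCharacter G, IsDefectGroup p M (blockOf M (χ₀ : G → ℂ)) D ∧
      IsInducedBlock M (Subgroup.normalizer (D : Set G))
        (blockOf M (ξ₀ : Subgroup.normalizer (D : Set G) → ℂ)) (blockOf M (χ₀ : G → ℂ)) := by
  classical
  have hp := hM.1
  have hDN : D ≤ Subgroup.normalizer (D : Set G) := Subgroup.le_normalizer
  have hCN := Subgroup.centralizer_le_normalizer (D : Set G)
  obtain ⟨χ₀, hbr⟩ := exists_brauer_block hM D (Subgroup.normalizer (D : Set G)) hDp hCN le_rfl ξ₀
  have hind := induced_of_brauer_congr hM D (Subgroup.normalizer (D : Set G)) hDp hDN le_rfl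
    ξ₀ χ₀ hbr
  refine ⟨χ₀, ?_, hind⟩
  obtain ⟨E, hE, hDE⟩ := induced_defect_le hM (Subgroup.normalizer (D : Set G)) ξ₀ χ₀ hind _ hD
  have hDE' : D ≤ E := by
    intro d hd
    exact hDE ⟨⟨d, hDN hd⟩, Subgroup.mem_subgroupOf.mpr hd, rfl⟩
  obtain ⟨y, hy, Q, hQ⟩ := id hD
  have hdl : DefLe p (D.subgroupOf (Subgroup.normalizer (D : Set G))) y := by
    have h1 := defLe_sylow y Q
    rwa [← hQ] at h1
  have hyC : y ∈ Subgroup.centralizer
      ((D.subgroupOf (Subgroup.normalizer (D : Set G)) : Subgroup _) : Set _) := by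
    rw [Subgroup.mem_centralizer_iff]
    intro d hd
    rw [hQ] at hd
    obtain ⟨v, -, rfl⟩ := hd
    exact Subgroup.mem_centralizer_singleton_iff.mp v.2
  have hyD := coe_mem_centralizer_of_subgroupOf D y hyC
  have hDy := le_centralizer_singleton_of_mem D (y : G) hyD
  have hmax := max_of_defLe D y hdl
  have hα := conj_normalizer_of_max D hDp (y : G) hDy hmax
  have e1 := brauerCentralChar_eq_centralChar D ξ₀ y hα hyD
  have hω : ¬ MemLocalIdeal M (centralChar (χ₀ : G → ℂ) (y : G)) := by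
    intro hmem
    apply hy.2.2 ξ₀ (sameBlock_refl _)
    have h1 := memLocalIdeal_add hMp (hbr (y : G)) hmem
    rwa [sub_add_cancel, e1] at h1
  have hdef := blockDefect_le_of_centralChar hM χ₀ (y : G) hω
  have hcardE := card_defect_group hM χ₀ E hE
  have hpow := pow_le_card_of_max D hDp (y : G) hDy hmax
  have hle : Nat.card E ≤ Nat.card D := by
    rw [hcardE]
    exact (Nat.pow_le_pow_right hp.pos hdef).trans hpow
  have hEq : D = E := Subgroup.eq_of_le_of_card_ge hDE' hle
  rw [hEq]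
  exact hE

/-- S0920. -/
theorem first_main {p : ℕ} [Fact p.Prime] {M : Ideal AlgInt} (hM : IsPModular p M)
    [hMp : M.IsPrime] (D : Subgroup G) (hDp : IsPGroup p D)
    [Fintype (Subgroup.normalizer (D : Set G))] :
    (∀ b : Set (IrrCharacter (Subgroup.normalizer (D : Set G))), IsPBlock M b →
      IsDefectGroup p M b (D.subgroupOf (Subgroup.normalizer (D : Set G))) →
      ∃ B : Set (IrrCharacter G), IsPBlock M B ∧ IsDefectGroup p M B D ∧
        IsInducedBlock M (Subgroup.normalizer (D : Set G)) b B) ∧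
    (∀ B : Set (IrrCharacter G), IsPBlock M B → IsDefectGroup p M B D →
      ∃! b : Set (IrrCharacter (Subgroup.normalizer (D : Set G))), IsPBlock M b ∧
        IsDefectGroup p M b (D.subgroupOf (Subgroup.normalizer (D : Set G))) ∧
        IsInducedBlock M (Subgroup.normalizer (D : Set G)) b B) := by
  have hDN : D ≤ Subgroup.normalizer (D : Set G) := Subgroup.le_normalizer
  have hCN := Subgroup.centralizer_le_normalizer (D : Set G)
  constructor
  · rintro b ⟨ξ₀, rfl⟩ hD
    obtain ⟨χ₀, h1, h2⟩ := fmt_exists hM D hDp ξ₀ hD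
    exact ⟨_, ⟨χ₀, rfl⟩, h1, h2⟩
  · rintro B ⟨χ₀, rfl⟩ hD
    obtain ⟨ξ, hbr, hind, hDξ⟩ := exists_root_block hM χ₀ D hD (Subgroup.normalizer (D : Set G))
      hDN hCN le_rfl
    refine ⟨blockOf M (ξ : Subgroup.normalizer (D : Set G) → ℂ), ⟨⟨ξ, rfl⟩, hDξ, hind⟩, ?_⟩
    rintro b' ⟨⟨ξ', rfl⟩, hD', hind'⟩
    have hbr' := (induced_iff_brauer hM D (Subgroup.normalizer (D : Set G)) hDp hDN le_rfl _
      ⟨ξ', rfl⟩ _ ⟨χ₀, rfl⟩).mp hind' ξ' (sameBlock_refl _) χ₀ (sameBlock_refl _)
    have hsame := fmt_unique hM D hDp ξ ξ' χ₀ hDξ hbr hbr'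
    exact (blockOf_eq_of_sameBlock hsame).symm

end Blocks

end Cfsg.Agent.Helper5
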