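import Mathlib
import Cfsg.Prelude.Def_BlockRank
import Cfsg.Agent.Helper5.BlkRoot
import Cfsg.Agent.Helper5.BlkMinMax
import Cfsg.Agent.Helper5.BlkDef
import Cfsg.Agent.Helper5.BlkQuot
import Cfsg.Agent.Helper5.Grp
import Cfsg.Agent.Helper22.IrrKer

/-!
helper5: blocks of a quotient dominated by a block (S4433, S4434).
-/

set_option autoImplicit false

namespace Cfsg.Agent.Helper5

open Cfsg Cfsg.Agent.Helper24 Cfsg.Agent.Helper22

universe u

section Grp

variable {G : Type u} [Group G]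

/-- the central character of an inflated function, with the explicit multiplier. -/
theorem centralChar_infl_relIndex {K : Type u} [Group K] [Finite G] (f : G →* K)
    (hf : Function.Surjective f) (ψ : K → ℂ) (g : G) :
    centralChar (ψ ∘ f) g = (((Subgroup.centralizer ({g} : Set G)).relIndex
      ((Subgroup.centralizer ({f g} : Set K)).comap f) : ℕ) : ℂ) * centralChar ψ (f g) := by
  have hTidx : ((Subgroup.centralizer ({f g} : Set K)).comap f).index
      = (Subgroup.centralizer ({f g} : Set K)).index :=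
    Subgroup.index_comap_of_surjective _ hf
  have hCT : Subgroup.centralizer ({g} : Set G)
      ≤ (Subgroup.centralizer ({f g} : Set K)).comap f := by
    intro x hx
    rw [Subgroup.mem_comap, Subgroup.mem_centralizer_singleton_iff]
    rw [← map_mul, ← map_mul, Subgroup.mem_centralizer_singleton_iff.mp hx]
  have hmul := Subgroup.relIndex_mul_index hCT
  unfold centralChar
  rw [← hmul, ← hTidx, Function.comp_apply, Function.comp_apply, map_one]
  push_cast
  ring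

/-- lifting `p`-subgroups of a quotient: if `C ≤ T = π⁻¹(Cb)` has index prime to `p` in `T`, then
every `p`-subgroup of `Cb` lies in the image of a conjugate of a Sylow `p`-subgroup of `C`. -/
theorem lift_pSubgroup' [Finite G] {p : ℕ} [Fact p.Prime] (N : Subgroup G) [N.Normal]
    (C : Subgroup G) (Cb : Subgroup (G ⧸ N)) (hCT : C ≤ Cb.comap (QuotientGroup.mk' N))
    (Q₀ : Sylow p C) (hm : ¬ p ∣ C.relIndex (Cb.comap (QuotientGroup.mk' N)))
    (Rbar : Subgroup (G ⧸ N)) (hR : IsPGroup p Rbar) (hRc : Rbar ≤ Cb) :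
    ∃ t : G, ∀ r ∈ Rbar, ∃ q ∈ (Q₀ : Subgroup C).map C.subtype,
      r = QuotientGroup.mk' N (t * q * t⁻¹) := by
  classical
  have hp : p.Prime := Fact.out
  obtain ⟨Q, hQ⟩ : ∃ Q : Subgroup G, Q = (Q₀ : Subgroup C).map C.subtype := ⟨_, rfl⟩
  have hQC : Q ≤ C := by rw [hQ]; exact Subgroup.map_subtype_le _
  have hQp : IsPGroup p Q := by rw [hQ]; exact Q₀.2.map _
  have hQTp : IsPGroup p (Q.subgroupOf (Cb.comap (QuotientGroup.mk' N))) := hQp.comap_subtype
  have hidx1 : Q.relIndex C = (Q₀ : Subgroup C).index := by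
    unfold Subgroup.relIndex
    rw [hQ]
    congr 1
    exact Subgroup.comap_map_eq_self_of_injective (Subgroup.subtype_injective C) _
  have hidx : ¬ p ∣ (Q.subgroupOf (Cb.comap (QuotientGroup.mk' N))).index := by
    have h1 : Q.relIndex C * C.relIndex (Cb.comap (QuotientGroup.mk' N))
        = Q.relIndex (Cb.comap (QuotientGroup.mk' N)) :=
      Subgroup.relIndex_mul_relIndex Q C _ hQC hCT
    show ¬ p ∣ Q.relIndex (Cb.comap (QuotientGroup.mk' N))
    rw [← h1, hidx1]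
    intro h
    rcases (Nat.Prime.dvd_mul hp).mp h with h' | h'
    · exact Q₀.not_dvd_index h'
    · exact hm h'
  obtain ⟨ST, hST⟩ : ∃ ST : Sylow p (Cb.comap (QuotientGroup.mk' N)),
      (ST : Subgroup (Cb.comap (QuotientGroup.mk' N)))
        = Q.subgroupOf (Cb.comap (QuotientGroup.mk' N)) :=
    ⟨hQTp.toSylow hidx, IsPGroup.toSylow_coe hQTp hidx⟩
  have hfsurj : Function.Surjective ((QuotientGroup.mk' N).subgroupComap Cb) :=
    MonoidHom.subgroupComap_surjective_of_surjective _ _ (QuotientGroup.mk'_surjective N)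
  obtain ⟨Sb, hSb⟩ : ∃ Sb : Sylow p Cb, (Sb : Subgroup Cb)
      = (ST : Subgroup (Cb.comap (QuotientGroup.mk' N))).map
        ((QuotientGroup.mk' N).subgroupComap Cb) :=
    ⟨ST.mapSurjective hfsurj, Sylow.coe_mapSurjective hfsurj ST⟩
  obtain ⟨c, hc⟩ := exists_conj_mem_sylow' Sb (Rbar.subgroupOf Cb) hR.comap_subtype
  obtain ⟨t, ht⟩ := QuotientGroup.mk'_surjective N ((c : G ⧸ N)⁻¹)
  refine ⟨t, fun r hr => ?_⟩
  have h1 := hc ⟨r, hRc hr⟩ (by rw [Subgroup.mem_subgroupOf]; exact hr)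
  have h1' : c * ⟨r, hRc hr⟩ * c⁻¹ ∈ (ST : Subgroup (Cb.comap (QuotientGroup.mk' N))).map
      ((QuotientGroup.mk' N).subgroupComap Cb) := by
    rw [← hSb]; exact h1
  obtain ⟨q, hqST, hq⟩ := h1'
  have hqQ : (q : G) ∈ Q := by
    have h2 : q ∈ (ST : Subgroup (Cb.comap (QuotientGroup.mk' N))) := hqST
    rw [hST, Subgroup.mem_subgroupOf] at h2
    exact h2
  refine ⟨(q : G), hQ ▸ hqQ, ?_⟩
  have hq' : QuotientGroup.mk' N (q : G) = (c : G ⧸ N) * r * (c : G ⧸ N)⁻¹ :=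
    congrArg Subtype.val hq
  rw [map_mul, map_mul, map_inv, ht, hq']
  group

end Grp

section Blocks

variable {G : Type u} [Group G] [Fintype G]

/-- S4433, for `Bbar = blockOf M ξ₀`, `B = blockOf M χ₀`. -/
theorem dominated_defect_le {p : ℕ} [Fact p.Prime] {M : Ideal AlgInt} (hM : IsPModular p M)
    [hMp : M.IsPrime] (N : Subgroup G) [N.Normal] [Fintype (G ⧸ N)]
    (ξ₀ : IrrCharacter (G ⧸ N)) (χ₀ : IrrCharacter G)
    (hsub : ∀ ψ : IrrCharacter G, (ψ : G → ℂ) = (ξ₀ : G ⧸ N → ℂ) ∘ QuotientGroup.mk →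
      ψ ∈ blockOf M (χ₀ : G → ℂ))
    (Dbar : Subgroup (G ⧸ N)) (hDbar : IsDefectGroup p M (blockOf M (ξ₀ : G ⧸ N → ℂ)) Dbar) :
    ∃ P : Subgroup G, IsDefectGroup p M (blockOf M (χ₀ : G → ℂ)) P ∧
      Dbar ≤ P.map (QuotientGroup.mk' N) := by
  classical
  have hp : p.Prime := Fact.out
  have hsurj : Function.Surjective (QuotientGroup.mk' N) := QuotientGroup.mk'_surjective N
  obtain ⟨χ, hχ⟩ : ∃ χ : IrrCharacter G,
      (χ : G → ℂ) = (ξ₀ : G ⧸ N → ℂ) ∘ (QuotientGroup.mk' N) :=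
    ⟨inflIrr (QuotientGroup.mk' N) hsurj ξ₀, rfl⟩
  have hχB : χ ∈ blockOf M (χ₀ : G → ℂ) := hsub χ hχ
  obtain ⟨g, hg⟩ := exists_defect_class (M := M) χ₀
  have hω := hg.2.2 χ hχB
  have hrel := centralChar_infl_relIndex (QuotientGroup.mk' N) hsurj (ξ₀ : G ⧸ N → ℂ) g
  rw [hχ, hrel] at hω
  have hm : ¬ p ∣ (Subgroup.centralizer ({g} : Set G)).relIndex
      ((Subgroup.centralizer ({(QuotientGroup.mk' N g)} : Set (G ⧸ N))).comap
        (QuotientGroup.mk' N)) := by
    intro hdvd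
    obtain ⟨k, hk⟩ := hdvd
    apply hω
    rw [hk, Nat.cast_mul, mul_assoc, mul_comm]
    exact memLocalIdeal_mul_left ((locRing M).mul_mem (natCast_memLocalRing k)
      (centralChar_memLocalRing ξ₀ _)) (prime_memLocalIdeal hM)
  have hωb : ¬ MemLocalIdeal M (centralChar (ξ₀ : G ⧸ N → ℂ) (QuotientGroup.mk' N g)) :=
    fun h => hω (memLocalIdeal_mul_left (natCast_memLocalRing _) h)
  obtain ⟨gb, hgb, Db₀, rfl⟩ := hDbar
  obtain ⟨xb, Qb, hxQ⟩ := (min_max hM ξ₀ gb hgb Db₀ (QuotientGroup.mk' N g)).2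
    ⟨ξ₀, sameBlock_refl _, hωb⟩
  obtain ⟨Q₀⟩ := (inferInstance : Nonempty (Sylow p (Subgroup.centralizer ({g} : Set G))))
  have hCT : Subgroup.centralizer ({g} : Set G)
      ≤ (Subgroup.centralizer ({(QuotientGroup.mk' N g)} : Set (G ⧸ N))).comap
        (QuotientGroup.mk' N) := by
    intro x hx
    rw [Subgroup.mem_comap, Subgroup.mem_centralizer_singleton_iff]
    rw [← map_mul, ← map_mul, Subgroup.mem_centralizer_singleton_iff.mp hx]
  have hRp : IsPGroup p ((((Db₀ : Subgroup (Subgroup.centralizer ({gb} : Set (G ⧸ N)))).map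
      (Subgroup.centralizer ({gb} : Set (G ⧸ N))).subtype).map
        (MulAut.conj xb).toMonoidHom)) := (Db₀.2.map _).map _
  obtain ⟨t, ht⟩ := lift_pSubgroup' N _ _ hCT Q₀ hm _ hRp
    (hxQ.trans (Subgroup.map_subtype_le _))
  obtain ⟨x, hx⟩ := hsurj xb⁻¹
  obtain ⟨E, hE, hQE⟩ := exists_defect_group_ge (p := p) (isDefectClass_conj hg (x * t))
    (((Q₀ : Subgroup (Subgroup.centralizer ({g} : Set G))).map
      (Subgroup.centralizer ({g} : Set G)).subtype).map (MulAut.conj (x * t)).toMonoidHom)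
    ((Q₀.2.map _).map _) (by
      rintro _ ⟨q, ⟨q', hq', rfl⟩, rfl⟩
      rw [Subgroup.mem_centralizer_singleton_iff]
      have hc : (q' : G) * g = g * (q' : G) := Subgroup.mem_centralizer_singleton_iff.mp q'.2
      show (x * t) * (q' : G) * (x * t)⁻¹ * ((x * t) * g * (x * t)⁻¹)
        = (x * t) * g * (x * t)⁻¹ * ((x * t) * (q' : G) * (x * t)⁻¹)
      calc (x * t) * (q' : G) * (x * t)⁻¹ * ((x * t) * g * (x * t)⁻¹)
          = (x * t) * ((q' : G) * g) * (x * t)⁻¹ := by group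
        _ = (x * t) * (g * (q' : G)) * (x * t)⁻¹ := by rw [hc]
        _ = (x * t) * g * (x * t)⁻¹ * ((x * t) * (q' : G) * (x * t)⁻¹) := by group)
  refine ⟨E, hE, ?_⟩
  intro d hd
  have h1 : xb * d * xb⁻¹ ∈ (((Db₀ : Subgroup (Subgroup.centralizer ({gb} : Set (G ⧸ N)))).map
      (Subgroup.centralizer ({gb} : Set (G ⧸ N))).subtype).map
        (MulAut.conj xb).toMonoidHom) := ⟨d, hd, rfl⟩
  obtain ⟨q, hq, hqe⟩ := ht _ h1
  refine ⟨x * t * q * (x * t)⁻¹, hQE ⟨q, hq, rfl⟩, ?_⟩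
  have e : x * t * q * (x * t)⁻¹ = x * (t * q * t⁻¹) * x⁻¹ := by group
  rw [e, map_mul, map_mul, map_inv, hx, ← hqe]
  group

end Blocks

end Cfsg.Agent.Helper5
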