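import Mathlib
import Cfsg.Prelude.Def_BlockRank
import Cfsg.Agent.Helper5.BlkDom
import Cfsg.Agent.Helper5.BlkBO
import Cfsg.Agent.Helper5.BlkSMT2
import Cfsg.Agent.Helper5.BlkKer
import Cfsg.Agent.Helper5.BlkOrth
import Cfsg.Agent.Helper5.BlkOp
import Cfsg.Agent.Helper5.BlkDefect
import Cfsg.Agent.Helper5.BlkInd
import Cfsg.Agent.Helper5.BlkInd2
import Cfsg.Agent.Helper5.BlkReg

/-!
helper5: a block of `G` dominates a block of `G ⧸ N` (`N` a normal `p`-subgroup) with defect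
groups `D N / N` (S4434).
-/

set_option autoImplicit false

namespace Cfsg.Agent.Helper5

open Cfsg Cfsg.Agent.Helper24 Cfsg.Agent.Helper22

universe u

section Grp

variable {G : Type u} [Group G]

/-- the image in a quotient of a Sylow `p`-subgroup of `C`, when `C ≤ T = π⁻¹(Cb)` has index
prime to `p` in `T`, is a Sylow `p`-subgroup of `Cb`. -/
theorem sylow_image' [Finite G] {p : ℕ} [Fact p.Prime] (N : Subgroup G) [N.Normal]
    (C : Subgroup G) (Cb : Subgroup (G ⧸ N)) (hCT : C ≤ Cb.comap (QuotientGroup.mk' N))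
    (Q₀ : Sylow p C) (hm : ¬ p ∣ C.relIndex (Cb.comap (QuotientGroup.mk' N))) :
    ∃ Sb : Sylow p Cb, (Sb : Subgroup Cb).map Cb.subtype
      = ((Q₀ : Subgroup C).map C.subtype).map (QuotientGroup.mk' N) := by
  classical
  have hp : p.Prime := Fact.out
  obtain ⟨Q, hQ⟩ : ∃ Q : Subgroup G, Q = (Q₀ : Subgroup C).map C.subtype := ⟨_, rfl⟩
  have hQC : Q ≤ C := by rw [hQ]; exact Subgroup.map_subtype_le _
  have hQp : IsPGroup p Q := by rw [hQ]; exact Q₀.2.map _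
  have hQTp : IsPGroup p (Q.subgroupOf (Cb.comap (QuotientGroup.mk' N))) := hQp.comap_subtype
  have hidx1 : Q.relIndex C = (Q₀ : Subgroup C).index := by
    unfold Subgroup.relIndex
    rw [hQ]
    congr 1
    exact Subgroup.comap_map_eq_self_of_injective (Subgroup.subtype_injective C) _
  have hidx : ¬ p ∣ (Q.subgroupOf (Cb.comap (QuotientGroup.mk' N))).index := by
    have h1 : Q.relIndex C * C.relIndex (Cb.comap (QuotientGroup.mk' N))
        = Q.relIndex (Cb.comap (QuotientGroup.mk' N)) :=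
      Subgroup.relIndex_mul_relIndex Q C _ hQC hCT
    show ¬ p ∣ Q.relIndex (Cb.comap (QuotientGroup.mk' N))
    rw [← h1, hidx1]
    intro h
    rcases (Nat.Prime.dvd_mul hp).mp h with h' | h'
    · exact Q₀.not_dvd_index h'
    · exact hm h'
  obtain ⟨ST, hST⟩ : ∃ ST : Sylow p (Cb.comap (QuotientGroup.mk' N)),
      (ST : Subgroup (Cb.comap (QuotientGroup.mk' N)))
        = Q.subgroupOf (Cb.comap (QuotientGroup.mk' N)) :=
    ⟨hQTp.toSylow hidx, IsPGroup.toSylow_coe hQTp hidx⟩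
  have hfsurj : Function.Surjective ((QuotientGroup.mk' N).subgroupComap Cb) :=
    MonoidHom.subgroupComap_surjective_of_surjective _ _ (QuotientGroup.mk'_surjective N)
  obtain ⟨Sb, hSb⟩ : ∃ Sb : Sylow p Cb, (Sb : Subgroup Cb)
      = (ST : Subgroup (Cb.comap (QuotientGroup.mk' N))).map
        ((QuotientGroup.mk' N).subgroupComap Cb) :=
    ⟨ST.mapSurjective hfsurj, Sylow.coe_mapSurjective hfsurj ST⟩
  refine ⟨Sb, ?_⟩
  rw [← hQ, hSb]
  ext s
  constructor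
  · rintro ⟨s', ⟨q, hqST, rfl⟩, rfl⟩
    have hqQ : (q : G) ∈ Q := by
      have h2 : q ∈ (ST : Subgroup (Cb.comap (QuotientGroup.mk' N))) := hqST
      rw [hST, Subgroup.mem_subgroupOf] at h2
      exact h2
    exact ⟨(q : G), hqQ, rfl⟩
  · rintro ⟨q, hq, rfl⟩
    have hqT : q ∈ Cb.comap (QuotientGroup.mk' N) := hCT (hQC hq)
    refine ⟨(QuotientGroup.mk' N).subgroupComap Cb ⟨q, hqT⟩, ⟨⟨q, hqT⟩, ?_, rfl⟩, rfl⟩
    show (⟨q, hqT⟩ : Cb.comap (QuotientGroup.mk' N))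
      ∈ (ST : Subgroup (Cb.comap (QuotientGroup.mk' N)))
    rw [hST, Subgroup.mem_subgroupOf]
    exact hq

end Grp

section Blocks

variable {G : Type u} [Group G] [Fintype G]

/-- a conjugate of a defect group is a defect group. -/
theorem isDefectGroup_conj {p : ℕ} [Fact p.Prime] {M : Ideal AlgInt} (hM : IsPModular p M)
    [hMp : M.IsPrime] (χ₀ : IrrCharacter G) (D : Subgroup G)
    (hD : IsDefectGroup p M (blockOf M (χ₀ : G → ℂ)) D) (x : G) :
    IsDefectGroup p M (blockOf M (χ₀ : G → ℂ)) (D.map (MulAut.conj x).toMonoidHom) := by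
  obtain ⟨g, hg, Q, rfl⟩ := id hD
  obtain ⟨E, hE, hQE⟩ := exists_defect_group_ge (p := p) (isDefectClass_conj hg x)
    (((Q : Subgroup (Subgroup.centralizer ({g} : Set G))).map
      (Subgroup.centralizer ({g} : Set G)).subtype).map (MulAut.conj x).toMonoidHom)
    ((Q.2.map _).map _) (by
      rintro _ ⟨q, ⟨q', hq', rfl⟩, rfl⟩
      rw [Subgroup.mem_centralizer_singleton_iff]
      have hc : (q' : G) * g = g * (q' : G) := Subgroup.mem_centralizer_singleton_iff.mp q'.2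
      show x * (q' : G) * x⁻¹ * (x * g * x⁻¹) = x * g * x⁻¹ * (x * (q' : G) * x⁻¹)
      calc x * (q' : G) * x⁻¹ * (x * g * x⁻¹) = x * ((q' : G) * g) * x⁻¹ := by group
        _ = x * (g * (q' : G)) * x⁻¹ := by rw [hc]
        _ = x * g * x⁻¹ * (x * (q' : G) * x⁻¹) := by group)
  have h1 := card_defect_group hM χ₀ E hE
  have h2 := card_defect_group hM χ₀ _ hD
  have h3 : Nat.card ↥(((Q : Subgroup (Subgroup.centralizer ({g} : Set G))).map
      (Subgroup.centralizer ({g} : Set G)).subtype).map (MulAut.conj x).toMonoidHom)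
      = Nat.card ↥((Q : Subgroup (Subgroup.centralizer ({g} : Set G))).map
      (Subgroup.centralizer ({g} : Set G)).subtype) :=
    Subgroup.card_map_of_injective (MulAut.conj x).injective
  have h4 := Subgroup.eq_of_le_of_card_ge hQE (by rw [h1, h3, h2])
  rw [h4]
  exact hE

/-- defect groups of a block are conjugate. -/
theorem defect_groups_conj {p : ℕ} [Fact p.Prime] {M : Ideal AlgInt} (hM : IsPModular p M)
    [hMp : M.IsPrime] (χ₀ : IrrCharacter G) (D D' : Subgroup G)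
    (hD : IsDefectGroup p M (blockOf M (χ₀ : G → ℂ)) D)
    (hD' : IsDefectGroup p M (blockOf M (χ₀ : G → ℂ)) D') :
    ∃ x : G, D' = D.map (MulAut.conj x).toMonoidHom := by
  obtain ⟨g, hg, Q, rfl⟩ := id hD
  obtain ⟨g', hg', Q', rfl⟩ := id hD'
  obtain ⟨x, Q'', hQ''⟩ := (min_max hM χ₀ g hg Q g').1 hg'.2.1
  obtain ⟨z, hz, hzc⟩ := exists_conj_mem_of_sylow_map (Subgroup.centralizer ({g'} : Set G)) Q''
    ((Q' : Subgroup (Subgroup.centralizer ({g'} : Set G))).map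
      (Subgroup.centralizer ({g'} : Set G)).subtype) (Q'.2.map _) (Subgroup.map_subtype_le _)
  refine ⟨z⁻¹ * x, ?_⟩
  have hle : (Q' : Subgroup (Subgroup.centralizer ({g'} : Set G))).map
      (Subgroup.centralizer ({g'} : Set G)).subtype
      ≤ ((Q : Subgroup (Subgroup.centralizer ({g} : Set G))).map
        (Subgroup.centralizer ({g} : Set G)).subtype).map
          (MulAut.conj (z⁻¹ * x)).toMonoidHom := by
    intro d' hd'
    obtain ⟨d, hd, hde⟩ := hQ'' (hzc d' hd')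
    refine ⟨d, hd, ?_⟩
    have hde' : x * d * x⁻¹ = z * d' * z⁻¹ := hde
    show z⁻¹ * x * d * (z⁻¹ * x)⁻¹ = d'
    calc z⁻¹ * x * d * (z⁻¹ * x)⁻¹ = z⁻¹ * (x * d * x⁻¹) * z := by group
      _ = z⁻¹ * (z * d' * z⁻¹) * z := by rw [hde']
      _ = d' := by group
  have h1 := card_defect_group hM χ₀ _ hD
  have h2 := card_defect_group hM χ₀ _ hD'
  have h3 : Nat.card ↥(((Q : Subgroup (Subgroup.centralizer ({g} : Set G))).map
      (Subgroup.centralizer ({g} : Set G)).subtype).map (MulAut.conj (z⁻¹ * x)).toMonoidHom)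
      = Nat.card ↥((Q : Subgroup (Subgroup.centralizer ({g} : Set G))).map
      (Subgroup.centralizer ({g} : Set G)).subtype) :=
    Subgroup.card_map_of_injective (MulAut.conj (z⁻¹ * x)).injective
  exact Subgroup.eq_of_le_of_card_ge hle (by rw [h3, h1, h2])

/-- a blockwise sum outside the local ideal has a block whose partial sum is outside it. -/
theorem exists_block_of_sum_notMem {M : Ideal AlgInt} [hMp : M.IsPrime]
    (c F : IrrCharacter G → ℂ) (hcR : ∀ ψ : IrrCharacter G, MemLocalRing M (c ψ))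
    (hc : ∀ ψ ψ' : IrrCharacter G, SameBlock M (ψ : G → ℂ) (ψ' : G → ℂ) → c ψ = c ψ')
    (h : ¬ MemLocalIdeal M (∑ ψ : IrrCharacter G, c ψ * F ψ)) :
    ∃ ξ₀ : IrrCharacter G, c ξ₀ ≠ 0 ∧
      ¬ MemLocalIdeal M (∑ᶠ ψ ∈ blockOf M (ξ₀ : G → ℂ), F ψ) := by
  classical
  by_contra hno
  push_neg at hno
  apply h
  rw [← Finset.sum_fiberwise_of_maps_to
    (g := fun ψ : IrrCharacter G => blockOf M (ψ : G → ℂ))
    (t := Finset.univ.image (fun ψ : IrrCharacter G => blockOf M (ψ : G → ℂ)))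
    (fun ψ _ => Finset.mem_image_of_mem _ (Finset.mem_univ _))]
  refine memLocalIdeal_sum _ _ fun b hb => ?_
  obtain ⟨ξ₀, -, rfl⟩ := Finset.mem_image.mp hb
  have hfil : Finset.univ.filter (fun ψ : IrrCharacter G =>
      blockOf M (ψ : G → ℂ) = blockOf M (ξ₀ : G → ℂ))
      = Finset.univ.filter (fun ψ : IrrCharacter G =>
          SameBlock M (ξ₀ : G → ℂ) (ψ : G → ℂ)) := by
    ext ψ
    simp only [Finset.mem_filter, Finset.mem_univ, true_and]
    constructor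
    · intro h'
      have h1 : ψ ∈ blockOf M (ψ : G → ℂ) := sameBlock_refl _
      rw [h'] at h1
      exact h1
    · intro h'
      exact (blockOf_eq_of_sameBlock h').symm
  rw [hfil]
  have e : ∑ ψ ∈ Finset.univ.filter (fun ψ : IrrCharacter G =>
      SameBlock M (ξ₀ : G → ℂ) (ψ : G → ℂ)), c ψ * F ψ
      = c ξ₀ * ∑ ψ ∈ Finset.univ.filter (fun ψ : IrrCharacter G =>
          SameBlock M (ξ₀ : G → ℂ) (ψ : G → ℂ)), F ψ := by
    rw [Finset.mul_sum]
    refine Finset.sum_congr rfl fun ψ hψ => ?_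
    rw [hc ξ₀ ψ (Finset.mem_filter.mp hψ).2]
  rw [e]
  by_cases h0 : c ξ₀ = 0
  · rw [h0, zero_mul]
    exact memLocalIdeal_zero hMp.ne_top
  · have h1 := hno ξ₀ h0
    have h2 : ∑ᶠ ψ ∈ blockOf M (ξ₀ : G → ℂ), F ψ
        = ∑ ψ ∈ Finset.univ.filter (fun ψ : IrrCharacter G =>
          SameBlock M (ξ₀ : G → ℂ) (ψ : G → ℂ)), F ψ := by
      rw [Finset.sum_filter]
      exact finsum_setOf_eq_sum' (fun ψ : IrrCharacter G =>
          SameBlock M (ξ₀ : G → ℂ) (ψ : G → ℂ)) F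
    rw [← h2]
    exact memLocalIdeal_mul_left (hcR ξ₀) h1

/-- summing an irreducible character over a coset of a normal subgroup. -/
theorem sum_normal_coset (N : Subgroup G) [hN : N.Normal] [Fintype N] (χ : IrrCharacter G)
    (g : G) :
    ((∀ u ∈ N, (χ : G → ℂ) u = (χ : G → ℂ) 1) →
      ∑ n : N, (χ : G → ℂ) (g * n) = (Nat.card N : ℂ) * (χ : G → ℂ) g) ∧
    ((¬ ∀ u ∈ N, (χ : G → ℂ) u = (χ : G → ℂ) 1) → ∑ n : N, (χ : G → ℂ) (g * n) = 0) := by
  classical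
  have h10 := Cfsg.Agent.Helper5.irr_one_ne_zero χ
  obtain ⟨F, hF⟩ : ∃ F : G → ℂ, F = fun h : G => if h ∈ N then (1 : ℂ) else 0 := ⟨_, rfl⟩
  have hFa : ∀ h : G, F h = if h ∈ N then (1 : ℂ) else 0 := fun h => by rw [hF]
  have hFc : IsClassFunction G F := by
    intro h t
    rw [hFa, hFa]
    have e : t * h * t⁻¹ ∈ N ↔ h ∈ N := by
      constructor
      · intro h1
        have h2 := hN.conj_mem _ h1 t⁻¹
        have e2 : t⁻¹ * (t * h * t⁻¹) * t⁻¹⁻¹ = h := by group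
        rwa [e2] at h2
      · intro h1
        exact hN.conj_mem _ h1 t
    rw [if_congr e rfl rfl]
  have hshift := class_sum_shift F hFc χ g
  have e1 : ∑ h : G, F h * (χ : G → ℂ) (g * h) = ∑ n : N, (χ : G → ℂ) (g * n) := by
    rw [sum_eq_sum_subgroup N (fun h : G => F h * (χ : G → ℂ) (g * h))
      (fun h hh => by show F h * _ = 0; rw [hFa, if_neg hh, zero_mul])]
    refine Finset.sum_congr rfl fun n _ => ?_
    show F (n : G) * _ = _
    rw [hFa, if_pos n.2, one_mul]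
  have e2 : ∑ y : G, F y * (χ : G → ℂ) y = ∑ n : N, (χ : G → ℂ) n := by
    rw [sum_eq_sum_subgroup N (fun h : G => F h * (χ : G → ℂ) h)
      (fun h hh => by show F h * _ = 0; rw [hFa, if_neg hh, zero_mul])]
    refine Finset.sum_congr rfl fun n _ => ?_
    show F (n : G) * _ = _
    rw [hFa, if_pos n.2, one_mul]
  rw [e1, e2] at hshift
  constructor
  · intro hconst
    rw [hshift, Finset.sum_congr rfl fun (n : N) _ => hconst (n : G) n.2, Finset.sum_const, Finset.card_univ,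
      nsmul_eq_mul, ← Nat.card_eq_fintype_card]
    field_simp
  · intro hnc
    have h0 : classInner (fun n : N => (χ : G → ℂ) n) (fun _ : N => (1 : ℂ)) = 0 := by
      by_contra hne
      exact hnc fun u hu => const_on_of_inner_one_ne_zero N χ hne u hu
    rw [classInner_def'] at h0
    have hN0 : (Nat.card N : ℂ) ≠ 0 := Nat.cast_ne_zero.mpr Nat.card_pos.ne'
    have h1 : ∑ n : N, (χ : G → ℂ) n = 0 := by
      rcases mul_eq_zero.mp h0 with h' | h'
      · exact absurd (inv_eq_zero.mp h') hN0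
      · rw [← h']
        refine Finset.sum_congr rfl fun n _ => ?_
        rw [map_one, mul_one]
    rw [hshift, h1, mul_zero, mul_zero]

/-- S4434, for `B = blockOf M χ₀`. -/
theorem dominated_block_exists {p : ℕ} [Fact p.Prime] {M : Ideal AlgInt} (hM : IsPModular p M)
    [hMp : M.IsPrime] (N : Subgroup G) [hNn : N.Normal] [Fintype (G ⧸ N)] (hN : IsPGroup p N)
    (χ₀ : IrrCharacter G) :
    ∃ ξ₁ : IrrCharacter (G ⧸ N),
      (∀ ξ ∈ blockOf M (ξ₁ : G ⧸ N → ℂ), ∀ ψ : IrrCharacter G,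
        (ψ : G → ℂ) = (ξ : G ⧸ N → ℂ) ∘ QuotientGroup.mk → ψ ∈ blockOf M (χ₀ : G → ℂ)) ∧
      ∀ Dbar : Subgroup (G ⧸ N), IsDefectGroup p M (blockOf M (ξ₁ : G ⧸ N → ℂ)) Dbar ↔
        ∃ P : Subgroup G, IsDefectGroup p M (blockOf M (χ₀ : G → ℂ)) P ∧
          Dbar = P.map (QuotientGroup.mk' N) := by
  classical
  have hp : p.Prime := Fact.out
  have hsurj : Function.Surjective (QuotientGroup.mk' N) := QuotientGroup.mk'_surjective N
  obtain ⟨g, hg⟩ := exists_defect_class (M := M) χ₀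
  have hreg : ¬ p ∣ orderOf g := pRegular_of_blockCoeff hM χ₀ g hg.2.1
  obtain ⟨Q₀⟩ := (inferInstance : Nonempty (Sylow p (Subgroup.centralizer ({g} : Set G))))
  obtain ⟨D, hDdef⟩ : ∃ D : Subgroup G,
      D = (Q₀ : Subgroup (Subgroup.centralizer ({g} : Set G))).map
        (Subgroup.centralizer ({g} : Set G)).subtype := ⟨_, rfl⟩
  have hD : IsDefectGroup p M (blockOf M (χ₀ : G → ℂ)) D := ⟨g, hg, Q₀, hDdef⟩
  have hND : N ≤ D := normal_pGroup_le_defect hM χ₀ N hN D hD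
  have hgN : ∀ u ∈ N, u * g = g * u := by
    intro u hu
    have h2 := hND hu
    rw [hDdef] at h2
    exact Subgroup.mem_centralizer_singleton_iff.mp (Subgroup.map_subtype_le _ h2)
  obtain ⟨ι, hι⟩ : ∃ ι : IrrCharacter (G ⧸ N) → IrrCharacter G,
      ι = inflIrr (QuotientGroup.mk' N) hsurj := ⟨_, rfl⟩
  have hιa : ∀ (ξ : IrrCharacter (G ⧸ N)) (h : G),
      (ι ξ : G → ℂ) h = (ξ : G ⧸ N → ℂ) (QuotientGroup.mk' N h) := by
    intro ξ h; rw [hι]; rfl
  have hιf : ∀ ξ : IrrCharacter (G ⧸ N),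
      (ι ξ : G → ℂ) = (ξ : G ⧸ N → ℂ) ∘ (QuotientGroup.mk' N) := by
    intro ξ; rw [hι]; rfl
  have hιinj : Function.Injective ι := by rw [hι]; exact inflIrr_injective _ hsurj
  have hιsb : ∀ ξ ξ' : IrrCharacter (G ⧸ N), SameBlock M (ξ : G ⧸ N → ℂ) (ξ' : G ⧸ N → ℂ) →
      SameBlock M (ι ξ : G → ℂ) (ι ξ' : G → ℂ) := by
    intro ξ ξ' hs h
    rw [hιf, hιf, centralChar_infl_relIndex (QuotientGroup.mk' N) hsurj,
      centralChar_infl_relIndex (QuotientGroup.mk' N) hsurj, ← mul_sub]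
    exact memLocalIdeal_mul_left (natCast_memLocalRing _) (hs _)
  have hιker : ∀ (ξ : IrrCharacter (G ⧸ N)), ∀ u ∈ N, (ι ξ : G → ℂ) u = (ι ξ : G → ℂ) 1 := by
    intro ξ u hu
    have e : QuotientGroup.mk' N u = 1 := (QuotientGroup.eq_one_iff u).mpr hu
    rw [hιa, hιa, map_one, e]
  have hG0 : (Nat.card G : ℂ) ≠ 0 := Nat.cast_ne_zero.mpr Nat.card_pos.ne'
  have hN0 : (Nat.card N : ℂ) ≠ 0 := Nat.cast_ne_zero.mpr Nat.card_pos.ne'
  have hQ0 : (Nat.card (G ⧸ N) : ℂ) ≠ 0 := Nat.cast_ne_zero.mpr Nat.card_pos.ne'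
  have hcard : (Nat.card G : ℂ) = (Nat.card (G ⧸ N) : ℂ) * (Nat.card N : ℂ) := by
    rw [← Nat.cast_mul, ← Subgroup.card_eq_card_quotient_mul_card_subgroup]
  -- the block coefficient is supported on `g` within the coset `g N`
  have hA : ∑ n : N, blockCoeff (blockOf M (χ₀ : G → ℂ)) (g * (n : G))
      = blockCoeff (blockOf M (χ₀ : G → ℂ)) g := by
    rw [Finset.sum_eq_single (1 : N)]
    · rw [Subgroup.coe_one, mul_one]
    · intro n _ hn1
      obtain ⟨k, hk⟩ := hN n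
      have hk' : (n : G) ^ (p ^ k) = 1 := by
        rw [← Subgroup.coe_pow, hk, Subgroup.coe_one]
      have hn1' : (n : G) ≠ 1 := fun h => hn1 (Subtype.ext h)
      have hdvd : p ∣ orderOf ((n : G) * g) :=
        dvd_orderOf_mul hp (n : G) g (hgN n n.2) k hk' hn1' hreg
      rw [← hgN n n.2]
      have h1 : ¬ p ∣ orderOf (1 : G) := by
        rw [orderOf_one, Nat.dvd_one]
        exact hp.one_lt.ne'
      have h := weak_block_orth hM χ₀ 1 ((n : G) * g) h1 hdvd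
      unfold blockCoeff
      rw [h, mul_zero]
    · intro h; exact absurd (Finset.mem_univ _) h
  have hBc : ∀ h : G, blockCoeff (blockOf M (χ₀ : G → ℂ)) h
      = (Nat.card G : ℂ)⁻¹ * ∑ χ : IrrCharacter G,
        if χ ∈ blockOf M (χ₀ : G → ℂ) then
          (χ : G → ℂ) 1 * starRingEnd ℂ ((χ : G → ℂ) h) else 0 := by
    intro h
    unfold blockCoeff
    rw [finsum_mem_eq_sum_ite']
  obtain ⟨f, hf⟩ : ∃ f : IrrCharacter G → ℂ, f = fun χ : IrrCharacter G =>
      if χ ∈ blockOf M (χ₀ : G → ℂ) then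
          (if (∀ u ∈ N, (χ : G → ℂ) u = (χ : G → ℂ) 1) then
            (Nat.card N : ℂ) * ((χ : G → ℂ) 1 * starRingEnd ℂ ((χ : G → ℂ) g)) else 0)
        else 0 := ⟨_, rfl⟩
  have hfa : ∀ χ : IrrCharacter G, f χ = if χ ∈ blockOf M (χ₀ : G → ℂ) then
          (if (∀ u ∈ N, (χ : G → ℂ) u = (χ : G → ℂ) 1) then
            (Nat.card N : ℂ) * ((χ : G → ℂ) 1 * starRingEnd ℂ ((χ : G → ℂ) g)) else 0)
        else 0 := by
    intro χ; rw [hf]
  have hB2 : ∑ n : N, blockCoeff (blockOf M (χ₀ : G → ℂ)) (g * (n : G))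
      = (Nat.card G : ℂ)⁻¹ * ∑ χ : IrrCharacter G, f χ := by
    rw [Finset.sum_congr rfl fun (n : N) _ => hBc (g * (n : G)), ← Finset.mul_sum,
      Finset.sum_comm]
    congr 1
    refine Finset.sum_congr rfl fun χ _ => ?_
    rw [hfa]
    by_cases hχ : χ ∈ blockOf M (χ₀ : G → ℂ)
    · simp only [if_pos hχ]
      rw [← Finset.mul_sum, ← map_sum]
      by_cases hk : ∀ u ∈ N, (χ : G → ℂ) u = (χ : G → ℂ) 1
      · rw [if_pos hk, (sum_normal_coset N χ g).1 hk, map_mul, map_natCast]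
        ring
      · rw [if_neg hk, (sum_normal_coset N χ g).2 hk, map_zero, mul_zero]
    · simp only [if_neg hχ]
      exact Finset.sum_const_zero
  have hC : ∑ χ : IrrCharacter G, f χ = ∑ ξ : IrrCharacter (G ⧸ N), f (ι ξ) := by
    rw [← Finset.sum_image (s := Finset.univ) (g := ι) (f := f) (fun a _ b _ hab => hιinj hab)]
    symm
    apply Finset.sum_subset (Finset.subset_univ _)
    intro χ _ hχ
    rw [hfa]
    by_cases hB' : χ ∈ blockOf M (χ₀ : G → ℂ)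
    · rw [if_pos hB']
      by_cases hk : ∀ u ∈ N, (χ : G → ℂ) u = (χ : G → ℂ) 1
      · exfalso
        apply hχ
        obtain ⟨ψ, hψ⟩ := exists_irr_of_ker (QuotientGroup.mk' N) hsurj χ
          (fun u hu => hk u ((QuotientGroup.eq_one_iff u).mp hu))
        refine Finset.mem_image.mpr ⟨ψ, Finset.mem_univ _, ?_⟩
        refine Subtype.ext (funext fun h => ?_)
        rw [hιa, hψ]
      · rw [if_neg hk]
    · rw [if_neg hB']
  have hfι : ∀ ξ : IrrCharacter (G ⧸ N), f (ι ξ)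
      = (if ι ξ ∈ blockOf M (χ₀ : G → ℂ) then (1 : ℂ) else 0)
        * ((Nat.card N : ℂ) * ((ξ : G ⧸ N → ℂ) 1
          * starRingEnd ℂ ((ξ : G ⧸ N → ℂ) (QuotientGroup.mk' N g)))) := by
    intro ξ
    rw [hfa, if_pos (hιker ξ), hιa, hιa, map_one]
    by_cases hB' : ι ξ ∈ blockOf M (χ₀ : G → ℂ)
    · rw [if_pos hB', if_pos hB', one_mul]
    · rw [if_neg hB', if_neg hB', zero_mul]
  obtain ⟨c, hc⟩ : ∃ c : IrrCharacter (G ⧸ N) → ℂ,
      c = fun ξ : IrrCharacter (G ⧸ N) =>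
        if ι ξ ∈ blockOf M (χ₀ : G → ℂ) then (1 : ℂ) else 0 := ⟨_, rfl⟩
  have hca : ∀ ξ : IrrCharacter (G ⧸ N),
      c ξ = if ι ξ ∈ blockOf M (χ₀ : G → ℂ) then (1 : ℂ) else 0 := by
    intro ξ; rw [hc]
  obtain ⟨F, hF⟩ : ∃ F : IrrCharacter (G ⧸ N) → ℂ,
      F = fun ξ : IrrCharacter (G ⧸ N) => (Nat.card (G ⧸ N) : ℂ)⁻¹ * ((ξ : G ⧸ N → ℂ) 1
        * starRingEnd ℂ ((ξ : G ⧸ N → ℂ) (QuotientGroup.mk' N g))) := ⟨_, rfl⟩
  have hFa : ∀ ξ : IrrCharacter (G ⧸ N),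
      F ξ = (Nat.card (G ⧸ N) : ℂ)⁻¹ * ((ξ : G ⧸ N → ℂ) 1
        * starRingEnd ℂ ((ξ : G ⧸ N → ℂ) (QuotientGroup.mk' N g))) := by
    intro ξ; rw [hF]
  have hkey : ∑ ξ : IrrCharacter (G ⧸ N), c ξ * F ξ
      = blockCoeff (blockOf M (χ₀ : G → ℂ)) g := by
    rw [← hA, hB2, hC, Finset.mul_sum]
    refine Finset.sum_congr rfl fun ξ _ => ?_
    rw [hca, hFa, hfι, hcard]
    by_cases hB' : ι ξ ∈ blockOf M (χ₀ : G → ℂ)
    · rw [if_pos hB', one_mul, one_mul, mul_inv, mul_assoc, inv_mul_cancel_left₀ hN0]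
    · rw [if_neg hB', zero_mul, zero_mul, mul_zero]
  have hcR : ∀ ξ : IrrCharacter (G ⧸ N), MemLocalRing M (c ξ) := by
    intro ξ
    rw [hca]
    by_cases hB' : ι ξ ∈ blockOf M (χ₀ : G → ℂ)
    · rw [if_pos hB']; exact mem_locRing.mp (locRing M).one_mem
    · rw [if_neg hB']; exact mem_locRing.mp (locRing M).zero_mem
  have hcb : ∀ ξ ξ' : IrrCharacter (G ⧸ N),
      SameBlock M (ξ : G ⧸ N → ℂ) (ξ' : G ⧸ N → ℂ) → c ξ = c ξ' := by
    intro ξ ξ' hs
    rw [hca, hca]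
    have e : ι ξ ∈ blockOf M (χ₀ : G → ℂ) ↔ ι ξ' ∈ blockOf M (χ₀ : G → ℂ) :=
      ⟨fun h => sameBlock_trans h (hιsb ξ ξ' hs),
        fun h => sameBlock_trans h (hιsb ξ' ξ (sameBlock_symm hs))⟩
    rw [if_congr e rfl rfl]
  obtain ⟨ξ₁, hξ₁c, hξ₁F⟩ := exists_block_of_sum_notMem (M := M) c F hcR hcb
    (by rw [hkey]; exact hg.2.1)
  have hξ₁B : ι ξ₁ ∈ blockOf M (χ₀ : G → ℂ) := by
    by_contra hno
    apply hξ₁c
    rw [hca, if_neg hno]
  have hFb : ∑ᶠ ψ ∈ blockOf M (ξ₁ : G ⧸ N → ℂ), F ψ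
      = blockCoeff (blockOf M (ξ₁ : G ⧸ N → ℂ)) (QuotientGroup.mk' N g) := by
    unfold blockCoeff
    rw [finsum_mem_eq_sum_ite', finsum_mem_eq_sum_ite', Finset.mul_sum]
    refine Finset.sum_congr rfl fun ψ _ => ?_
    rw [hFa, mul_ite, mul_zero]
  rw [hFb] at hξ₁F
  have hdc : IsDefectClass M (blockOf M (ξ₁ : G ⧸ N → ℂ)) (QuotientGroup.mk' N g) := by
    refine ⟨blockCoeff_memLocalRing ξ₁ _, hξ₁F, ?_⟩
    intro ξ hξ
    have h1 : ι ξ ∈ blockOf M (χ₀ : G → ℂ) := sameBlock_trans hξ₁B (hιsb ξ₁ ξ hξ)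
    have h2 := hg.2.2 (ι ξ) h1
    rw [hιf] at h2
    have h3 := centralChar_infl_regular N hN ξ g hreg hgN
    intro h4
    apply h2
    show MemLocalIdeal M (centralChar ((ξ : G ⧸ N → ℂ) ∘ QuotientGroup.mk) g)
    rw [h3]
    exact h4
  have hCT : Subgroup.centralizer ({g} : Set G)
      ≤ (Subgroup.centralizer ({(QuotientGroup.mk' N g)} : Set (G ⧸ N))).comap
        (QuotientGroup.mk' N) := by
    intro x hx
    rw [Subgroup.mem_comap, Subgroup.mem_centralizer_singleton_iff]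
    rw [← map_mul, ← map_mul, Subgroup.mem_centralizer_singleton_iff.mp hx]
  have hω := hg.2.2 (ι ξ₁) hξ₁B
  rw [hιf, centralChar_infl_relIndex (QuotientGroup.mk' N) hsurj (ξ₁ : G ⧸ N → ℂ) g] at hω
  have hm : ¬ p ∣ (Subgroup.centralizer ({g} : Set G)).relIndex
      ((Subgroup.centralizer ({(QuotientGroup.mk' N g)} : Set (G ⧸ N))).comap
        (QuotientGroup.mk' N)) := by
    intro hdvd
    obtain ⟨k, hk⟩ := hdvd
    apply hω
    rw [hk, Nat.cast_mul, mul_assoc, mul_comm]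
    exact memLocalIdeal_mul_left ((locRing M).mul_mem (natCast_memLocalRing k)
      (centralChar_memLocalRing ξ₁ _)) (prime_memLocalIdeal hM)
  obtain ⟨Sb, hSb⟩ := sylow_image' N _ _ hCT Q₀ hm
  rw [← hDdef] at hSb
  have hDb : IsDefectGroup p M (blockOf M (ξ₁ : G ⧸ N → ℂ)) (D.map (QuotientGroup.mk' N)) :=
    ⟨QuotientGroup.mk' N g, hdc, Sb, hSb.symm⟩
  have hconj : ∀ x : G, (D.map (MulAut.conj x).toMonoidHom).map (QuotientGroup.mk' N)
      = (D.map (QuotientGroup.mk' N)).map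
        (MulAut.conj (QuotientGroup.mk' N x)).toMonoidHom := by
    intro x
    rw [Subgroup.map_map, Subgroup.map_map]
    congr 1
  refine ⟨ξ₁, ?_, ?_⟩
  · intro ξ hξ ψ hψ
    have h1 : SameBlock M (χ₀ : G → ℂ) (ι ξ : G → ℂ) :=
      sameBlock_trans hξ₁B (hιsb ξ₁ ξ hξ)
    show SameBlock M (χ₀ : G → ℂ) (ψ : G → ℂ)
    rw [hψ]
    rw [hιf] at h1
    exact h1
  · intro Dbar
    constructor
    · intro hDbar
      obtain ⟨xb, hxb⟩ := defect_groups_conj hM ξ₁ _ Dbar hDb hDbar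
      obtain ⟨x, rfl⟩ := hsurj xb
      exact ⟨D.map (MulAut.conj x).toMonoidHom, isDefectGroup_conj hM χ₀ D hD x,
        by rw [hxb, hconj]⟩
    · rintro ⟨P, hP, rfl⟩
      obtain ⟨x, rfl⟩ := defect_groups_conj hM χ₀ D P hD hP
      rw [hconj]
      exact isDefectGroup_conj hM ξ₁ _ hDb _

end Blocks

end Cfsg.Agent.Helper5
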