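import Mathlib
import Cfsg.Agent.Helper5.BlkReal

/-!
helper5: a real `2`-block of full defect is the principal block.
-/

set_option autoImplicit false

namespace Cfsg.Agent.Helper5

open Cfsg Cfsg.Agent.Helper24 Cfsg.Agent.Helper22

universe u

variable {G : Type u} [Group G] [Fintype G]

/-- a `2`-block of full defect which is closed under complex conjugation is the principal
block. -/
theorem real_full_defect_principal {M : Ideal AlgInt} (hM : IsPModular 2 M) [hMp : M.IsPrime]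
    (χ₀ : IrrCharacter G) (P : Sylow 2 G)
    (hfull : IsDefectGroup 2 M (blockOf M (χ₀ : G → ℂ)) (P : Subgroup G))
    (hreal : ∀ χ : IrrCharacter G, χ ∈ blockOf M (χ₀ : G → ℂ) → ∀ ψ : IrrCharacter G,
      (ψ : G → ℂ) = (fun g => starRingEnd ℂ ((χ : G → ℂ) g)) → ψ ∈ blockOf M (χ₀ : G → ℂ)) :
    blockOf M (χ₀ : G → ℂ) = principalBlock M G := by
  classical
  have : Fact (Nat.Prime 2) := ⟨Nat.prime_two⟩
  obtain ⟨c, hc, hcv⟩ := osima (M := M) χ₀
  have hc1 : ∀ ψ : IrrCharacter G, ψ ∈ blockOf M (χ₀ : G → ℂ) → c ψ = 1 :=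
    fun ψ hψ => (hcv ψ).1 hψ
  have hc0 : ∀ ψ : IrrCharacter G, ψ ∉ blockOf M (χ₀ : G → ℂ) → c ψ = 0 :=
    fun ψ hψ => (hcv ψ).2 hψ
  have hβloc : ∀ g : G, MemLocalRing M (specFun c g) := fun g => hc g
  -- conjugation on irreducible characters
  obtain ⟨cj, hcj⟩ : ∃ cj : IrrCharacter G → IrrCharacter G, ∀ (χ : IrrCharacter G) (g : G),
      (cj χ : G → ℂ) g = starRingEnd ℂ ((χ : G → ℂ) g) :=
    ⟨fun χ => ⟨fun g => starRingEnd ℂ ((χ : G → ℂ) g), isIrrCharacter_star χ.2⟩,
      fun _ _ => rfl⟩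
  have hcjcj : ∀ χ : IrrCharacter G, cj (cj χ) = χ := fun χ =>
    Subtype.ext (funext fun g => by rw [hcj, hcj, Complex.conj_conj])
  have hcjB : ∀ χ : IrrCharacter G, χ ∈ blockOf M (χ₀ : G → ℂ) →
      cj χ ∈ blockOf M (χ₀ : G → ℂ) :=
    fun χ hχ => hreal χ hχ (cj χ) (funext fun g => hcj χ g)
  have hccj : ∀ χ : IrrCharacter G, c (cj χ) = c χ := by
    intro χ
    by_cases hχ : χ ∈ blockOf M (χ₀ : G → ℂ)
    · rw [hc1 χ hχ, hc1 _ (hcjB χ hχ)]
    · have hn : cj χ ∉ blockOf M (χ₀ : G → ℂ) := fun h => hχ (by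
        have h' := hcjB _ h
        rwa [hcjcj] at h')
      rw [hc0 χ hχ, hc0 _ hn]
  -- the coefficient function is invariant under inversion
  have hβinv : ∀ g : G, specFun c g⁻¹ = specFun c g := by
    intro g
    unfold specFun
    congr 1
    have e : ∀ χ : IrrCharacter G,
        c χ * ((χ : G → ℂ) 1 * starRingEnd ℂ ((χ : G → ℂ) g⁻¹))
          = (fun ψ : IrrCharacter G =>
              c ψ * ((ψ : G → ℂ) 1 * starRingEnd ℂ ((ψ : G → ℂ) g))) (cj χ) := by
      intro χ
      show _ = c (cj χ) * ((cj χ : G → ℂ) 1 * starRingEnd ℂ ((cj χ : G → ℂ) g))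
      rw [hccj, hcj, hcj, irr_inv χ g, Complex.conj_conj, irr_one_conj]
    exact Fintype.sum_equiv ⟨cj, cj, hcjcj, hcjcj⟩ _ _ (fun χ => e χ)
  -- the coefficient function vanishes on `2`-singular elements
  have hβsing : ∀ g : G, 2 ∣ orderOf g → specFun c g = 0 := by
    intro g hg
    rw [← blockCoeff_eq_specFun (blockOf M (χ₀ : G → ℂ)) c hc1 hc0 g]
    unfold blockCoeff
    rw [weak_block_orth hM χ₀ 1 g (by rw [orderOf_one]; decide) hg, mul_zero]
  -- a character of odd degree in the block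
  obtain ⟨χ, hχB, hχodd⟩ : ∃ χ : IrrCharacter G, χ ∈ blockOf M (χ₀ : G → ℂ) ∧
      ¬ 2 ∣ charDegree (χ : G → ℂ) := by
    have hcard := card_defect_group hM χ₀ (P : Subgroup G) hfull
    rw [Sylow.card_eq_multiplicity] at hcard
    have hdef : (Nat.card G).factorization 2 = blockDefect 2 (blockOf M (χ₀ : G → ℂ)) :=
      Nat.pow_right_injective (le_refl 2) hcard
    have hIne : ((fun χ : IrrCharacter G => (charDegree (χ : G → ℂ)).factorization 2) ''
        blockOf M (χ₀ : G → ℂ)).Nonempty := ⟨_, χ₀, sameBlock_refl _, rfl⟩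
    obtain ⟨χ, hχB, hχ⟩ := Nat.sInf_mem hIne
    refine ⟨χ, hχB, ?_⟩
    obtain ⟨d, hd, hdvd⟩ := irr_degree_dvd_card χ
    have hdeg : charDegree (χ : G → ℂ) = d := charDegree_of_eq hd
    have hd0 : d ≠ 0 := by
      rintro rfl
      exact Nat.card_pos.ne' (Nat.eq_zero_of_zero_dvd hdvd)
    have hle : d.factorization 2 ≤ (Nat.card G).factorization 2 :=
      (Nat.factorization_le_iff_dvd hd0 Nat.card_pos.ne').mpr hdvd 2
    have hdef' : (Nat.card G).factorization 2 =
        (Nat.card G).factorization 2 - (charDegree (χ : G → ℂ)).factorization 2 := by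
      rw [show (charDegree (χ : G → ℂ)).factorization 2 = sInf _ from hχ]
      exact hdef
    rw [hdeg] at hdef' ⊢
    have hz : d.factorization 2 = 0 := by omega
    rcases (Nat.factorization_eq_zero_iff d 2).mp hz with h | h | h
    · exact absurd Nat.prime_two h
    · exact h
    · exact absurd h hd0
  obtain ⟨d, hd0, hd⟩ := irr_one_eq_natCast_pos χ
  have hdeg : charDegree (χ : G → ℂ) = d := charDegree_of_eq hd
  rw [hdeg] at hχodd
  have hdC : (d : ℂ) ≠ 0 := Nat.cast_ne_zero.mpr hd0.ne'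
  have hinvn := spec_inversion c χ
  rw [hc1 χ hχB, one_mul] at hinvn
  obtain ⟨C, hC⟩ : ∃ C : Subgroup G, C = Subgroup.centralizer ((P : Subgroup G) : Set G) :=
    ⟨_, rfl⟩
  have hCmem : ∀ x : G, x ∈ C ↔ ∀ h ∈ (P : Subgroup G), h * x = x * h := fun x => by
    rw [hC, Subgroup.mem_centralizer_iff]
    rfl
  have hsplit : ∑ g ∈ Finset.univ.filter (fun g : G => g ∈ C), specFun c g * (χ : G → ℂ) g
      + ∑ g ∈ Finset.univ.filter (fun g : G => ¬ g ∈ C), specFun c g * (χ : G → ℂ) g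
      = ∑ g : G, specFun c g * (χ : G → ℂ) g := Finset.sum_filter_add_sum_filter_not _ _ _
  -- outside the centralizer of `P`
  have hout : MemLocalIdeal M (∑ g ∈ Finset.univ.filter (fun g : G => ¬ g ∈ C),
      specFun c g * (χ : G → ℂ) g) := by
    refine sum_memLocalIdeal_of_no_fixed hM (P : Subgroup G) P.isPGroup' _ ?_ ?_
      (fun g => specFun c g * (χ : G → ℂ) g) ?_ ?_
    · intro u hu x hx
      rw [Finset.mem_filter] at hx ⊢
      refine ⟨Finset.mem_univ _, fun hmem => hx.2 ?_⟩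
      rw [hCmem] at hmem ⊢
      intro h hh
      have h1 := hmem (u * h * u⁻¹)
        ((P : Subgroup G).mul_mem ((P : Subgroup G).mul_mem hu hh) ((P : Subgroup G).inv_mem hu))
      have h2 : u * (h * x) * u⁻¹ = u * (x * h) * u⁻¹ := by
        calc u * (h * x) * u⁻¹ = u * h * u⁻¹ * (u * x * u⁻¹) := by group
          _ = u * x * u⁻¹ * (u * h * u⁻¹) := h1
          _ = u * (x * h) * u⁻¹ := by group
      exact mul_left_cancel (mul_right_cancel h2)
    · intro x hx hfix
      rw [Finset.mem_filter] at hx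
      apply hx.2
      rw [hCmem]
      intro h hh
      have h1 := hfix h hh
      calc h * x = h * x * h⁻¹ * h := by group
        _ = x * h := by rw [h1]
    · intro u _ x _
      show specFun c (u * x * u⁻¹) * (χ : G → ℂ) (u * x * u⁻¹) = _
      rw [specFun_isClassFunction c x u, irr_conj χ x u]
    · intro x _
      exact (locRing M).mul_mem (hβloc x) (integral_mem_locRing (irr_isIntegral χ x))
  -- inside the centralizer of `P`
  obtain ⟨T, hT⟩ : ∃ T : Finset G, T = Finset.univ.filter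
      (fun g : G => g ∈ C ∧ ¬ 2 ∣ orderOf g) := ⟨_, rfl⟩
  have hTmem : ∀ x : G, x ∈ T ↔ x ∈ C ∧ ¬ 2 ∣ orderOf x := fun x => by
    rw [hT, Finset.mem_filter]
    exact ⟨fun h => h.2, fun h => ⟨Finset.mem_univ _, h⟩⟩
  have hin : ∑ g ∈ Finset.univ.filter (fun g : G => g ∈ C), specFun c g * (χ : G → ℂ) g
      = ∑ g ∈ T, specFun c g * (χ : G → ℂ) g := by
    rw [hT, Finset.sum_filter, Finset.sum_filter]
    refine Finset.sum_congr rfl fun g _ => ?_
    by_cases hg : g ∈ C
    · by_cases hg2 : 2 ∣ orderOf g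
      · rw [if_pos hg, if_neg (fun h => h.2 hg2), hβsing g hg2, zero_mul]
      · rw [if_pos hg, if_pos ⟨hg, hg2⟩]
    · rw [if_neg hg, if_neg (fun h => hg h.1)]
  have hkey : ∀ x ∈ C, MemLocalIdeal M
      (starRingEnd ℂ ((χ : G → ℂ) x) - (χ : G → ℂ) x) := by
    intro x hx
    have hsb : SameBlock M ((cj χ : IrrCharacter G) : G → ℂ) (χ : G → ℂ) :=
      sameBlock_trans (sameBlock_symm (hcjB χ hχB)) hχB
    have h1 := hsb x
    unfold centralChar at h1
    rw [hcj, hcj, irr_one_conj, hd] at h1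
    have hidx : ¬ 2 ∣ (Subgroup.centralizer ({x} : Set G)).index := by
      have hPle : (P : Subgroup G) ≤ Subgroup.centralizer ({x} : Set G) := by
        intro u hu
        rw [Subgroup.mem_centralizer_singleton_iff]
        exact (hCmem x).mp hx u hu
      intro h2
      exact P.not_dvd_index (dvd_trans h2 (Subgroup.index_dvd_of_le hPle))
    have hidx0 := index_centralizer_ne_zero x
    have h2 := memLocalIdeal_mul_left ((locRing M).mul_mem (natCast_memLocalRing (M := M) d)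
      (natCast_inv_memLocalRing hM hidx)) h1
    have e : ((d : ℂ) * (((Subgroup.centralizer ({x} : Set G)).index : ℂ))⁻¹) *
        (((Subgroup.centralizer ({x} : Set G)).index : ℂ) * starRingEnd ℂ ((χ : G → ℂ) x) / (d : ℂ)
          - ((Subgroup.centralizer ({x} : Set G)).index : ℂ) * (χ : G → ℂ) x / (d : ℂ))
        = starRingEnd ℂ ((χ : G → ℂ) x) - (χ : G → ℂ) x := by
      field_simp
    rwa [e] at h2
  have hT1 : (1 : G) ∈ T := (hTmem 1).mpr ⟨C.one_mem, by rw [orderOf_one]; decide⟩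
  have hTinv : ∀ x ∈ T, x⁻¹ ∈ T := fun x hx =>
    (hTmem _).mpr ⟨C.inv_mem ((hTmem x).mp hx).1, by
      rw [orderOf_inv]
      exact ((hTmem x).mp hx).2⟩
  have hTreg : ∀ x ∈ T, ¬ 2 ∣ orderOf x := fun x hx => ((hTmem x).mp hx).2
  have hA : MemLocalIdeal M (∑ x ∈ T, specFun c x * (χ : G → ℂ) x
      - specFun c 1 * (χ : G → ℂ) 1) :=
    sum_inv_closed_memLocalIdeal hM T hT1 hTinv hTreg (fun g => specFun c g * (χ : G → ℂ) g)
      (fun x hx => by
        show MemLocalIdeal M (specFun c x⁻¹ * (χ : G → ℂ) x⁻¹ - specFun c x * (χ : G → ℂ) x)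
        rw [hβinv x, irr_inv χ x, ← mul_sub]
        exact memLocalIdeal_mul_left (hβloc x) (hkey x ((hTmem x).mp hx).1))
      (fun x _ => (locRing M).mul_mem (hβloc x) (integral_mem_locRing (irr_isIntegral χ x)))
  have hB1 : MemLocalIdeal M ((χ : G → ℂ) 1 - specFun c 1 * (χ : G → ℂ) 1) := by
    have h := memLocalIdeal_add hMp hA hout
    have e2 : (∑ x ∈ T, specFun c x * (χ : G → ℂ) x - specFun c 1 * (χ : G → ℂ) 1)
        + ∑ g ∈ Finset.univ.filter (fun g : G => ¬ g ∈ C), specFun c g * (χ : G → ℂ) g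
        = (χ : G → ℂ) 1 - specFun c 1 * (χ : G → ℂ) 1 := by
      rw [← hin]
      linear_combination hsplit + hinvn
    rwa [e2] at h
  have hB2 : MemLocalIdeal M (1 - specFun c 1) := by
    have h := memLocalIdeal_mul_left (natCast_inv_memLocalRing hM hχodd) hB1
    rw [hd] at h
    have e : ((d : ℂ))⁻¹ * ((d : ℂ) - specFun c 1 * (d : ℂ)) = 1 - specFun c 1 := by
      field_simp
    rwa [e] at h
  -- the sum of all coefficients
  obtain ⟨R, hR⟩ : ∃ R : Finset G, R = Finset.univ.filter (fun g : G => ¬ 2 ∣ orderOf g) :=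
    ⟨_, rfl⟩
  have hRmem : ∀ x : G, x ∈ R ↔ ¬ 2 ∣ orderOf x := fun x => by
    rw [hR, Finset.mem_filter]
    exact ⟨fun h => h.2, fun h => ⟨Finset.mem_univ _, h⟩⟩
  have hsumR : ∑ g : G, specFun c g = ∑ g ∈ R, specFun c g := by
    rw [hR, Finset.sum_filter]
    refine Finset.sum_congr rfl fun g _ => ?_
    by_cases hg : 2 ∣ orderOf g
    · rw [if_neg (not_not.mpr hg), hβsing g hg]
    · rw [if_pos hg]
  have hE : MemLocalIdeal M (∑ x ∈ R, specFun c x - specFun c 1) :=
    sum_inv_closed_memLocalIdeal hM R ((hRmem 1).mpr (by rw [orderOf_one]; decide))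
      (fun x hx => (hRmem _).mpr (by
        rw [orderOf_inv]
        exact (hRmem x).mp hx))
      (fun x hx => (hRmem x).mp hx) (specFun c)
      (fun x _ => by
        rw [hβinv x, sub_self]
        exact memLocalIdeal_zero hMp.ne_top)
      (fun x _ => hβloc x)
  obtain ⟨t, ht⟩ : ∃ t : IrrCharacter G, (t : G → ℂ) = fun _ => (1 : ℂ) :=
    ⟨⟨fun _ => 1, Cfsg.Agent.Helper24.isIrrCharacter_one⟩, rfl⟩
  have hct := spec_inversion c t
  rw [ht] at hct
  simp only [mul_one] at hct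
  have htB : t ∈ blockOf M (χ₀ : G → ℂ) := by
    by_contra hnt
    have h0 := hc0 t hnt
    rw [hct, h0] at hsumR
    rw [← hsumR, zero_sub] at hE
    have h1 := memLocalIdeal_sub hB2 hE
    rw [sub_neg_eq_add, sub_add_cancel] at h1
    exact not_memLocalIdeal_one h1
  rw [principalBlock_eq_blockOf M t ht]
  exact blockOf_eq_of_sameBlock htB

end Cfsg.Agent.Helper5
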