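import Mathlib
import Cfsg.Agent.Helper5.Cliff

/-!
helper5: the Clifford correspondence for any subgroup containing the inertia group.
-/

namespace Cfsg.Agent.Helper5

open Cfsg Cfsg.Agent.Helper24

universe u

variable {G : Type u} [Group G]

/-- **Clifford correspondence** for a subgroup `T` containing the inertia group of `ϑ`: induction is a
multiplicity-preserving bijection `Irr(T | ϑ) → Irr(G | ϑ)`. -/
theorem clifford_corr_ge [Fintype G] (H : Subgroup G) [hN : H.Normal] [Fintype H]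
    (ϑ : H → ℂ) (hϑ : IsIrrCharacter H ϑ) (T : Subgroup G) [Fintype T]
    (hT : ∀ g : G,
      (∀ n : H, ϑ ⟨g * n * g⁻¹, hN.conj_mem (n : G) n.2 g⟩ = ϑ n) → g ∈ T) (hHT : H ≤ T) :
    (∀ ψ : IrrCharacter T, classInner (fun n : H => (ψ : T → ℂ) ⟨n, hHT n.2⟩) ϑ ≠ 0 →
        IsIrrCharacter G (indFun T (ψ : T → ℂ)) ∧
        classInner (fun n : H => indFun T (ψ : T → ℂ) n) ϑ =
          classInner (fun n : H => (ψ : T → ℂ) ⟨n, hHT n.2⟩) ϑ) ∧
    (∀ ψ ψ' : IrrCharacter T, classInner (fun n : H => (ψ : T → ℂ) ⟨n, hHT n.2⟩) ϑ ≠ 0 →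
        classInner (fun n : H => (ψ' : T → ℂ) ⟨n, hHT n.2⟩) ϑ ≠ 0 →
        indFun T (ψ : T → ℂ) = indFun T (ψ' : T → ℂ) → ψ = ψ') ∧
    (∀ χ : G → ℂ, IsIrrCharacter G χ → classInner (fun n : H => χ n) ϑ ≠ 0 →
        ∃ ψ : IrrCharacter T, classInner (fun n : H => (ψ : T → ℂ) ⟨n, hHT n.2⟩) ϑ ≠ 0 ∧
          indFun T (ψ : T → ℂ) = χ) := by
  classical
  have : Fintype (H.subgroupOf T) := Fintype.ofFinite _
  have hϑ' : IsIrrCharacter (H.subgroupOf T) (resSub H T ϑ) := isIrrCharacter_resSub hHT ϑ hϑ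
  obtain ⟨Φ, hΦ⟩ : ∃ Φ : T → ℂ, Φ = indFun (H.subgroupOf T) (resSub H T ϑ) := ⟨_, rfl⟩
  have hΦc : IsCharacter T Φ := by
    rw [hΦ]; exact isCharacter_induced _ _ (isCharacter_of_isIrrCharacter hϑ')
  have hΦcf : IsClassFunction T Φ := isCharacter_isClassFunction hΦc
  have htrans : indFun T Φ = indFun H ϑ := by
    rw [hΦ]; exact indFun_trans_resSub H T hHT ϑ
  choose f hf using fun ψ : IrrCharacter T => isCharacter_inner_irr hΦc ψ
  have hfψ : ∀ ψ : IrrCharacter T,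
      classInner (fun n : H => (ψ : T → ℂ) ⟨n, hHT n.2⟩) ϑ = f ψ := by
    intro ψ
    have h1 : classInner Φ (ψ : T → ℂ) =
        classInner (resSub H T ϑ) (fun h : H.subgroupOf T => (ψ : T → ℂ) h) := by
      rw [hΦ]
      exact classInner_indFun (H.subgroupOf T) (resSub H T ϑ) (ψ : T → ℂ)
        (isCharacter_isClassFunction (isCharacter_of_isIrrCharacter ψ.2))
    have h2 : (fun h : H.subgroupOf T => (ψ : T → ℂ) h) =
        resSub H T (fun n : H => (ψ : T → ℂ) ⟨n, hHT n.2⟩) := rfl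
    rw [h2, classInner_resSub hHT, hf ψ] at h1
    rw [classInner_conj_symm, ← h1, Complex.conj_natCast]
  have hΨc : ∀ ψ : IrrCharacter T, IsCharacter G (indFun T (ψ : T → ℂ)) :=
    fun ψ => isCharacter_induced T _ (isCharacter_of_isIrrCharacter ψ.2)
  choose n hn using fun ψ ψ' : IrrCharacter T =>
    classInner_isCharacter_natCast (hΨc ψ) (hΨc ψ')
  have hstar : ∀ ξ : G → ℂ, IsClassFunction G ξ → classInner (indFun H ϑ) ξ =
      ∑ ψ : IrrCharacter T, (f ψ : ℂ) * classInner (indFun T (ψ : T → ℂ)) ξ := by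
    intro ξ hξ
    rw [← htrans, classInner_indFun T Φ ξ hξ, classInner_eq_sum_irr hΦcf]
    refine Finset.sum_congr rfl fun ψ _ => ?_
    rw [hf ψ, classInner_indFun T (ψ : T → ℂ) ξ hξ]
  have hstar2 : ∀ ψ : IrrCharacter T, classInner (indFun H ϑ) (indFun T (ψ : T → ℂ)) =
      ((∑ ψ' : IrrCharacter T, f ψ' * n ψ' ψ : ℕ) : ℂ) := by
    intro ψ
    rw [hstar _ (indFun_isClassFunction T _)]
    push_cast
    exact Finset.sum_congr rfl fun ψ' _ => by rw [hn ψ' ψ]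
  have hnormG : classInner (indFun H ϑ) (indFun H ϑ) =
      ((∑ ψ : IrrCharacter T, ∑ ψ' : IrrCharacter T, f ψ * (f ψ' * n ψ' ψ) : ℕ) : ℂ) := by
    rw [hstar _ (indFun_isClassFunction H ϑ)]
    push_cast
    refine Finset.sum_congr rfl fun ψ _ => ?_
    rw [classInner_conj_symm, hstar2 ψ, Complex.conj_natCast]
    push_cast
    rw [Finset.mul_sum]
  have hnormT : classInner Φ Φ = ((∑ ψ : IrrCharacter T, f ψ ^ 2 : ℕ) : ℂ) := by
    rw [classInner_eq_sum_irr hΦcf]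
    push_cast
    refine Finset.sum_congr rfl fun ψ _ => ?_
    rw [hf ψ, classInner_conj_symm, hf ψ, Complex.conj_natCast]
    ring
  have hnorm_eq : classInner (indFun H ϑ) (indFun H ϑ) = classInner Φ Φ := by
    have hH0 : (Nat.card H : ℂ) ≠ 0 := Nat.cast_ne_zero.mpr Nat.card_pos.ne'
    have h1 := card_mul_classInner_indFun_self H ϑ hϑ
    have h2 := card_mul_classInner_indFun_self (H.subgroupOf T) (resSub H T ϑ) hϑ'
    rw [← hΦ] at h2
    have c3 : Nat.card (H.subgroupOf T) = Nat.card H :=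
      Nat.card_congr (Subgroup.subgroupOfEquivOfLe hHT).toEquiv
    have h2' : (Nat.card H : ℂ) * classInner Φ Φ
        = (Nat.card {g : G // ∀ h : H, ϑ ⟨g * h * g⁻¹, hN.conj_mem h h.2 g⟩ = ϑ h} : ℂ) := by
      rw [← c3, h2]
      refine congrArg Nat.cast (Nat.card_congr ?_)
      refine Equiv.ofBijective (fun t => ⟨(t.1 : G), ?_⟩) ⟨?_, ?_⟩
      · intro h
        exact t.2 ⟨⟨h, hHT h.2⟩, Subgroup.mem_subgroupOf.mpr h.2⟩
      · intro t t' htt
        have h' := congrArg Subtype.val htt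
        exact Subtype.ext (Subtype.ext h')
      · rintro ⟨g, hg⟩
        refine ⟨⟨⟨g, hT g hg⟩, ?_⟩, rfl⟩
        intro h
        exact hg ⟨(h : T), Subgroup.mem_subgroupOf.mp h.2⟩
    exact mul_left_cancel₀ hH0 (h1.trans h2'.symm)
  have hnpos : ∀ ψ : IrrCharacter T, 1 ≤ n ψ ψ := by
    intro ψ
    by_contra hlt
    have h0 : n ψ ψ = 0 := by omega
    have h1 : classInner (indFun T (ψ : T → ℂ)) (indFun T (ψ : T → ℂ)) = 0 := by
      rw [hn ψ ψ, h0]; simp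
    have h2 : indFun T (ψ : T → ℂ) 1 = 0 := by
      rw [classInner_self_eq_zero h1]; rfl
    rw [indFun_one] at h2
    have h3 : (T.index : ℂ) ≠ 0 := Nat.cast_ne_zero.mpr Subgroup.index_ne_zero_of_finite
    exact irr_one_ne_zero ψ ((mul_eq_zero.mp h2).resolve_left h3)
  have hsumeq : ∑ ψ : IrrCharacter T, ∑ ψ' : IrrCharacter T, f ψ * (f ψ' * n ψ' ψ) =
      ∑ ψ : IrrCharacter T, f ψ ^ 2 := by
    have h := hnormG.symm.trans (hnorm_eq.trans hnormT)
    exact_mod_cast h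
  have hsq : ∀ ψ : IrrCharacter T, f ψ ^ 2 ≤ f ψ * (f ψ * n ψ ψ) := by
    intro ψ
    calc f ψ ^ 2 = f ψ * (f ψ * 1) := by ring
      _ ≤ f ψ * (f ψ * n ψ ψ) := Nat.mul_le_mul_left _ (Nat.mul_le_mul_left _ (hnpos ψ))
  have hle : ∀ ψ ∈ (Finset.univ : Finset (IrrCharacter T)),
      f ψ ^ 2 ≤ ∑ ψ' : IrrCharacter T, f ψ * (f ψ' * n ψ' ψ) := by
    intro ψ _
    have h1 : f ψ * (f ψ * n ψ ψ) ≤ ∑ ψ' : IrrCharacter T, f ψ * (f ψ' * n ψ' ψ) :=
      Finset.single_le_sum (f := fun ψ' => f ψ * (f ψ' * n ψ' ψ)) (fun _ _ => Nat.zero_le _)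
        (Finset.mem_univ ψ)
    exact (hsq ψ).trans h1
  have heach : ∀ ψ : IrrCharacter T,
      ∑ ψ' : IrrCharacter T, f ψ * (f ψ' * n ψ' ψ) = f ψ ^ 2 := by
    intro ψ
    exact ((Finset.sum_eq_sum_iff_of_le hle).mp hsumeq.symm ψ (Finset.mem_univ ψ)).symm
  have hdiag : ∀ ψ : IrrCharacter T, f ψ ≠ 0 →
      n ψ ψ = 1 ∧ ∀ ψ' : IrrCharacter T, ψ' ≠ ψ → f ψ' ≠ 0 → n ψ' ψ = 0 := by
    intro ψ hfψ0
    have h1 : f ψ * (f ψ * n ψ ψ) + ∑ ψ' ∈ Finset.univ.erase ψ, f ψ * (f ψ' * n ψ' ψ) =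
        ∑ ψ' : IrrCharacter T, f ψ * (f ψ' * n ψ' ψ) :=
      Finset.add_sum_erase Finset.univ (fun ψ' : IrrCharacter T => f ψ * (f ψ' * n ψ' ψ))
        (Finset.mem_univ ψ)
    rw [heach ψ] at h1
    have h2 := hsq ψ
    have h3 : ∑ ψ' ∈ Finset.univ.erase ψ, f ψ * (f ψ' * n ψ' ψ) = 0 := by omega
    have h4 : f ψ * (f ψ * n ψ ψ) = f ψ ^ 2 := by omega
    have hpos : 0 < f ψ := Nat.pos_of_ne_zero hfψ0
    refine ⟨?_, ?_⟩
    · have h5 : f ψ * (f ψ * n ψ ψ) = f ψ * (f ψ * 1) := by rw [h4]; ring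
      exact Nat.eq_of_mul_eq_mul_left hpos (Nat.eq_of_mul_eq_mul_left hpos h5)
    · intro ψ' hne hf'0
      have h5 := (Finset.sum_eq_zero_iff.mp h3) ψ'
        (Finset.mem_erase.mpr ⟨hne, Finset.mem_univ _⟩)
      rcases Nat.mul_eq_zero.mp h5 with h | h
      · exact absurd h hfψ0
      · rcases Nat.mul_eq_zero.mp h with h | h
        · exact absurd h hf'0
        · exact h
  have hf0 : ∀ ψ : IrrCharacter T,
      classInner (fun n : H => (ψ : T → ℂ) ⟨n, hHT n.2⟩) ϑ ≠ 0 → f ψ ≠ 0 := by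
    intro ψ h h0
    apply h
    rw [hfψ ψ, h0]; simp
  have hirr : ∀ ψ : IrrCharacter T, f ψ ≠ 0 → IsIrrCharacter G (indFun T (ψ : T → ℂ)) := by
    intro ψ h0
    apply isIrrCharacter_of_inner_self (hΨc ψ)
    rw [hn ψ ψ, (hdiag ψ h0).1]; simp
  have hmult : ∀ ψ : IrrCharacter T, f ψ ≠ 0 →
      classInner (fun n : H => indFun T (ψ : T → ℂ) n) ϑ = f ψ := by
    intro ψ h0
    have h1 := hstar2 ψ
    rw [classInner_indFun H ϑ _ (indFun_isClassFunction T _)] at h1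
    have h2 : ∑ ψ' : IrrCharacter T, f ψ' * n ψ' ψ = f ψ := by
      rw [← Finset.add_sum_erase Finset.univ (fun ψ' : IrrCharacter T => f ψ' * n ψ' ψ)
        (Finset.mem_univ ψ), (hdiag ψ h0).1, mul_one]
      have h3 : ∑ ψ' ∈ Finset.univ.erase ψ, f ψ' * n ψ' ψ = 0 := by
        apply Finset.sum_eq_zero
        intro ψ' hψ'
        by_cases hf' : f ψ' = 0
        · rw [hf', zero_mul]
        · rw [(hdiag ψ h0).2 ψ' (Finset.ne_of_mem_erase hψ') hf', mul_zero]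
      rw [h3, add_zero]
    rw [h2] at h1
    rw [classInner_conj_symm, h1, Complex.conj_natCast]
  refine ⟨?_, ?_, ?_⟩
  · intro ψ hψ
    have h0 := hf0 ψ hψ
    exact ⟨hirr ψ h0, by rw [hmult ψ h0, hfψ ψ]⟩
  · intro ψ ψ' hψ hψ' heq
    by_contra hne
    have h0 := hf0 ψ hψ
    have h0' := hf0 ψ' hψ'
    have h1 := (hdiag ψ h0).2 ψ' (fun h => hne h.symm) h0'
    have h2 := hn ψ' ψ
    rw [← heq, hn ψ ψ, (hdiag ψ h0).1, h1] at h2
    norm_num at h2
  · intro χ hχ hcon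
    have hχcf : IsClassFunction G χ :=
      isCharacter_isClassFunction (isCharacter_of_isIrrCharacter hχ)
    have h1 : classInner (indFun H ϑ) χ ≠ 0 := by
      rw [classInner_indFun H ϑ χ hχcf, classInner_conj_symm]
      intro h
      apply hcon
      have h' := congrArg (starRingEnd ℂ) h
      simpa using h'
    rw [hstar χ hχcf] at h1
    obtain ⟨ψ, _, hψ⟩ := Finset.exists_ne_zero_of_sum_ne_zero h1
    have h0 : f ψ ≠ 0 := by
      intro h; apply hψ; rw [h]; simp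
    have hne : classInner (indFun T (ψ : T → ℂ)) χ ≠ 0 := by
      intro h; apply hψ; rw [h, mul_zero]
    refine ⟨ψ, ?_, ?_⟩
    · rw [hfψ ψ]; exact Nat.cast_ne_zero.mpr h0
    · have h2 := irr_orthonormal (⟨indFun T (ψ : T → ℂ), hirr ψ h0⟩ : IrrCharacter G) ⟨χ, hχ⟩
      by_contra hne'
      rw [if_neg (fun h => hne' (congrArg Subtype.val h))] at h2
      exact hne h2

end Cfsg.Agent.Helper5
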