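import Mathlib

/-!
helper5: lemmas on finite nonabelian simple groups (Burnside transfer consequences, Sylow counts).
-/

namespace Cfsg.Agent.Helper5

/-- A finite simple `p`-group is commutative. -/
theorem isMulCommutative_of_simple_pGroup {G : Type*} [Group G] [Finite G] [IsSimpleGroup G]
    {p : ℕ} [Fact p.Prime] (hGp : IsPGroup p G) : IsMulCommutative G := by
  have : Nontrivial G := IsSimpleGroup.toNontrivial
  have hZ := hGp.center_nontrivial
  rcases (Subgroup.instNormalCenter : (Subgroup.center G).Normal).eq_bot_or_eq_top with h0 | h0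
  · exact absurd h0 ((Subgroup.nontrivial_iff_ne_bot _).mp hZ)
  · refine ⟨⟨fun a b => ?_⟩⟩
    have : a ∈ Subgroup.center G := h0 ▸ Subgroup.mem_top a
    exact (Subgroup.mem_center_iff.mp this b).symm

/-- Burnside: in a nonabelian finite simple group, no nontrivial Sylow subgroup is central in its
normalizer. -/
theorem not_normalizer_le_centralizer {G : Type*} [Group G] [Finite G] [IsSimpleGroup G]
    (hG : ¬ IsMulCommutative G) {p : ℕ} [Fact p.Prime] (P : Sylow p G)
    (hP : (P : Subgroup G) ≠ ⊥) :
    ¬ (Subgroup.normalizer ((P : Subgroup G) : Set G) ≤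
      Subgroup.centralizer ((P : Subgroup G) : Set G)) := by
  intro hle
  have hcomp := MonoidHom.ker_transferSylow_isComplement' P hle
  rcases (MonoidHom.normal_ker (MonoidHom.transferSylow P hle)).eq_bot_or_eq_top with h | h
  · rw [h] at hcomp
    have hPtop : (P : Subgroup G) = ⊤ := Subgroup.isComplement'_bot_left.mp hcomp
    have hGp : IsPGroup p G := by
      intro g
      obtain ⟨k, hk⟩ := P.2 ⟨g, by rw [hPtop]; trivial⟩
      exact ⟨k, by simpa using congrArg Subtype.val hk⟩
    exact hG (isMulCommutative_of_simple_pGroup hGp)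
  · rw [h] at hcomp
    exact hP (Subgroup.isComplement'_top_left.mp hcomp)

/-- In a nonabelian finite simple group no Sylow subgroup is normal unless trivial. -/
theorem sylow_not_normal {G : Type*} [Group G] [Finite G] [IsSimpleGroup G]
    (hG : ¬ IsMulCommutative G) {p : ℕ} [Fact p.Prime] (P : Sylow p G)
    (hP : (P : Subgroup G) ≠ ⊥) : ¬ (P : Subgroup G).Normal := by
  intro hn
  rcases hn.eq_bot_or_eq_top with h | h
  · exact hP h
  · have hGp : IsPGroup p G := by
      intro g
      obtain ⟨k, hk⟩ := P.2 ⟨g, by rw [h]; trivial⟩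
      exact ⟨k, by simpa using congrArg Subtype.val hk⟩
    exact hG (isMulCommutative_of_simple_pGroup hGp)

/-- The automorphism group of a Klein four group has order dividing `6`. -/
theorem card_mulAut_kleinFour_dvd {V : Type*} [Group V] [IsKleinFour V] :
    Nat.card (MulAut V) ∣ 6 := by
  classical
  have : Finite V := Nat.finite_of_card_ne_zero (by rw [IsKleinFour.card_four]; norm_num)
  let f : MulAut V →* Equiv.Perm {x : V // x ≠ 1} :=
    { toFun := fun α =>
        ⟨fun x => ⟨α x.1, by simpa using x.2⟩, fun x => ⟨α⁻¹ x.1, by simpa using x.2⟩,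
          fun x => by ext; simp, fun x => by ext; simp⟩
      map_one' := by ext; rfl
      map_mul' := fun a b => by ext; rfl }
  have hf : Function.Injective f := by
    intro a b hab
    ext x
    by_cases hx : x = 1
    · simp [hx]
    · have := congrArg (fun σ : Equiv.Perm {x : V // x ≠ 1} => ((σ ⟨x, hx⟩ : {x : V // x ≠ 1}) : V)) hab
      exact this
  have h1 := Subgroup.card_dvd_of_injective f hf
  have h2 : Nat.card (Equiv.Perm {x : V // x ≠ 1}) = 6 := by
    have h3 : Nat.card {x : V // x ≠ 1} = 3 := by
      have : Fintype V := Fintype.ofFinite V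
      rw [Nat.card_eq_fintype_card, Fintype.card_subtype_compl, Fintype.card_subtype_eq,
        ← Nat.card_eq_fintype_card, IsKleinFour.card_four]
    rw [Nat.card_perm, h3]; rfl
  rwa [h2] at h1

/-- A finite simple group whose order is not prime is not commutative. -/
theorem not_comm_of_not_prime {G : Type*} [Group G] [Finite G] [IsSimpleGroup G]
    (h : ¬ (Nat.card G).Prime) : ¬ IsMulCommutative G := by
  intro hc
  let _ : CommGroup G := { (inferInstance : Group G) with mul_comm := hc.is_comm.comm }
  exact h (IsSimpleGroup.prime_card (α := G))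

theorem sylow_card_eq {G : Type*} [Group G] [Finite G] {p k m : ℕ} [Fact p.Prime]
    (hG : Nat.card G = p ^ k * m) (hm : ¬ p ∣ m) (P : Sylow p G) : Nat.card P = p ^ k := by
  have hp : p.Prime := Fact.out
  have hm0 : m ≠ 0 := by rintro rfl; exact hm (dvd_zero p)
  rw [P.card_eq_multiplicity, hG, Nat.factorization_mul (pow_ne_zero k hp.ne_zero) hm0,
    Nat.factorization_pow]
  simp [hp.factorization_self, Nat.factorization_eq_zero_of_not_dvd hm]

theorem sylow_index_eq {G : Type*} [Group G] [Finite G] {p k m : ℕ} [Fact p.Prime]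
    (hG : Nat.card G = p ^ k * m) (hm : ¬ p ∣ m) (P : Sylow p G) :
    (P : Subgroup G).index = m := by
  have hp : p.Prime := Fact.out
  have h1 := Subgroup.card_mul_index (P : Subgroup G)
  rw [hG] at h1
  have h2 : Nat.card (P : Subgroup G) = p ^ k := sylow_card_eq hG hm P
  rw [h2] at h1
  exact Nat.eq_of_mul_eq_mul_left (pow_pos hp.pos k) h1

theorem card_sylow_dvd {G : Type*} [Group G] [Finite G] {p k m : ℕ} [Fact p.Prime]
    (hG : Nat.card G = p ^ k * m) (hm : ¬ p ∣ m) : Nat.card (Sylow p G) ∣ m := by
  have P : Sylow p G := default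
  rw [← sylow_index_eq hG hm P]; exact P.card_dvd_index

theorem card_sylow_ne_one {G : Type*} [Group G] [Finite G] [IsSimpleGroup G]
    (hG : ¬ IsMulCommutative G) {p : ℕ} [Fact p.Prime] (P : Sylow p G)
    (hP : (P : Subgroup G) ≠ ⊥) : Nat.card (Sylow p G) ≠ 1 := by
  intro h
  have : Subsingleton (Sylow p G) := (Nat.card_eq_one_iff_unique.mp h).1
  exact sylow_not_normal hG P hP (P.normal_of_subsingleton)

/-- A nonabelian finite simple group acts faithfully on its Sylow `p`-subgroups. -/
theorem sylow_perm_injective {G : Type*} [Group G] [Finite G] [IsSimpleGroup G]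
    (hG : ¬ IsMulCommutative G) {p : ℕ} [Fact p.Prime] (P : Sylow p G)
    (hP : (P : Subgroup G) ≠ ⊥) :
    Function.Injective (MulAction.toPermHom G (Sylow p G)) := by
  rw [← MonoidHom.ker_eq_bot_iff]
  rcases (MonoidHom.normal_ker (MulAction.toPermHom G (Sylow p G))).eq_bot_or_eq_top with h | h
  · exact h
  · exfalso
    apply sylow_not_normal hG P hP
    rw [← Subgroup.normalizer_eq_top_iff, eq_top_iff]
    intro g _
    have hg : g ∈ (MulAction.toPermHom G (Sylow p G)).ker := h ▸ Subgroup.mem_top g
    rw [MonoidHom.mem_ker] at hg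
    have h1 : g • P = P := by
      have := congrArg (fun σ : Equiv.Perm (Sylow p G) => σ P) hg
      simpa using this
    exact Sylow.smul_eq_iff_mem_normalizer.mp h1

/-- `|G|` divides `n_p !` for a nonabelian finite simple group. -/
theorem card_dvd_factorial_card_sylow {G : Type*} [Group G] [Finite G] [IsSimpleGroup G]
    (hG : ¬ IsMulCommutative G) {p : ℕ} [Fact p.Prime] (P : Sylow p G)
    (hP : (P : Subgroup G) ≠ ⊥) : Nat.card G ∣ (Nat.card (Sylow p G)).factorial := by
  have := Subgroup.card_dvd_of_injective _ (sylow_perm_injective hG P hP)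
  rwa [Nat.card_perm] at this

/-- `N_G(H)/C_G(H)` embeds in `Aut(H)`. -/
theorem relIndex_centralizer_dvd_card_mulAut {G : Type*} [Group G] (H : Subgroup G) :
    (Subgroup.centralizer (H : Set G)).relIndex (Subgroup.normalizer (H : Set G)) ∣
      Nat.card (MulAut H) := by
  have key := Subgroup.card_dvd_of_injective _
    (QuotientGroup.kerLift_injective H.normalizerMonoidHom)
  rwa [Subgroup.normalizerMonoidHom_ker, ← Subgroup.index, ← Subgroup.relIndex] at key

theorem normalizer_le_centralizer_of_coprime {G : Type*} [Group G] [Finite G] (H : Subgroup G)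
    (h : Nat.Coprime (Nat.card (MulAut H)) (Nat.card (Subgroup.normalizer (H : Set G)))) :
    Subgroup.normalizer (H : Set G) ≤ Subgroup.centralizer (H : Set G) := by
  have h1 := relIndex_centralizer_dvd_card_mulAut H
  have h2 : (Subgroup.centralizer (H : Set G)).relIndex (Subgroup.normalizer (H : Set G)) ∣
      Nat.card (Subgroup.normalizer (H : Set G)) := Subgroup.relIndex_dvd_card _ _
  exact Subgroup.relIndex_eq_one.mp (Nat.eq_one_of_dvd_coprimes h h1 h2)

theorem exists_mem_dvd_of_prime_dvd_lcm {a : ℕ} (ha : a.Prime) (s : Multiset ℕ)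
    (h : a ∣ s.lcm) : ∃ x ∈ s, a ∣ x := by
  induction s using Multiset.induction_on with
  | empty =>
    simp only [Multiset.lcm_zero] at h
    exact absurd (Nat.dvd_one.mp h) ha.ne_one
  | cons x s ih =>
    rw [Multiset.lcm_cons] at h
    have h2 : a ∣ x * s.lcm := h.trans (Nat.lcm_dvd_mul x s.lcm)
    rcases ha.dvd_mul.mp h2 with h3 | h3
    · exact ⟨x, Multiset.mem_cons_self x s, h3⟩
    · obtain ⟨y, hy, hay⟩ := ih h3
      exact ⟨y, Multiset.mem_cons_of_mem hy, hay⟩

/-- A permutation whose order is divisible by two distinct primes `a`, `b` moves at least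
`a + b` points. -/
theorem perm_two_primes_le {α : Type*} [Fintype α] [DecidableEq α] (σ : Equiv.Perm α) {a b : ℕ}
    (ha : a.Prime) (hb : b.Prime) (hab : a ≠ b) (hda : a ∣ orderOf σ) (hdb : b ∣ orderOf σ) :
    a + b ≤ Fintype.card α := by
  rw [← Equiv.Perm.lcm_cycleType] at hda hdb
  obtain ⟨x, hx, hax⟩ := exists_mem_dvd_of_prime_dvd_lcm ha _ hda
  obtain ⟨y, hy, hby⟩ := exists_mem_dvd_of_prime_dvd_lcm hb _ hdb
  have hsum := σ.sum_cycleType_le
  have hx2 := Equiv.Perm.two_le_of_mem_cycleType hx
  have hy2 := Equiv.Perm.two_le_of_mem_cycleType hy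
  by_cases hxy : x = y
  · subst hxy
    have hab' : a * b ∣ x := ((Nat.coprime_primes ha hb).mpr hab).mul_dvd_of_dvd_of_dvd hax hby
    have h1 : a * b ≤ x := Nat.le_of_dvd (by omega) hab'
    have h2 : x ≤ σ.cycleType.sum := Multiset.le_sum_of_mem hx
    have h3 : a + b ≤ a * b := by nlinarith [ha.two_le, hb.two_le]
    omega
  · obtain ⟨t, ht⟩ := Multiset.exists_cons_of_mem hx
    rw [ht] at hy hsum
    rw [Multiset.mem_cons] at hy
    rcases hy with hy | hy
    · exact absurd hy.symm hxy
    · have h2 : y ≤ t.sum := Multiset.le_sum_of_mem hy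
      rw [Multiset.sum_cons] at hsum
      have h3 : a ≤ x := Nat.le_of_dvd (by omega) hax
      have h4 : b ≤ y := Nat.le_of_dvd (by omega) hby
      omega

/-- A nonabelian finite simple group acts faithfully on the cosets of any proper subgroup. -/
theorem toPermHom_quotient_injective {G : Type*} [Group G] [IsSimpleGroup G]
    (H : Subgroup G) (hH : H ≠ ⊤) :
    Function.Injective (MulAction.toPermHom G (G ⧸ H)) := by
  rw [← MonoidHom.ker_eq_bot_iff]
  rcases (MonoidHom.normal_ker (MulAction.toPermHom G (G ⧸ H))).eq_bot_or_eq_top with h | h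
  · exact h
  · exfalso
    apply hH
    rw [← Subgroup.normalCore_eq_ker] at h
    exact top_unique (h ▸ Subgroup.normalCore_le H)

/-- `|G|` divides `[G:H]!` for a proper subgroup `H` of a finite simple group. -/
theorem card_dvd_factorial_index {G : Type*} [Group G] [Finite G] [IsSimpleGroup G]
    (H : Subgroup G) (hH : H ≠ ⊤) : Nat.card G ∣ (H.index).factorial := by
  have := Subgroup.card_dvd_of_injective _ (toPermHom_quotient_injective H hH)
  rwa [Nat.card_perm] at this

/-- Every element of a nonabelian finite simple group acts as an even permutation. -/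
theorem sign_toPermHom_eq_one {G : Type*} [Group G] [IsSimpleGroup G]
    (hG : ¬ IsMulCommutative G) {Ω : Type*} [Fintype Ω] [DecidableEq Ω] [MulAction G Ω] (g : G) :
    Equiv.Perm.sign (MulAction.toPermHom G Ω g) = 1 := by
  have hker := (MonoidHom.normal_ker
    ((Equiv.Perm.sign (α := Ω)).comp (MulAction.toPermHom G Ω))).eq_bot_or_eq_top
  rcases hker with h | h
  · exfalso
    apply hG
    refine ⟨⟨fun a b => ?_⟩⟩
    have hinj := (MonoidHom.ker_eq_bot_iff _).mp h
    apply hinj
    rw [map_mul, map_mul, mul_comm]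
  · have hg : g ∈ ((Equiv.Perm.sign (α := Ω)).comp (MulAction.toPermHom G Ω)).ker :=
      h ▸ Subgroup.mem_top g
    exact MonoidHom.mem_ker.mp hg

/-- The sign of an involution in terms of its number of fixed points. -/
theorem sign_of_orderOf_two {α : Type*} [Fintype α] [DecidableEq α] (σ : Equiv.Perm α)
    (hσ : orderOf σ = 2) :
    Equiv.Perm.sign σ =
      (-1) ^ ((Fintype.card α - Fintype.card (Function.fixedPoints σ)) / 2) := by
  obtain ⟨k, hk⟩ := Equiv.Perm.cycleType_prime_order (σ := σ) (by rw [hσ]; exact Nat.prime_two)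
  rw [hσ] at hk
  have h2 : σ.cycleType = Multiset.replicate (Multiset.card σ.cycleType) 2 := by
    rw [hk, Multiset.card_replicate]
  have := Equiv.Perm.sign_of_cycleType_eq_replicate (by norm_num : 0 < 2) h2
  rw [this, if_neg (by decide)]

end Cfsg.Agent.Helper5
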